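import Groth.Prelude.Def_BlowUp2
import Groth.Agent.Lib.StrictTr.Basic
import Groth.Agent.Lib.BlowUp.Universal
import Groth.Agent.Lib.Nagata6.Modification
import Groth.Agent.Lib.Nagata6.ExtendIdeal

/-!
# The ideal of sections killed by a power of an ideal of finite type
-/

set_option autoImplicit false
set_option backward.isDefEq.respectTransparency false
universe u

open CategoryTheory CategoryTheory.Limits AlgebraicGeometry Opposite TopologicalSpace

namespace GrothLib.FlatBlow1

variable {X : Scheme.{u}}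

/-- The open complement of the support. -/
def off (E : X.IdealSheafData) : X.Opens := E.support.compl

theorem isCompact_inter_compl_support {E : X.IdealSheafData} (hE : BlowUp.IsFiniteTypeIdeal E) (V : X.affineOpens) :
    IsCompact ((V.1 : Set X) ∩ ((off E) : Set X)) := by
  classical
  obtain ⟨s, hs⟩ := hE V
  have : (V.1 : Set X) ∩ ((off E) : Set X) = ⋃ e ∈ s, (X.basicOpen e : Set X) := by
    ext x
    simp only [Set.mem_inter_iff, Set.mem_iUnion, SetLike.mem_coe]
    constructor
    · rintro ⟨hxV, hx⟩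
      have hx' : x ∉ E.support := hx
      rw [Scheme.IdealSheafData.mem_support_iff_of_mem hxV, ← hs, Scheme.mem_zeroLocus_iff] at hx'
      by_contra hc
      push_neg at hc
      apply hx'
      intro f hf hxf
      have key : ∀ g ∈ Ideal.span (s : Set Γ(X, V.1)), ¬ IsUnit (X.presheaf.germ V.1 x hxV g) := by
        intro g hg
        let φ := (X.presheaf.germ V.1 x hxV).hom
        have hle : Ideal.span (s : Set Γ(X, V.1)) ≤ (IsLocalRing.maximalIdeal _).comap φ :=
          Ideal.span_le.2 fun e he => (IsLocalRing.mem_maximalIdeal _).2 fun hu => hc e he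
            ((Scheme.mem_basicOpen _ _ _ hxV).2 hu)
        exact (IsLocalRing.mem_maximalIdeal _).1 (hle hg)
      exact key f hf ((Scheme.mem_basicOpen _ _ _ hxV).1 hxf)
    · rintro ⟨e, he, hxe⟩
      refine ⟨X.basicOpen_le e hxe, fun hx => ?_⟩
      exact Set.disjoint_left.1 (GrothLib.BlowUp.disjoint_basicOpen_support (hs ▸ Ideal.subset_span he)) hxe hx
  rw [this]
  exact s.isCompact_biUnion fun e _ => (V.2.basicOpen e).isCompact

theorem quasiCompact_ι_compl_support {E : X.IdealSheafData} (hE : BlowUp.IsFiniteTypeIdeal E) :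
    QuasiCompact (off E).ι := by
  refine quasiCompact_iff_forall_isAffineOpen.2 fun V hV => ?_
  rw [(off E).ι.isOpenEmbedding.isInducing.isCompact_iff, Scheme.Hom.coe_preimage,
    Set.image_preimage_eq_inter_range, Scheme.Opens.range_ι]
  exact isCompact_inter_compl_support hE ⟨V, hV⟩

theorem pow_ideal (E : X.IdealSheafData) (n : ℕ) (V : X.affineOpens) : (E ^ n).ideal V = E.ideal V ^ n := by
  rw [Scheme.IdealSheafData.ideal_pow, Pi.pow_apply]

/-- Killed by a power iff vanishing off the support, for ideals of finite type. -/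
theorem killed_iff_mem_ker {E : X.IdealSheafData} (hE : BlowUp.IsFiniteTypeIdeal E) (V : X.affineOpens)
    (a : Γ(X, V.1)) :
    BlowUp.KilledByPowerNear E (Coh.structureModule X) V a ↔ a ∈ (off E).ι.ker.ideal V := by
  classical
  haveI := quasiCompact_ι_compl_support hE
  rw [Scheme.Hom.ker_apply, RingHom.mem_ker]
  constructor
  · rintro ⟨n, hn⟩
    apply (off E).toScheme.IsSheaf.section_ext
    intro x hxV
    let x' := (off E).ι x
    have hxn : x' ∉ (E ^ n).support := by
      rcases n with - | n
      · rw [pow_zero]; exact fun h => h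
      · rw [Scheme.IdealSheafData.support_pow _ _ n.succ_ne_zero]; exact x.2
    rw [Scheme.IdealSheafData.mem_support_iff_of_mem (show x' ∈ V.1 from hxV), Scheme.mem_zeroLocus_iff] at hxn
    push_neg at hxn
    obtain ⟨e, he, hxe⟩ := hxn
    have h0 : e * a = 0 := hn e he
    letI : Algebra Γ(X, V.1) Γ(X, X.basicOpen e) := (X.presheaf.map (homOfLE (X.basicOpen_le e)).op).hom.toAlgebra
    haveI : IsLocalization.Away e Γ(X, X.basicOpen e) := V.2.isLocalization_basicOpen e
    have ha0 : X.presheaf.map (homOfLE (X.basicOpen_le e)).op a = 0 := by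
      have h := congrArg (algebraMap Γ(X, V.1) Γ(X, X.basicOpen e)) h0
      rw [map_mul, map_zero] at h
      exact (IsLocalization.Away.algebraMap_isUnit e).mul_right_eq_zero.1 h
    refine ⟨(off E).ι ⁻¹ᵁ X.basicOpen e, (fun y hy => X.basicOpen_le e hy), hxe, ?_⟩
    rw [map_zero]
    show (Scheme.Hom.app (off E).ι V.1 ≫ (off E).toScheme.presheaf.map _) a = 0
    have := congrArg (Scheme.Hom.app (off E).ι (X.basicOpen e)) ha0
    rw [map_zero, ← CommRingCat.comp_apply, Scheme.Hom.naturality] at this
    exact this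
  · intro ha
    obtain ⟨s, hs⟩ := hE V
    have hrad : E.ideal V ≤ (Submodule.colon (⊥ : Ideal Γ(X, V.1)) {a}).radical := by
      rw [← hs, Ideal.span_le]
      intro e he
      have hD : X.basicOpen e ≤ (off E) := fun x hx hx' =>
        Set.disjoint_left.1 (GrothLib.BlowUp.disjoint_basicOpen_support (hs ▸ Ideal.subset_span he)) hx hx'
      letI : Algebra Γ(X, V.1) Γ(X, X.basicOpen e) := (X.presheaf.map (homOfLE (X.basicOpen_le e)).op).hom.toAlgebra
      haveI : IsLocalization.Away e Γ(X, X.basicOpen e) := V.2.isLocalization_basicOpen e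
      have h0 : algebraMap Γ(X, V.1) Γ(X, X.basicOpen e) a = 0 := by
        have hinj : Function.Injective ((off E).ι.app (X.basicOpen e)) := by
          haveI : IsIso ((off E).ι.app (X.basicOpen e)) :=
            (off E).ι.isIso_app _ (by rw [Scheme.Opens.opensRange_ι]; exact hD)
          exact (ConcreteCategory.bijective_of_isIso _).1
        apply hinj
        rw [map_zero]
        show (X.presheaf.map _ ≫ (off E).ι.app (X.basicOpen e)) a = 0
        rw [Scheme.Hom.naturality, CommRingCat.comp_apply, ha, map_zero]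
      obtain ⟨⟨_, n, rfl⟩, hn⟩ := (IsLocalization.map_eq_zero_iff (Submonoid.powers e) _ a).1 h0
      exact ⟨n, Submodule.mem_colon_singleton.2 (by rw [Submodule.mem_bot, smul_eq_mul]; exact hn)⟩
    obtain ⟨n, hn⟩ := Ideal.exists_pow_le_of_le_radical_of_fg hrad (hs ▸ ⟨s, rfl⟩)
    refine ⟨n, fun e he => ?_⟩
    rw [pow_ideal] at he
    have := Submodule.mem_colon_singleton.1 (hn he)
    rw [Submodule.mem_bot] at this
    exact this

/-- Existence of the strict transform ideal. -/
theorem exists_strictIdeal {E : X.IdealSheafData} (hE : BlowUp.IsFiniteTypeIdeal E) :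
    ∃ 𝒥 : X.IdealSheafData, ∀ (V : X.affineOpens) (a : Γ(X, V.1)), a ∈ 𝒥.ideal V ↔
      BlowUp.KilledByPowerNear E (Coh.structureModule X) V a :=
  ⟨_, fun V a => (killed_iff_mem_ker hE V a).symm⟩

/-- The strict transform is everything off the support. -/
theorem isIso_subschemeι_restrict {E 𝒥 : X.IdealSheafData}
    (h𝒥 : ∀ (V : X.affineOpens) (a : Γ(X, V.1)), a ∈ 𝒥.ideal V ↔
      BlowUp.KilledByPowerNear E (Coh.structureModule X) V a)
    (O : X.Opens) (hO : O ≤ (off E)) : IsIso (𝒥.subschemeι ∣_ O) := by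
  haveI : IsClosedImmersion (𝒥.subschemeι ∣_ O) :=
    MorphismProperty.of_isPullback (isPullback_morphismRestrict 𝒥.subschemeι O).flip inferInstance
  refine IsClosedImmersion.isIso_iff_ker_eq_bot.2 ?_
  refine Scheme.IdealSheafData.ext (funext fun V => ?_)
  rw [Scheme.IdealSheafData.ideal_bot, Pi.bot_apply, eq_bot_iff]
  intro a ha
  let V' : X.affineOpens := ⟨O.ι ''ᵁ V.1, V.2.image_of_isOpenImmersion O.ι⟩
  rw [Scheme.Hom.ker_apply, RingHom.mem_ker, morphismRestrict_app] at ha
  have hV' : V'.1 ≤ O := fun x ⟨y, _, hy⟩ => hy ▸ y.2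
  have h0 : ∀ c : Γ(X, V'.1), c ∈ 𝒥.ideal V' → c = 0 := fun c hc => by
    obtain ⟨n, hn⟩ := (h𝒥 V' c).1 hc
    have htop : (E ^ n).ideal V' = ⊤ := by
      refine GrothLib.Nagata6.ideal_eq_top_of_disjoint _ V' ?_
      rcases n with - | n
      · rw [pow_zero]; exact Set.disjoint_left.2 fun _ _ h => h
      · rw [Scheme.IdealSheafData.support_pow _ _ n.succ_ne_zero]
        exact Set.disjoint_left.2 fun x hx h => hO (hV' hx) h
    have := hn 1 (htop ▸ Submodule.mem_top)
    rwa [one_smul] at this
  rw [CommRingCat.comp_apply] at ha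
  refine h0 a ?_
  rw [← Scheme.IdealSheafData.ker_subschemeι_app, RingHom.mem_ker]
  exact (map_eq_zero_iff _ ((ConcreteCategory.bijective_of_isIso _).1)).1 ha

end GrothLib.FlatBlow1
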