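import Groth.Agent.Lib.FlatBlow1.Main
import Groth.Agent.Lib.FlatBlow1.Strict
import Groth.Agent.Lib.FgSupport6.Exists

/-!
# Flattening relative to an effective Cartier divisor
-/

set_option autoImplicit false
set_option backward.isDefEq.respectTransparency false
universe u

open CategoryTheory CategoryTheory.Limits AlgebraicGeometry TopologicalSpace

namespace GrothLib.FlatBlow1

variable {X S : Scheme.{u}}

theorem finiteType_of_isEffCartier {I : S.IdealSheafData} (hI : BlowUp.IsEffCartierIdeal I) :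
    BlowUp.IsFiniteTypeIdeal I := by
  choose U hxU f _ hf using hI
  exact fun W => FgSupport6.fg_of_cover I U (fun y => ⟨y, hxU y⟩) (fun y => by
    rw [hf y]; exact ⟨{f y}, by simp⟩) W

theorem isCompact_off [CompactSpace S] {E : S.IdealSheafData} (hE : BlowUp.IsFiniteTypeIdeal E) :
    IsCompact (off E : Set S) := by
  haveI := quasiCompact_ι_compl_support hE
  haveI : CompactSpace (off E).toScheme := QuasiCompact.compactSpace_of_compactSpace (off E).ι
  exact isCompact_iff_compactSpace.2 (inferInstanceAs (CompactSpace ↥(off E).toScheme))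

theorem dense_off {E : S.IdealSheafData} (hE : BlowUp.IsEffCartierIdeal E) : Dense (off E : Set S) :=
  GrothLib.QuasiDom6.dense_compl_support hE

/-- A proper morphism which is an isomorphism over a dense open is surjective. -/
theorem surjective_of_isIso_dense {X S : Scheme.{u}} (t : X ⟶ S) [IsProper t] (U : S.Opens) (hU : Dense (U : Set S))
    [IsIso (t ∣_ U)] : Surjective t := ⟨fun y => by
  have hsub : (U : Set S) ⊆ Set.range t := fun y hy => by
    obtain ⟨z, hz⟩ := (t ∣_ U).surjective ⟨y, hy⟩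
    refine ⟨(t ⁻¹ᵁ U).ι z, ?_⟩
    rw [← Scheme.Hom.comp_apply, ← morphismRestrict_ι, Scheme.Hom.comp_apply, hz]
    rfl
  exact (t.isClosedMap.isClosed_range.closure_subset_iff.2 hsub) (hU y)⟩

set_option maxHeartbeats 1600000 in
/-- Flattening by blow-ups which are isomorphisms off a given effective Cartier divisor. -/
theorem exists_adm_flat [CompactSpace S] [QuasiSeparatedSpace S] (IS : S.IdealSheafData)
    (hS : BlowUp.IsEffCartierIdeal IS) (f : X ⟶ S) [LocallyOfFiniteType f] [QuasiCompact f] [QuasiSeparated f]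
    [Flat (f ∣_ off IS)] [LocallyOfFinitePresentation (f ∣_ off IS)] :
    ∃ (T : Scheme.{u}) (t : T ⟶ S) (X' : Scheme.{u}) (p₁ : X' ⟶ X) (p₂ : X' ⟶ T) (Y : Scheme.{u}) (ι : Y ⟶ X'),
      IsProper t ∧ IsIso (t ∣_ off IS) ∧ BlowUp.IsEffCartierIdeal (IS.comap t) ∧ IsPullback p₁ p₂ f t ∧
      IsClosedImmersion ι ∧ Flat (ι ≫ p₂) ∧ LocallyOfFinitePresentation (ι ≫ p₂) ∧
      QuasiCompact (ι ≫ p₂) ∧ QuasiSeparated (ι ≫ p₂) ∧ IsProper (ι ≫ p₁) ∧
      IsIso ((ι ≫ p₁) ∣_ (f ⁻¹ᵁ off IS)) ∧ BlowUp.IsEffCartierIdeal ((IS.comap f).comap (ι ≫ p₁)) ∧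
      ∀ x : X', f (p₁ x) ∈ off IS → x ∈ Set.range ι := by
  have hfg := finiteType_of_isEffCartier hS
  obtain ⟨P, T, t, hb, hP, hprop, hcart, hsupp, H⟩ := exists_flattening f (off IS) (isCompact_off hfg) IS
    ⟨hfg, Set.disjoint_left.2 fun x hx hx' => hx' hx⟩
  have hUP : off IS = off P := Opens.ext <| Set.ext fun x =>
    ⟨fun h h' => Set.disjoint_left.1 hP.2 h' h, fun h h' => h (hsupp h')⟩
  haveI hiso : IsIso (t ∣_ off IS) := by
    rw [hUP]
    exact GrothLib.BlowUp.isIso_off_center hb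
  let X' := pullback f t
  let p₁ : X' ⟶ X := pullback.fst f t
  let p₂ : X' ⟶ T := pullback.snd f t
  have sq : IsPullback p₁ p₂ f t := IsPullback.of_hasPullback f t
  obtain ⟨𝒥, h𝒥⟩ := exists_strictIdeal (E := (P.comap f).comap p₁)
    (GrothLib.Nagata6.fg_comap' _ (GrothLib.Nagata6.fg_comap' _ hP.1 f) p₁)
  obtain ⟨hflat, hfp, hqc, hqs⟩ := H X' p₁ p₂ sq 𝒥 h𝒥
  have hO : p₁ ⁻¹ᵁ (f ⁻¹ᵁ off IS) ≤ off ((P.comap f).comap p₁) := fun x hx hx' => by
    rw [SetLike.mem_coe, Scheme.IdealSheafData.support_comap, ← SetLike.mem_coe, Closeds.coe_preimage,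
      Set.mem_preimage, Scheme.IdealSheafData.support_comap, Closeds.coe_preimage, Set.mem_preimage] at hx'
    exact Set.disjoint_left.1 hP.2 hx' hx
  haveI h1 : IsIso (𝒥.subschemeι ∣_ (p₁ ⁻¹ᵁ (f ⁻¹ᵁ off IS))) := isIso_subschemeι_restrict h𝒥 _ hO
  haveI h2 : IsIso (p₁ ∣_ (f ⁻¹ᵁ off IS)) :=
    GrothLib.Nagata6.isIso_restrict_of_pullback sq.flip (off IS) (f ⁻¹ᵁ off IS) le_rfl
  haveI : IsProper p₁ := MorphismProperty.of_isPullback sq.flip hprop
  refine ⟨T, t, X', p₁, p₂, 𝒥.subscheme, 𝒥.subschemeι, hprop, hiso, hcart, sq, inferInstance, hflat, hfp, hqc, hqs,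
    inferInstance, ?_, ?_, fun x hx => ?_⟩
  · rw [morphismRestrict_comp]
    infer_instance
  · rw [← Scheme.IdealSheafData.comap_comp, Category.assoc, sq.w, ← Category.assoc, Scheme.IdealSheafData.comap_comp]
    exact GrothLib.BlowUp.isEffCartierIdeal_comap_of_flat _ hcart
  · obtain ⟨z, hz⟩ := (𝒥.subschemeι ∣_ (p₁ ⁻¹ᵁ (f ⁻¹ᵁ off IS))).surjective ⟨x, hx⟩
    refine ⟨(𝒥.subschemeι ⁻¹ᵁ _).ι z, ?_⟩
    rw [← Scheme.Hom.comp_apply, ← morphismRestrict_ι, Scheme.Hom.comp_apply, hz]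
    rfl

end GrothLib.FlatBlow1
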