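import Groth.Agent.Lib.FlatBlow1.Centre
import Mathlib.RingTheory.FinitePresentation
import Mathlib.RingTheory.TensorProduct.MvPolynomial

/-!
# A centre whose blow-up flattens an algebra of finite type
-/

set_option autoImplicit false
set_option backward.isDefEq.respectTransparency false
universe u

open TensorProduct Function

namespace GrothLib.FlatBlow1

attribute [local instance] Algebra.TensorProduct.rightAlgebra

set_option maxHeartbeats 1000000 in
/-- A centre whose blow-up flattens an algebra, for a given presentation. -/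
theorem exists_algebra_centre_aux {R P B : Type u} [CommRing R] [CommRing P] [CommRing B] [Algebra R P] [Algebra R B]
    [Algebra P B] [IsScalarTower R P B] [Algebra.FinitePresentation R P] (hπ : Surjective (algebraMap P B))
    (T : Finset R)
    (hfp : ∀ f ∈ T, Algebra.FinitePresentation R (Localization.Away (algebraMap R B f)))
    (hflat : ∀ f ∈ T, Module.Flat R (Localization.Away (algebraMap R B f))) :
    ∃ I : Ideal R, I.FG ∧ I ≤ Ideal.span (T : Set R) ∧ Ideal.span (T : Set R) ≤ I.radical ∧
      ∀ (R' : Type u) [CommRing R'] [Algebra R R'] (e : R'), e ∈ nonZeroDivisors R' →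
        ∀ O : Ideal R', I.map (algebraMap R R') * O = Ideal.span {e} → ∀ (p' : Ideal R') [p'.IsPrime],
          ∃ s : R', s ∉ p' ∧ ∀ (R'' : Type u) [CommRing R''] [Algebra R' R''] [Algebra R R''] [IsScalarTower R R' R''],
            algebraMap R' R'' e ∈ nonZeroDivisors R'' → IsUnit (algebraMap R' R'' s) →
            ∀ (B'' : Type u) [CommRing B''] [Algebra B B''] [Algebra R'' B''] [Algebra R B''] [IsScalarTower R R'' B'']
              [IsScalarTower R B B''] [Algebra.IsPushout R R'' B B''] (J : Ideal B''),
              (∀ a, a ∈ J ↔ ∃ n : ℕ, algebraMap R'' B'' (algebraMap R' R'' e) ^ n * a = 0) →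
              Module.Flat R'' (B'' ⧸ J) ∧ Algebra.FinitePresentation R'' (B'' ⧸ J) := by
  classical
  let π := IsScalarTower.toAlgHom R P B
  haveI : Module.Finite P B := Module.Finite.of_surjective (Algebra.linearMap P B) hπ
  have hloc : ∀ f : R, IsLocalizedModule (Submonoid.powers (algebraMap R P f))
      (IsScalarTower.toAlgHom P B (Localization.Away (algebraMap R B f))).toLinearMap := fun f => by
    refine isLocalizedModule_iff_isLocalization.2 ?_
    have h : Algebra.algebraMapSubmonoid B (Submonoid.powers (algebraMap R P f)) =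
        Submonoid.powers (algebraMap R B f) := by
      rw [Algebra.algebraMapSubmonoid, Submonoid.map_powers, IsScalarTower.algebraMap_apply R P B]
    rw [h]; infer_instance
  obtain ⟨I, hI1, hI2, hI3, hI⟩ := exists_flat_centre (B := P) (M := B) T (fun f hf => by
      haveI := hfp f hf
      let A := Localization.Away (algebraMap R P f)
      let N := Localization.Away (algebraMap R B f)
      have hu : IsUnit (IsScalarTower.toAlgHom R B N (π (algebraMap R P f))) := by
        rw [π.commutes]
        exact IsLocalization.Away.algebraMap_isUnit (algebraMap R B f)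
      letI : Algebra A N := (IsLocalization.Away.lift (S := A) (algebraMap R P f)
        (g := ((IsScalarTower.toAlgHom R B N).comp π).toRingHom) hu).toAlgebra
      haveI : IsScalarTower P A N := IsScalarTower.of_algebraMap_eq fun x =>
        (IsLocalization.Away.lift_eq (S := A) (algebraMap R P f)
          (g := ((IsScalarTower.toAlgHom R B N).comp π).toRingHom) hu x).symm
      haveI : IsScalarTower R A N := IsScalarTower.of_algebraMap_eq fun r => by
        rw [IsScalarTower.algebraMap_apply R P A, ← IsScalarTower.algebraMap_apply P A N,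
          ← IsScalarTower.algebraMap_apply R P N]
      refine ⟨A, N, inferInstance, inferInstance, inferInstance, inferInstance, inferInstance, inferInstance,
        inferInstance, _, hloc f, ?_⟩
      haveI := hloc f
      have hsurj : Surjective (algebraMap A N) := fun z => by
        obtain ⟨⟨b, ⟨_, k, rfl⟩⟩, hb⟩ := IsLocalization.surj (Submonoid.powers (algebraMap R B f)) z
        obtain ⟨x, rfl⟩ := hπ b
        refine ⟨IsLocalization.mk' A x (⟨algebraMap R P f ^ k, k, rfl⟩ : Submonoid.powers (algebraMap R P f)), ?_⟩
        have hu' : IsUnit (algebraMap A N (algebraMap P A (algebraMap R P f ^ k))) :=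
          ((IsLocalization.map_units A (⟨_, k, rfl⟩ : Submonoid.powers (algebraMap R P f))).map _)
        refine hu'.mul_left_injective ?_
        show algebraMap A N (IsLocalization.mk' A x _) * algebraMap A N (algebraMap P A _) = z * _
        rw [← map_mul, IsLocalization.mk'_spec, ← IsScalarTower.algebraMap_apply P A N, ← IsScalarTower.algebraMap_apply P A N]
        refine hb.symm.trans ?_
        rw [IsScalarTower.algebraMap_apply P B N, map_pow (algebraMap P B), ← IsScalarTower.algebraMap_apply R P B]
      have hk := Algebra.FinitePresentation.ker_fG_of_surjective (IsScalarTower.toAlgHom R A N) hsurj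
      exact Module.finitePresentation_of_surjective (Algebra.linearMap A N) hsurj hk)
    (fun f hf => by
      haveI := hflat f hf
      haveI := hloc f
      exact Module.Flat.of_linearEquiv ((IsLocalizedModule.linearEquiv (Submonoid.powers (algebraMap R P f))
        (LocalizedModule.mkLinearMap (Submonoid.powers (algebraMap R P f)) B)
        (IsScalarTower.toAlgHom P B (Localization.Away (algebraMap R B f))).toLinearMap).restrictScalars R))
  refine ⟨I, hI1, hI2, hI3, fun R' _ _ e he O hO p' _ => ?_⟩
  obtain ⟨s, hs, hnear⟩ := hI R' e he O hO p'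
  refine ⟨s, hs, fun R'' _ _ _ _ he'' hu B'' _ _ _ _ _ _ _ J hJ => ?_⟩
  let P'' := R'' ⊗[R] P
  letI : Algebra P B'' := ((algebraMap B B'').comp (algebraMap P B)).toAlgebra
  haveI : IsScalarTower P B B'' := IsScalarTower.of_algebraMap_eq' rfl
  haveI : IsScalarTower R P B'' := IsScalarTower.of_algebraMap_eq fun r => by
    rw [IsScalarTower.algebraMap_apply P B B'', ← IsScalarTower.algebraMap_apply R P B,
      ← IsScalarTower.algebraMap_apply R B B'']
  letI : Algebra P'' B'' := (Algebra.TensorProduct.lift (IsScalarTower.toAlgHom R'' R'' B'')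
    (IsScalarTower.toAlgHom R P B'') fun _ _ => Commute.all _ _).toRingHom.toAlgebra
  haveI : IsScalarTower R'' P'' B'' := IsScalarTower.of_algebraMap_eq (R := R'') (S := P'') (A := B'') fun c => by
    show _ = (Algebra.TensorProduct.lift _ _ _) (c ⊗ₜ[R] (1 : P))
    rw [Algebra.TensorProduct.lift_tmul, map_one, mul_one]
    rfl
  haveI : IsScalarTower P P'' B'' := IsScalarTower.of_algebraMap_eq (R := P) (S := P'') (A := B'') fun c => by
    show _ = (Algebra.TensorProduct.lift _ _ _) ((1 : R'') ⊗ₜ[R] c)
    rw [Algebra.TensorProduct.lift_tmul, map_one, one_mul]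
    rfl
  haveI : IsScalarTower R P'' B'' := IsScalarTower.of_algebraMap_eq fun c => by
    rw [IsScalarTower.algebraMap_apply R R'' P'', ← IsScalarTower.algebraMap_apply R'' P'' B'',
      ← IsScalarTower.algebraMap_apply R R'' B'']
  haveI : Algebra.IsPushout R B R'' B'' := Algebra.IsPushout.symm inferInstance
  haveI : Algebra.IsPushout P B P'' B'' := (Algebra.IsPushout.comp_iff R P R'' P'' (T := B) (T' := B'')).1 inferInstance
  have hbc : IsBaseChange P'' (IsScalarTower.toAlgHom P B B'').toLinearMap :=
    (Algebra.IsPushout.symm (inferInstance : Algebra.IsPushout P B P'' B'')).out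
  obtain ⟨hfl, hfpm⟩ := hnear R'' he'' hu P'' B'' _ hbc
  let q : B'' →ₗ[P''] B'' ⧸ J := (IsScalarTower.toAlgHom P'' B'' (B'' ⧸ J)).toLinearMap
  have hq : Surjective q := Ideal.Quotient.mk_surjective
  have hker : LinearMap.ker q = FlatCA.powTorsion P'' (algebraMap R'' P'' (algebraMap R' R'' e)) B'' := by
    ext a
    rw [LinearMap.mem_ker, Fitting.mem_powTorsion_iff]
    show Ideal.Quotient.mk J a = 0 ↔ _
    rw [Ideal.Quotient.eq_zero_iff_mem, hJ]
    refine exists_congr fun k => ?_
    rw [Algebra.smul_def, map_pow, ← IsScalarTower.algebraMap_apply R'' P'' B'']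
  let E := (Submodule.quotEquivOfEq _ _ hker.symm).trans (LinearMap.quotKerEquivOfSurjective q hq)
  refine ⟨Module.Flat.of_linearEquiv (E.restrictScalars R'').symm, ?_⟩
  haveI := hfpm
  haveI : Module.FinitePresentation P'' (B'' ⧸ J) := Module.FinitePresentation.of_equiv E
  let φ : P'' →ₗ[P''] B'' ⧸ J := Algebra.linearMap P'' (B'' ⧸ J)
  have hφ : Surjective φ := fun z => by
    obtain ⟨b, rfl⟩ := hq z
    refine hbc.inductionOn b (fun b : B'' => ∃ a, φ a = q b) ⟨0, by simp⟩ (fun x => ?_) (fun c x hx => ?_) fun x y hx hy => ?_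
    · obtain ⟨a, rfl⟩ := hπ x
      refine ⟨algebraMap P P'' a, ?_⟩
      show algebraMap P'' (B'' ⧸ J) (algebraMap P P'' a) = Ideal.Quotient.mk J (algebraMap B B'' (algebraMap P B a))
      rw [IsScalarTower.algebraMap_apply P'' B'' (B'' ⧸ J), ← IsScalarTower.algebraMap_apply P P'' B'',
        IsScalarTower.algebraMap_apply P B B'']
      rfl
    · obtain ⟨a, ha⟩ := hx
      exact ⟨c • a, by rw [map_smul, map_smul, ha]⟩
    · obtain ⟨a, ha⟩ := hx
      obtain ⟨a', ha'⟩ := hy
      exact ⟨a + a', by rw [map_add, map_add, ha, ha']⟩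
  exact Algebra.FinitePresentation.of_surjective (f := IsScalarTower.toAlgHom R'' P'' (B'' ⧸ J)) hφ
    (Module.FinitePresentation.fg_ker φ hφ)


/-- **A centre whose blow-up flattens an algebra.** -/
theorem exists_algebra_centre {R B : Type u} [CommRing R] [CommRing B] [Algebra R B] [Algebra.FiniteType R B]
    (T : Finset R)
    (hfp : ∀ f ∈ T, Algebra.FinitePresentation R (Localization.Away (algebraMap R B f)))
    (hflat : ∀ f ∈ T, Module.Flat R (Localization.Away (algebraMap R B f))) :
    ∃ I : Ideal R, I.FG ∧ I ≤ Ideal.span (T : Set R) ∧ Ideal.span (T : Set R) ≤ I.radical ∧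
      ∀ (R' : Type u) [CommRing R'] [Algebra R R'] (e : R'), e ∈ nonZeroDivisors R' →
        ∀ O : Ideal R', I.map (algebraMap R R') * O = Ideal.span {e} → ∀ (p' : Ideal R') [p'.IsPrime],
          ∃ s : R', s ∉ p' ∧ ∀ (R'' : Type u) [CommRing R''] [Algebra R' R''] [Algebra R R''] [IsScalarTower R R' R''],
            algebraMap R' R'' e ∈ nonZeroDivisors R'' → IsUnit (algebraMap R' R'' s) →
            ∀ (B'' : Type u) [CommRing B''] [Algebra B B''] [Algebra R'' B''] [Algebra R B''] [IsScalarTower R R'' B'']
              [IsScalarTower R B B''] [Algebra.IsPushout R R'' B B''] (J : Ideal B''),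
              (∀ a, a ∈ J ↔ ∃ n : ℕ, algebraMap R'' B'' (algebraMap R' R'' e) ^ n * a = 0) →
              Module.Flat R'' (B'' ⧸ J) ∧ Algebra.FinitePresentation R'' (B'' ⧸ J) := by
  obtain ⟨n, π, hπ⟩ := Algebra.FiniteType.iff_quotient_mvPolynomial''.1 ‹Algebra.FiniteType R B›
  letI : Algebra (MvPolynomial (Fin n) R) B := π.toRingHom.toAlgebra
  haveI : IsScalarTower R (MvPolynomial (Fin n) R) B := IsScalarTower.of_algebraMap_eq fun r => (π.commutes r).symm
  exact exists_algebra_centre_aux (P := MvPolynomial (Fin n) R) hπ T hfp hflat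

end GrothLib.FlatBlow1
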