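import Groth.Agent.Lib.BlowFree1.Sheaf
import Groth.Agent.Lib.FlatBlow1.AlgCentre
import Groth.Agent.Lib.RG6.DenseScheme
import Groth.Agent.Lib.FlatFP.InjCoker
import Groth.Agent.Lib.FlatFP.Kernel
import Groth.Agent.Lib.FlatFP.PullbackFlat
import Groth.Agent.Lib.FlatLimit.Stage
import Groth.Agent.Lib.StrictTr.Push

/-!
# The chart statement: a centre on an affine open of the base flattening a strict transform of schemes
-/

set_option autoImplicit false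
set_option backward.isDefEq.respectTransparency false
universe u

open CategoryTheory CategoryTheory.Limits AlgebraicGeometry Opposite TopologicalSpace GrothLib

namespace GrothLib.FlatBlow1

open GrothLib.BlowFree1

variable {X S : Scheme.{u}}

/-- Flatness of a restriction, on affine opens. -/
theorem appLE_flat_of_le {X S : Scheme.{u}} (f : X ⟶ S) (U : S.Opens)
    [Flat (f ∣_ U)] {W : S.Opens} (hW : IsAffineOpen W) (hWU : W ≤ U)
    {V : X.Opens} (hV : IsAffineOpen V) (e : V ≤ f ⁻¹ᵁ W) : (f.appLE W V e).hom.Flat := by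
  obtain ⟨W, rfl⟩ : ∃ W' : U.toScheme.Opens, U.ι ''ᵁ W' = W :=
    ⟨U.ι ⁻¹ᵁ W, by rw [U.ι.image_preimage_eq_opensRange_inf, Scheme.Opens.opensRange_ι, inf_eq_right.2 hWU]⟩
  have hVU : V ≤ f ⁻¹ᵁ U := fun x hx => hWU (e hx)
  obtain ⟨V, rfl⟩ : ∃ V' : (f ⁻¹ᵁ U).toScheme.Opens, (f ⁻¹ᵁ U).ι ''ᵁ V' = V :=
    ⟨(f ⁻¹ᵁ U).ι ⁻¹ᵁ V, by
      rw [(f ⁻¹ᵁ U).ι.image_preimage_eq_opensRange_inf, Scheme.Opens.opensRange_ι, inf_eq_right.2 hVU]⟩
  rw [U.ι.isAffineOpen_iff_of_isOpenImmersion] at hW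
  rw [(f ⁻¹ᵁ U).ι.isAffineOpen_iff_of_isOpenImmersion] at hV
  have e' : V ≤ (f ∣_ U) ⁻¹ᵁ W := by
    intro x hx
    have hx' : (f ⁻¹ᵁ U).ι x ∈ f ⁻¹ᵁ (U.ι ''ᵁ W) := e ⟨x, hx, rfl⟩
    rw [← image_morphismRestrict_preimage f U W] at hx'
    obtain ⟨y, hy, hyx⟩ := hx'
    rwa [(f ⁻¹ᵁ U).ι.isOpenEmbedding.injective hyx] at hy
  have h := Flat.flat_appLE (f ∣_ U) hW hV e'
  rw [morphismRestrict_appLE] at h
  exact h

set_option maxHeartbeats 3200000 in
/-- **The chart statement.** -/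
theorem exists_ideal_alg_chart [CompactSpace S] [QuasiSeparatedSpace S] (f : X ⟶ S)
    [LocallyOfFiniteType f] (U : S.Opens) (hU : IsCompact (U : Set S))
    [Flat (f ∣_ U)] [LocallyOfFinitePresentation (f ∣_ U)] (W : S.affineOpens) (XV : X.affineOpens)
    (eV : XV.1 ≤ f ⁻¹ᵁ W.1) :
    ∃ J : S.IdealSheafData, BlowUp.IsAdmissibleFor U J ∧
      ∀ (P : S.IdealSheafData) (Q : Ideal Γ(S, W.1)), P.ideal W = J.ideal W * Q →
        ∀ {S' X' : Scheme.{u}} (b : S' ⟶ S) (p₁ : X' ⟶ X) (p₂ : X' ⟶ S'), IsPullback p₁ p₂ f b →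
          BlowUp.IsEffCartierIdeal (P.comap b) →
          ∀ (𝒥 : X'.IdealSheafData),
            (∀ (V : X'.affineOpens) (a : Γ(X', V.1)), a ∈ 𝒥.ideal V ↔
              BlowUp.KilledByPowerNear ((P.comap f).comap p₁) (Coh.structureModule X') V a) →
            ∀ x' : X', p₁ x' ∈ XV.1 →
              ∃ (D : S'.affineOpens) (O : X'.affineOpens) (e : O.1 ≤ p₂ ⁻¹ᵁ D.1), x' ∈ O.1 ∧
                ((Ideal.Quotient.mk (𝒥.ideal O)).comp (p₂.appLE D.1 O.1 e).hom).Flat ∧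
                ((Ideal.Quotient.mk (𝒥.ideal O)).comp (p₂.appLE D.1 O.1 e).hom).FinitePresentation := by
  classical
  let XW := XV.1
  have hXW : IsAffineOpen XW := XV.2
  letI : Algebra Γ(S, W.1) Γ(X, XW) := (f.appLE W.1 XW eV).hom.toAlgebra
  haveI : Algebra.FiniteType Γ(S, W.1) Γ(X, XW) := RingHom.finiteType_algebraMap.1
    (LocallyOfFiniteType.finiteType_appLE f W.2 hXW eV)
  obtain ⟨T, hTU, hTcov⟩ := exists_finset_basicOpen W.2 U (by
    rw [Opens.coe_inf]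
    exact QuasiSeparatedSpace.inter_isCompact _ _ U.2 hU W.1.2 W.2.isCompact)
  have hloc : ∀ a ∈ T, Algebra.FinitePresentation Γ(S, W.1) (Localization.Away (algebraMap Γ(S, W.1) Γ(X, XW) a)) ∧
      Module.Flat Γ(S, W.1) (Localization.Away (algebraMap Γ(S, W.1) Γ(X, XW) a)) := fun a ha => by
    let Wa := S.basicOpen a
    have hWa : IsAffineOpen Wa := W.2.basicOpen a
    let g := algebraMap Γ(S, W.1) Γ(X, XW) a
    let Vg := X.basicOpen g
    have hVg : IsAffineOpen Vg := hXW.basicOpen g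
    have eg : Vg ≤ f ⁻¹ᵁ Wa := by
      show X.basicOpen ((f.appLE W.1 XW eV) a) ≤ f ⁻¹ᵁ S.basicOpen a
      rw [Scheme.basicOpen_appLE]
      exact inf_le_right
    have h1 := RG6.appLE_finitePresentation_of_le f U hWa (hTU a ha) hVg eg
    have h2 := appLE_flat_of_le f U hWa (hTU a ha) hVg eg
    letI : Algebra Γ(S, W.1) Γ(S, Wa) := (S.presheaf.map (homOfLE (S.basicOpen_le a)).op).hom.toAlgebra
    haveI : IsLocalization.Away a Γ(S, Wa) := W.2.isLocalization_basicOpen a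
    letI : Algebra Γ(S, Wa) Γ(X, Vg) := (f.appLE Wa Vg eg).hom.toAlgebra
    letI : Algebra Γ(X, XW) Γ(X, Vg) := (X.presheaf.map (homOfLE (X.basicOpen_le g)).op).hom.toAlgebra
    haveI : IsLocalization.Away g Γ(X, Vg) := hXW.isLocalization_basicOpen g
    letI : Algebra Γ(S, W.1) Γ(X, Vg) := ((algebraMap Γ(X, XW) Γ(X, Vg)).comp (algebraMap Γ(S, W.1) Γ(X, XW))).toAlgebra
    haveI : IsScalarTower Γ(S, W.1) Γ(X, XW) Γ(X, Vg) := IsScalarTower.of_algebraMap_eq' rfl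
    haveI : IsScalarTower Γ(S, W.1) Γ(S, Wa) Γ(X, Vg) := IsScalarTower.of_algebraMap_eq' (by
      show (X.presheaf.map _).hom.comp (f.appLE W.1 XW eV).hom = (f.appLE Wa Vg eg).hom.comp (S.presheaf.map _).hom
      rw [← CommRingCat.hom_comp, ← CommRingCat.hom_comp, Scheme.Hom.appLE_map, Scheme.Hom.map_appLE])
    haveI : Algebra.FinitePresentation Γ(S, W.1) Γ(S, Wa) := IsLocalization.Away.finitePresentation a
    haveI : Algebra.FinitePresentation Γ(S, Wa) Γ(X, Vg) := RingHom.finitePresentation_algebraMap.1 h1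
    haveI : Module.Flat Γ(S, Wa) Γ(X, Vg) := RingHom.flat_algebraMap_iff.1 h2
    haveI : Module.Flat Γ(S, W.1) Γ(S, Wa) := IsLocalization.flat _ (Submonoid.powers a)
    haveI : Algebra.FinitePresentation Γ(S, W.1) Γ(X, Vg) := Algebra.FinitePresentation.trans _ Γ(S, Wa) _
    haveI : Module.Flat Γ(S, W.1) Γ(X, Vg) := Module.Flat.trans _ Γ(S, Wa) _
    let e := ((IsLocalization.algEquiv (Submonoid.powers g) Γ(X, Vg) (Localization.Away g)).restrictScalars Γ(S, W.1))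
    exact ⟨Algebra.FinitePresentation.equiv e, Module.Flat.of_linearEquiv e.symm.toLinearEquiv⟩
  obtain ⟨I, hIfg, hIT, hTI, hI⟩ := exists_algebra_centre (B := Γ(X, XW)) T (fun a ha => (hloc a ha).1)
    (fun a ha => (hloc a ha).2)
  obtain ⟨J, hJ, hJW⟩ := exists_admissible_of_ideal U hU W I hIfg T hTcov hTI
  refine ⟨J, hJ, fun P Q hPQ {S' X'} b p₁ p₂ sq hP 𝒥 h𝒥 x' hx1 => ?_⟩
  -- an affine chart of the blow-up
  let s' := p₂ x'
  have hs' : b s' ∈ W.1 := by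
    show (p₂ ≫ b) x' ∈ W.1
    rw [← sq.w]
    exact eV hx1
  obtain ⟨V₀, hsV₀, e₀, he₀, hV₀⟩ := hP s'
  obtain ⟨t, ht, hst⟩ := V₀.2.exists_basicOpen_le (V := b ⁻¹ᵁ W.1) ⟨s', hs'⟩ hsV₀
  let V : S'.affineOpens := S'.affineBasicOpen t
  letI : Algebra Γ(S', V₀.1) Γ(S', V.1) := (S'.presheaf.map (homOfLE (S'.basicOpen_le t)).op).hom.toAlgebra
  haveI : IsLocalization.Away t Γ(S', V.1) := V₀.2.isLocalization_basicOpen t
  let e : Γ(S', V.1) := algebraMap Γ(S', V₀.1) Γ(S', V.1) e₀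
  have he : e ∈ nonZeroDivisors Γ(S', V.1) :=
    (IsLocalization.toLocalizationMap (Submonoid.powers t) Γ(S', V.1)).map_nonZeroDivisors_le ⟨e₀, he₀, rfl⟩
  have hPV : (P.comap b).ideal V = Ideal.span {e} := by
    rw [← (P.comap b).map_ideal (U := V) (V := V₀) (S'.basicOpen_le t)]
    refine (congrArg (Ideal.map _) hV₀).trans ?_
    rw [Ideal.map_span, Set.image_singleton]
    rfl
  letI : Algebra Γ(S, W.1) Γ(S', V.1) := (b.appLE W.1 V.1 ht).hom.toAlgebra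
  obtain ⟨σ, hσ, hnear⟩ := hI Γ(S', V.1) e he (Q.map (algebraMap Γ(S, W.1) Γ(S', V.1))) (by
    rw [← Ideal.map_mul, ← hJW, ← hPQ, ← hPV]
    exact (GrothLib.BlowUp.ideal_comap_eq_map P b W V ht).symm) (WeakAss.primeAt s' hst)
  -- shrink to the basic open of `σ`
  let D : S'.affineOpens := S'.affineBasicOpen σ
  have hsD : s' ∈ D.1 := (Scheme.mem_basicOpen _ _ _ hst).2 (by
    by_contra hu
    exact hσ ((IsLocalRing.mem_maximalIdeal _).2 hu))
  have hDV : D.1 ≤ V.1 := S'.basicOpen_le σ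
  letI : Algebra Γ(S', V.1) Γ(S', D.1) := (S'.presheaf.map (homOfLE hDV).op).hom.toAlgebra
  haveI : IsLocalization.Away σ Γ(S', D.1) := V.2.isLocalization_basicOpen σ
  letI : Algebra Γ(S, W.1) Γ(S', D.1) := (b.appLE W.1 D.1 (hDV.trans ht)).hom.toAlgebra
  haveI : IsScalarTower Γ(S, W.1) Γ(S', V.1) Γ(S', D.1) := IsScalarTower.of_algebraMap_eq fun a =>
    congrArg (fun φ : Γ(S, W.1) ⟶ Γ(S', D.1) => φ a) (b.appLE_map ht (homOfLE hDV).op).symm
  have he' : algebraMap Γ(S', V.1) Γ(S', D.1) e ∈ nonZeroDivisors Γ(S', D.1) :=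
    (IsLocalization.toLocalizationMap (Submonoid.powers σ) Γ(S', D.1)).map_nonZeroDivisors_le ⟨e, he, rfl⟩
  let O := p₁ ⁻¹ᵁ XW ⊓ p₂ ⁻¹ᵁ D.1
  have hO : IsAffineOpen O := FlatLimit.isAffineOpen_square sq (hDV.trans ht) eV W.2 D.2 hXW
  letI : Algebra Γ(S', D.1) Γ(X', O) := (p₂.appLE D.1 O inf_le_right).hom.toAlgebra
  letI : Algebra Γ(X, XW) Γ(X', O) := (p₁.appLE XW O inf_le_left).hom.toAlgebra
  letI : Algebra Γ(S, W.1) Γ(X', O) :=
    ((algebraMap Γ(S', D.1) Γ(X', O)).comp (algebraMap Γ(S, W.1) Γ(S', D.1))).toAlgebra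
  haveI : IsScalarTower Γ(S, W.1) Γ(S', D.1) Γ(X', O) := IsScalarTower.of_algebraMap_eq' rfl
  haveI : IsScalarTower Γ(S, W.1) Γ(X, XW) Γ(X', O) := IsScalarTower.of_algebraMap_eq' (by
    show (p₂.appLE D.1 O inf_le_right).hom.comp (b.appLE W.1 D.1 (hDV.trans ht)).hom =
      (p₁.appLE XW O inf_le_left).hom.comp (f.appLE W.1 XW eV).hom
    rw [← CommRingCat.hom_comp, ← CommRingCat.hom_comp, Scheme.Hom.appLE_comp_appLE, Scheme.Hom.appLE_comp_appLE]
    congr 2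
    exact sq.w.symm)
  haveI : Algebra.IsPushout Γ(S, W.1) Γ(S', D.1) Γ(X, XW) Γ(X', O) :=
    FlatLimit.isPushout_square sq (hDV.trans ht) eV W.2 D.2 hXW rfl rfl rfl rfl
  have hx' : x' ∈ O := ⟨hx1, hsD⟩
  have hcom : (P.comap f).comap p₁ = (P.comap b).comap p₂ := by
    rw [← Scheme.IdealSheafData.comap_comp, ← Scheme.IdealSheafData.comap_comp, sq.w]
  let e'' := algebraMap Γ(S', D.1) Γ(X', O) (algebraMap Γ(S', V.1) Γ(S', D.1) e)
  have hEO : ((P.comap f).comap p₁).ideal ⟨O, hO⟩ = Ideal.span {e''} := by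
    rw [hcom, GrothLib.BlowUp.ideal_comap_eq_map (P.comap b) p₂ D ⟨O, hO⟩ inf_le_right,
      ← (P.comap b).map_ideal (U := D) (V := V) hDV]
    refine (congrArg (Ideal.map _) (congrArg (Ideal.map _) hPV)).trans ?_
    rw [Ideal.map_span, Set.image_singleton, Ideal.map_span, Set.image_singleton]
    rfl
  obtain ⟨hflat, hfp⟩ := hnear Γ(S', D.1) he' (IsLocalization.Away.algebraMap_isUnit σ) Γ(X', O)
    (𝒥.ideal ⟨O, hO⟩) (fun a => (h𝒥 ⟨O, hO⟩ a).trans (StrictTr.killed_iff (M := Coh.structureModule X') (V := ⟨O, hO⟩) hEO a))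
  exact ⟨D, ⟨O, hO⟩, inf_le_right, hx', RingHom.flat_algebraMap_iff.2 hflat,
    RingHom.finitePresentation_algebraMap.2 hfp⟩

end GrothLib.FlatBlow1
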