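import Mathlib.RingTheory.Valuation.ExtendToLocalization
import Mathlib.RingTheory.Valuation.Basic
import Mathlib.RingTheory.Localization.Away.Basic
import Mathlib.RingTheory.Localization.BaseChange
import Mathlib.RingTheory.IsTensorProduct
import Mathlib.RingTheory.Flat.Stability

/-!
# The stages approximating the local ring of the limit of all admissible blow-ups at a valuation
-/

set_option autoImplicit false
universe u v

open TensorProduct Function
open scoped Classical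

namespace GrothLib.FlatBlow1

variable {R : Type u} [CommRing R] {Γ₀ : Type v} [LinearOrderedCommGroupWithZero Γ₀]

/-- A valuation centred on `R`, with an element `f` of largest value among the finite set `T`. -/
structure Datum (R : Type u) [CommRing R] (Γ₀ : Type v) [LinearOrderedCommGroupWithZero Γ₀] where
  v : Valuation R Γ₀
  T : Finset R
  f : R
  le_one : ∀ a, v a ≤ 1
  f_mem : f ∈ T
  f_max : ∀ g ∈ T, v g ≤ v f
  f_ne : v f ≠ 0

variable (D : Datum R Γ₀)

/-- The elements whose value is bounded below by a power of the value of `f`. -/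
def Datum.S : Submonoid R where
  carrier := {b | ∃ N : ℕ, D.v D.f ^ N ≤ D.v b}
  one_mem' := ⟨0, by simp⟩
  mul_mem' := fun {a b} ⟨N, hN⟩ ⟨M, hM⟩ => ⟨N + M, by rw [pow_add, map_mul]; exact mul_le_mul' hN hM⟩

theorem Datum.S_le : D.S ≤ D.v.supp.primeCompl := by
  rintro b ⟨N, hN⟩ hb
  exact pow_ne_zero N D.f_ne (le_zero_iff.1 ((Valuation.mem_supp_iff _ _).1 hb ▸ hN))

theorem Datum.f_mem_S : D.f ∈ D.S := ⟨1, (pow_one _).le⟩

/-- The localisation at `S`. -/
abbrev Datum.P : Type u := Localization D.S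

/-- The valuation extended to `P`. -/
noncomputable abbrev Datum.w : Valuation D.P Γ₀ := D.v.extendToLocalization D.S_le D.P

theorem Datum.w_algebraMap (a : R) : D.w (algebraMap R D.P a) = D.v a :=
  Valuation.extendToLocalization_apply_map_apply _ _ _ _

/-- The ring of the limit of the admissible blow-ups at the valuation. -/
noncomputable def Datum.A : Subalgebra R D.P where
  carrier := {x | D.w x ≤ 1}
  mul_mem' := fun {a b} ha hb => (map_mul D.w a b).le.trans (mul_le_one' ha hb)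
  add_mem' := fun {a b} ha hb => D.w.map_add_le ha hb
  algebraMap_mem' := fun a => (D.w_algebraMap a).le.trans (D.le_one a)

/-- The element `f` in `A`. -/
noncomputable abbrev Datum.e : D.A := algebraMap R D.A D.f

theorem Datum.isUnit_f : IsUnit (algebraMap R D.P D.f) := IsLocalization.map_units D.P ⟨D.f, D.f_mem_S⟩

theorem Datum.e_mem_nonZeroDivisors : D.e ∈ nonZeroDivisors D.A :=
  mem_nonZeroDivisors_iff_left.2 fun x hx => Subtype.ext (D.isUnit_f.mul_right_eq_zero.1 (congrArg Subtype.val hx))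

theorem Datum.cmp_aux (a b : D.A) (n : ℕ) (hb : b ∣ D.e ^ n) : a ∣ b ∨ b ∣ a := by
  obtain ⟨c, hc⟩ := hb
  have hc' : algebraMap R D.P D.f ^ n = (b : D.P) * (c : D.P) := congrArg Subtype.val hc
  have hbu : IsUnit (b : D.P) := isUnit_of_mul_isUnit_left (hc' ▸ D.isUnit_f.pow n)
  have hb0 : D.w (b : D.P) ≠ 0 := (hbu.map D.w).ne_zero
  rcases le_total (D.w (a : D.P)) (D.w (b : D.P)) with h | h
  · refine Or.inr ⟨⟨(a : D.P) * ↑hbu.unit⁻¹, ?_⟩, Subtype.ext ?_⟩
    · show D.w _ ≤ 1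
      rw [map_mul, map_units_inv, IsUnit.unit_spec]
      exact (mul_inv_le_iff₀ (zero_lt_iff.2 hb0)).2 (by rwa [one_mul])
    · show (a : D.P) = (b : D.P) * ((a : D.P) * _)
      rw [mul_left_comm, hbu.mul_val_inv, mul_one]
  · have ha0 : D.w (a : D.P) ≠ 0 := fun h0 => hb0 (le_zero_iff.1 (h0 ▸ h))
    have hau : IsUnit (a : D.P) := by
      obtain ⟨⟨r, s⟩, hrs⟩ := IsLocalization.surj D.S (a : D.P)
      have hv : D.w (a : D.P) * D.v (s : R) = D.v r := by
        rw [← D.w_algebraMap, ← D.w_algebraMap, ← map_mul, hrs]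
      obtain ⟨N, hN⟩ := s.2
      have hr : r ∈ D.S := ⟨n + N, by
        rw [← hv, pow_add]
        refine mul_le_mul' ?_ hN
        rw [← D.w_algebraMap, ← map_pow, hc', map_mul]
        exact (mul_le_of_le_one_right' c.2).trans h⟩
      exact isUnit_of_mul_isUnit_left (hrs ▸ IsLocalization.map_units D.P ⟨r, hr⟩)
    refine Or.inl ⟨⟨(b : D.P) * ↑hau.unit⁻¹, ?_⟩, Subtype.ext ?_⟩
    · show D.w _ ≤ 1
      rw [map_mul, map_units_inv, IsUnit.unit_spec]
      exact (mul_inv_le_iff₀ (zero_lt_iff.2 ha0)).2 (by rwa [one_mul])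
    · show (b : D.P) = (a : D.P) * ((b : D.P) * _)
      rw [mul_left_comm, hau.mul_val_inv, mul_one]

theorem Datum.exists_pow_mul_mem (x : D.P) : ∃ N : ℕ, algebraMap R D.P D.f ^ N * x ∈ D.A := by
  obtain ⟨⟨r, s⟩, hrs⟩ := IsLocalization.surj D.S x
  obtain ⟨N, hN⟩ := s.2
  refine ⟨N, ?_⟩
  show D.w _ ≤ 1
  rw [map_mul, map_pow, D.w_algebraMap]
  calc D.v D.f ^ N * D.w x ≤ D.v (s : R) * D.w x := mul_le_mul' hN le_rfl
    _ = D.w (x * algebraMap R D.P (s : R)) := by rw [map_mul, D.w_algebraMap, mul_comm]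
    _ ≤ 1 := by rw [hrs, D.w_algebraMap]; exact D.le_one r

instance Datum.isLocalization : IsLocalization (Submonoid.powers D.e) D.P where
  map_units := by
    rintro ⟨_, k, rfl⟩
    exact (D.isUnit_f.pow k : IsUnit _)
  surj x := by
    obtain ⟨N, hN⟩ := D.exists_pow_mul_mem x
    exact ⟨⟨⟨_, hN⟩, ⟨D.e ^ N, N, rfl⟩⟩, (mul_comm x _ : x * algebraMap R D.P D.f ^ N = _)⟩
  exists_of_eq {x y} h := ⟨1, congrArg _ (Subtype.ext h)⟩

/-! ### Stages -/

/-- A stage: a finite set with an element of largest value. -/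
structure Datum.Stage where
  L : Finset R
  b : R
  mem : b ∈ L
  le : ∀ a ∈ L, D.v a ≤ D.v b
  cone : ∃ c, b = D.f * c ∧ ∀ g ∈ D.T, g * c ∈ L
  pow : ∀ g ∈ D.T, ∃ N : ℕ, g ^ N ∈ L

variable {D}

theorem Datum.Stage.b_mem_S (i : D.Stage) : i.b ∈ D.S := by
  obtain ⟨N, hN⟩ := i.pow D.f D.f_mem
  exact ⟨N, (map_pow D.v D.f N).symm.le.trans (i.le _ hN)⟩

/-- The product of two stages. -/
noncomputable def Datum.Stage.mul (i j : D.Stage) : D.Stage where
  L := Finset.image₂ (· * ·) i.L j.L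
  b := i.b * j.b
  mem := Finset.mem_image₂_of_mem i.mem j.mem
  le := by
    intro a ha
    obtain ⟨x, hx, y, hy, rfl⟩ := Finset.mem_image₂.1 ha
    rw [map_mul, map_mul]
    exact mul_le_mul' (i.le x hx) (j.le y hy)
  cone := by
    obtain ⟨c, hc, hT⟩ := i.cone
    refine ⟨c * j.b, by rw [hc, mul_assoc], fun g hg => ?_⟩
    rw [← mul_assoc]
    exact Finset.mem_image₂_of_mem (hT g hg) j.mem
  pow := fun g hg => by
    obtain ⟨N, hN⟩ := i.pow g hg
    obtain ⟨M, hM⟩ := j.pow g hg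
    exact ⟨N + M, by rw [pow_add]; exact Finset.mem_image₂_of_mem hN hM⟩

/-- Comparison of stages. -/
def Datum.Stage.Le (i j : D.Stage) : Prop := ∃ c, j.b = i.b * c ∧ ∀ a ∈ i.L, a * c ∈ j.L

theorem Datum.Stage.Le.trans {i j k : D.Stage} (h : i.Le j) (h' : j.Le k) : i.Le k := by
  obtain ⟨c, hc, hL⟩ := h
  obtain ⟨c', hc', hL'⟩ := h'
  exact ⟨c * c', by rw [hc', hc, mul_assoc], fun a ha => by rw [← mul_assoc]; exact hL' _ (hL a ha)⟩

theorem Datum.Stage.le_mul_left (i j : D.Stage) : i.Le (i.mul j) :=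
  ⟨j.b, rfl, fun _ ha => Finset.mem_image₂_of_mem ha j.mem⟩

theorem Datum.Stage.le_mul_right (i j : D.Stage) : j.Le (i.mul j) :=
  ⟨i.b, mul_comm _ _, fun a ha => by rw [mul_comm a]; exact Finset.mem_image₂_of_mem i.mem ha⟩

theorem Datum.Stage.mul_le_mul {i i' j : D.Stage} (h : i.Le i') : (j.mul i).Le (j.mul i') := by
  obtain ⟨c, hc, hL⟩ := h
  refine ⟨c, by show j.b * i'.b = j.b * i.b * c; rw [hc, mul_assoc], fun a ha => ?_⟩
  obtain ⟨x, hx, y, hy, rfl⟩ := Finset.mem_image₂.1 ha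
  rw [mul_assoc]
  exact Finset.mem_image₂_of_mem hx (hL y hy)

/-- A fraction of `A` with denominator in `S` appears at a stage. -/
theorem Datum.exists_stage (D : Datum R Γ₀) (r s : R) (hs : s ∈ D.S) (hrs : D.v r ≤ D.v s) :
    ∃ i : D.Stage, i.b = D.f * s ∧ D.f * r ∈ i.L := by
  obtain ⟨N, hN⟩ := D.S.mul_mem D.f_mem_S hs
  have hle : ∀ a ∈ ({D.f * s, D.f * r} : Finset R) ∪ D.T.image (· * s) ∪ D.T.image (· ^ N),
      D.v a ≤ D.v (D.f * s) := by
    intro a ha
    simp only [Finset.mem_union, Finset.mem_insert, Finset.mem_singleton, Finset.mem_image] at ha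
    rcases ha with ((rfl | rfl) | ⟨g, hg, rfl⟩) | ⟨g, hg, rfl⟩
    · exact le_rfl
    · rw [map_mul, map_mul]; exact mul_le_mul' le_rfl hrs
    · rw [map_mul, map_mul]; exact mul_le_mul' (D.f_max g hg) le_rfl
    · rw [map_pow]; exact (pow_le_pow_left' (D.f_max g hg) N).trans hN
  refine ⟨⟨({D.f * s, D.f * r} : Finset R) ∪ D.T.image (· * s) ∪ D.T.image (· ^ N), D.f * s, by simp, hle,
    ⟨s, rfl, fun g hg => ?_⟩, fun g hg => ⟨N, ?_⟩⟩, rfl, by simp⟩
  · exact Finset.mem_union_left _ (Finset.mem_union_right _ (Finset.mem_image_of_mem _ hg))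
  · exact Finset.mem_union_right _ (Finset.mem_image_of_mem _ hg)

instance Datum.instNonemptyStage : Nonempty D.Stage :=
  ⟨(D.exists_stage 1 1 (one_mem _) le_rfl).choose⟩

/-- `R_b` of a stage. -/
abbrev Datum.Stage.Loc (i : D.Stage) : Type u := Localization.Away i.b

/-- The affine blow-up algebra of a stage. -/
noncomputable def Datum.Stage.C (i : D.Stage) : Subalgebra R i.Loc :=
  Algebra.adjoin R ((fun a => IsLocalization.mk' i.Loc a (⟨i.b, Submonoid.mem_powers _⟩ : Submonoid.powers i.b)) ''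
    (i.L : Set R))

theorem Datum.Stage.isUnit_P (i : D.Stage) : IsUnit (Algebra.ofId R D.P i.b) :=
  IsLocalization.map_units D.P ⟨i.b, i.b_mem_S⟩

theorem Datum.Stage.isUnit_pow (i : D.Stage) (y : Submonoid.powers i.b) : IsUnit (Algebra.ofId R D.P (y : R)) := by
  obtain ⟨_, k, rfl⟩ := y
  rw [map_pow]
  exact i.isUnit_P.pow k

/-- The map `R_b → P`. -/
noncomputable def Datum.Stage.toP (i : D.Stage) : i.Loc →ₐ[R] D.P :=
  IsLocalization.liftAlgHom (M := Submonoid.powers i.b) (f := Algebra.ofId R D.P) i.isUnit_pow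

theorem Datum.Stage.toP_mem (i : D.Stage) {x : i.Loc} (hx : x ∈ i.C) : i.toP x ∈ D.A := by
  have hle : i.C ≤ D.A.comap i.toP := by
    refine Algebra.adjoin_le ?_
    rintro _ ⟨a, ha, rfl⟩
    show D.w (i.toP _) ≤ 1
    obtain ⟨N, hN⟩ := i.b_mem_S
    have h0 : D.v i.b ≠ 0 := fun h => pow_ne_zero N D.f_ne (le_zero_iff.1 (h ▸ hN))
    have h1 : D.w (i.toP (IsLocalization.mk' i.Loc a (⟨i.b, Submonoid.mem_powers _⟩ : Submonoid.powers i.b))) *
        D.v i.b = D.v a := by
      rw [← D.w_algebraMap, ← map_mul, ← i.toP.commutes, ← map_mul, IsLocalization.mk'_spec, i.toP.commutes,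
        D.w_algebraMap]
    by_contra hlt
    rw [not_le] at hlt
    exact absurd (h1.trans_le (i.le a ha)) (not_le.2 (lt_mul_of_one_lt_left (zero_lt_iff.2 h0) hlt))
  exact hle hx

/-- The map from a stage to `A`. -/
noncomputable def Datum.Stage.toA (i : D.Stage) : i.C →ₐ[R] D.A :=
  (i.toP.comp i.C.val).codRestrict D.A fun x => i.toP_mem x.2

theorem Datum.Stage.Le.isUnit_pow {i j : D.Stage} (h : i.Le j) (y : Submonoid.powers i.b) :
    IsUnit (Algebra.ofId R j.Loc (y : R)) := by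
  obtain ⟨_, k, rfl⟩ := y
  obtain ⟨c, hc, -⟩ := h
  rw [map_pow]
  exact IsUnit.pow k (isUnit_of_dvd_unit (map_dvd (algebraMap R j.Loc) (Dvd.intro c hc.symm))
    (IsLocalization.Away.algebraMap_isUnit (S := j.Loc) j.b))

/-- The transition map of localisations. -/
noncomputable def Datum.Stage.Le.toLoc {i j : D.Stage} (h : i.Le j) : i.Loc →ₐ[R] j.Loc :=
  IsLocalization.liftAlgHom (M := Submonoid.powers i.b) (f := Algebra.ofId R j.Loc) h.isUnit_pow

theorem Datum.Stage.Le.toLoc_mem {i j : D.Stage} (h : i.Le j) {x : i.Loc} (hx : x ∈ i.C) : h.toLoc x ∈ j.C := by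
  have hle : i.C ≤ j.C.comap h.toLoc := by
    refine Algebra.adjoin_le ?_
    rintro _ ⟨a, ha, rfl⟩
    show h.toLoc _ ∈ j.C
    obtain ⟨c, hc, hL⟩ := id h
    refine Algebra.subset_adjoin ⟨a * c, hL a ha, ?_⟩
    apply (IsLocalization.Away.algebraMap_isUnit (S := j.Loc) j.b).mul_left_injective
    show IsLocalization.mk' j.Loc (a * c) _ * algebraMap R j.Loc j.b = _ * algebraMap R j.Loc j.b
    rw [IsLocalization.mk'_spec]
    rw [← h.toLoc.commutes j.b, ← map_mul, congrArg (algebraMap R i.Loc) hc, map_mul (algebraMap R i.Loc), ← mul_assoc, IsLocalization.mk'_spec,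
      ← map_mul, h.toLoc.commutes]
  exact hle hx

/-- The transition map of stages. -/
noncomputable def Datum.Stage.Le.map {i j : D.Stage} (h : i.Le j) : i.C →ₐ[R] j.C :=
  (h.toLoc.comp i.C.val).codRestrict j.C fun x => h.toLoc_mem x.2

theorem Datum.Stage.Le.map_map {i j k : D.Stage} (h : i.Le j) (h' : j.Le k) (h'' : i.Le k) (x : i.C) :
    h'.map (h.map x) = h''.map x := Subtype.ext (congrArg (fun φ : i.Loc →ₐ[R] k.Loc => φ x.1)
  (IsLocalization.algHom_ext (Submonoid.powers i.b) (Algebra.ext_id (f := (h'.toLoc.comp h.toLoc).comp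
    (Algebra.ofId R i.Loc)) (g := h''.toLoc.comp (Algebra.ofId R i.Loc)))))

theorem Datum.Stage.Le.toA_map {i j : D.Stage} (h : i.Le j) (x : i.C) : j.toA (h.map x) = i.toA x :=
  Subtype.ext (congrArg (fun φ : i.Loc →ₐ[R] D.P => φ x.1)
    (IsLocalization.algHom_ext (Submonoid.powers i.b) (Algebra.ext_id (f := (j.toP.comp h.toLoc).comp
      (Algebra.ofId R i.Loc)) (g := i.toP.comp (Algebra.ofId R i.Loc)))))

/-- Every element of `A` comes from a stage. -/
theorem Datum.exists_lift (D : Datum R Γ₀) (x : D.A) : ∃ (i : D.Stage) (y : i.C), i.toA y = x := by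
  obtain ⟨⟨r, s⟩, hrs⟩ := IsLocalization.surj D.S (x : D.P)
  have hle : D.v r ≤ D.v (s : R) := by
    rw [← D.w_algebraMap, ← D.w_algebraMap, ← hrs, map_mul]
    exact mul_le_of_le_one_left' x.2
  obtain ⟨i, hb, hmem⟩ := D.exists_stage r s s.2 hle
  refine ⟨i, ⟨_, Algebra.subset_adjoin ⟨D.f * r, hmem, rfl⟩⟩, Subtype.ext ?_⟩
  apply i.isUnit_P.mul_left_injective
  show i.toP (IsLocalization.mk' i.Loc (D.f * r) (⟨i.b, Submonoid.mem_powers _⟩ : Submonoid.powers i.b)) *
    algebraMap R D.P i.b = (x : D.P) * algebraMap R D.P i.b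
  rw [← i.toP.commutes, ← map_mul, IsLocalization.mk'_spec, i.toP.commutes, i.toP.commutes, hb, map_mul,
    map_mul, ← hrs]
  ring

theorem Datum.exists_lift_finset (D : Datum R Γ₀) (s : Finset D.A) :
    ∃ i : D.Stage, (s : Set D.A) ⊆ Set.range i.toA := by
  classical
  induction s using Finset.induction_on with
  | empty => exact ⟨Classical.arbitrary _, by simp⟩
  | insert a t _ ih =>
    obtain ⟨i, hi⟩ := ih
    obtain ⟨j, y, hy⟩ := D.exists_lift a
    refine ⟨i.mul j, ?_⟩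
    intro z hz
    rw [Finset.coe_insert] at hz
    rcases hz with rfl | hz
    · exact ⟨(i.le_mul_right j).map y, by rw [Datum.Stage.Le.toA_map, hy]⟩
    · obtain ⟨y, hy⟩ := hi hz
      exact ⟨(i.le_mul_left j).map y, by rw [Datum.Stage.Le.toA_map, hy]⟩

/-- An element of `S` divides the denominator of a later stage. -/
theorem Datum.Stage.exists_le_dvd (i : D.Stage) {s : R} (hs : s ∈ D.S) :
    ∃ j : D.Stage, i.Le j ∧ IsUnit (algebraMap R j.Loc s) := by
  obtain ⟨k, hk, -⟩ := D.exists_stage s s hs le_rfl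
  refine ⟨i.mul k, i.le_mul_left k, isUnit_of_dvd_unit (map_dvd _ ?_)
    (IsLocalization.Away.algebraMap_isUnit (S := (i.mul k).Loc) (i.mul k).b)⟩
  exact ⟨i.b * D.f, by show i.b * k.b = _; rw [hk]; ring⟩

/-- Equal in `A` means equal at a later stage. -/
theorem Datum.Stage.exists_map_eq (i : D.Stage) (p : Finset (i.C × i.C))
    (hp : ∀ x ∈ p, i.toA x.1 = i.toA x.2) : ∃ (j : D.Stage) (h : i.Le j), ∀ x ∈ p, h.map x.1 = h.map x.2 := by
  classical
  induction p using Finset.induction_on with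
  | empty => exact ⟨i.mul i, i.le_mul_left i, by simp⟩
  | insert x q _ ih =>
    obtain ⟨j, h, hq⟩ := ih fun z hz => hp z (Finset.mem_insert_of_mem hz)
    have hx : i.toP ((x.1 : i.Loc) - x.2) = 0 := by
      rw [map_sub, sub_eq_zero]
      exact congrArg Subtype.val (hp x (Finset.mem_insert_self _ _))
    obtain ⟨⟨r, t⟩, hrt⟩ := IsLocalization.surj (Submonoid.powers i.b) ((x.1 : i.Loc) - x.2)
    have hr : algebraMap R D.P r = 0 := by
      rw [← i.toP.commutes, ← hrt, map_mul, hx, zero_mul]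
    obtain ⟨⟨s, hs⟩, hsr⟩ := (IsLocalization.map_eq_zero_iff D.S D.P r).1 hr
    obtain ⟨k, hjk, hsu⟩ := j.exists_le_dvd hs
    refine ⟨k, h.trans hjk, fun z hz => ?_⟩
    rcases Finset.mem_insert.1 hz with rfl | hz
    · apply Subtype.ext
      show (h.trans hjk).toLoc z.1.1 = (h.trans hjk).toLoc z.2.1
      rw [← sub_eq_zero, ← map_sub]
      have hk0 : algebraMap R k.Loc r = 0 := hsu.mul_right_eq_zero.1 (by rw [← map_mul, hsr, map_zero])
      refine ((h.trans hjk).isUnit_pow t).mul_left_eq_zero.1 ?_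
      show _ * algebraMap R k.Loc (t : R) = 0
      rw [← (h.trans hjk).toLoc.commutes, ← map_mul, hrt, (h.trans hjk).toLoc.commutes, hk0]
    · rw [← Datum.Stage.Le.map_map h hjk, ← Datum.Stage.Le.map_map h hjk, hq z hz]

/-- `R_b` is the localisation of the stage at `f`. -/
theorem Datum.Stage.isLocalization (i : D.Stage) :
    IsLocalization (Submonoid.powers (algebraMap R i.C D.f)) i.Loc := by
  obtain ⟨c, hc, -⟩ := i.cone
  have hbu := IsLocalization.Away.algebraMap_isUnit (S := i.Loc) i.b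
  have hfu : IsUnit (algebraMap R i.Loc D.f) := by
    have h1 := (congrArg (algebraMap R i.Loc) hc).symm
    rw [map_mul] at h1
    exact isUnit_of_mul_isUnit_left (x := algebraMap R i.Loc D.f) (y := algebraMap R i.Loc c) (h1.symm ▸ hbu)
  refine ⟨fun y => ?_, fun x => ?_, fun {x y} h => ⟨1, congrArg _ (Subtype.ext h)⟩⟩
  · obtain ⟨_, k, rfl⟩ := y
    exact (hfu.pow k : IsUnit _)
  · obtain ⟨N, hN⟩ := i.pow D.f D.f_mem
    obtain ⟨⟨r, ⟨_, k, rfl⟩⟩, hr⟩ := IsLocalization.surj (Submonoid.powers i.b) x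
    have hmem : x * algebraMap R i.Loc D.f ^ (N * k) ∈ i.C := by
      have h1 : IsLocalization.mk' i.Loc (D.f ^ N) (⟨i.b, Submonoid.mem_powers _⟩ : Submonoid.powers i.b) ^ k *
          algebraMap R i.Loc r ∈ i.C :=
        mul_mem (pow_mem (show IsLocalization.mk' i.Loc (D.f ^ N)
          (⟨i.b, Submonoid.mem_powers _⟩ : Submonoid.powers i.b) ∈ i.C from Algebra.subset_adjoin ⟨_, hN, rfl⟩) k)
          (Subalgebra.algebraMap_mem _ r)
      rw [← hr, map_pow, mul_left_comm, ← mul_pow, IsLocalization.mk'_spec, map_pow, ← pow_mul] at h1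
      exact h1
    exact ⟨((⟨_, hmem⟩ : i.C), ⟨algebraMap R i.C D.f ^ (N * k), N * k, rfl⟩),
      (rfl : x * algebraMap R i.Loc D.f ^ (N * k) = _)⟩

/-- A tensor vanishing over `P` is killed by a power of `f` at a later stage. -/
theorem Datum.Stage.exists_kill {M₀ : Type u} [AddCommGroup M₀] [Module R M₀] (i : D.Stage) (z : i.C ⊗[R] M₀)
    (hz : (i.toP.comp i.C.val).toLinearMap.rTensor M₀ z = 0) :
    ∃ (j : D.Stage) (h : i.Le j) (N : ℕ), D.f ^ N • h.map.toLinearMap.rTensor M₀ z = 0 := by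
  have hL1 : IsLocalizedModule (Submonoid.powers i.b) (TensorProduct.mk R i.Loc M₀ 1) :=
    (isLocalizedModule_iff_isBaseChange (Submonoid.powers i.b) i.Loc _).2 (TensorProduct.isBaseChange R M₀ i.Loc)
  obtain ⟨⟨m, t⟩, hm⟩ := IsLocalizedModule.surj (Submonoid.powers i.b) (TensorProduct.mk R i.Loc M₀ 1)
    (i.C.val.toLinearMap.rTensor M₀ z)
  have hmP : TensorProduct.mk R D.P M₀ 1 m = 0 := by
    have h1 := congrArg (i.toP.toLinearMap.rTensor M₀) hm
    rw [Submonoid.smul_def, map_smul, ← LinearMap.rTensor_comp_apply, TensorProduct.mk_apply,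
      LinearMap.rTensor_tmul] at h1
    erw [hz, smul_zero] at h1
    rw [TensorProduct.mk_apply, h1]
    simp
  haveI : IsLocalizedModule D.S (TensorProduct.mk R D.P M₀ 1) :=
    (isLocalizedModule_iff_isBaseChange D.S D.P _).2 (TensorProduct.isBaseChange R M₀ D.P)
  obtain ⟨⟨s, hs⟩, hsm⟩ := (IsLocalizedModule.eq_zero_iff D.S _).1 hmP
  obtain ⟨j, hij, hsu⟩ := i.exists_le_dvd hs
  refine ⟨j, hij, ?_⟩
  have hzero : j.C.val.toLinearMap.rTensor M₀ (hij.map.toLinearMap.rTensor M₀ z) = 0 := by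
    have h1 := congrArg (hij.toLoc.toLinearMap.rTensor M₀) hm
    rw [Submonoid.smul_def, map_smul, ← LinearMap.rTensor_comp_apply, TensorProduct.mk_apply,
      LinearMap.rTensor_tmul] at h1
    have h2 : (1 : j.Loc) ⊗ₜ[R] m = 0 := by
      refine hsu.smul_left_cancel.1 (?_ : algebraMap R j.Loc s • ((1 : j.Loc) ⊗ₜ[R] m) = algebraMap R j.Loc s • 0)
      rw [algebraMap_smul, smul_zero, ← TensorProduct.tmul_smul, show s • m = 0 from hsm, TensorProduct.tmul_zero]
    rw [show hij.toLoc.toLinearMap (1 : i.Loc) = 1 from map_one hij.toLoc, h2, ← algebraMap_smul j.Loc] at h1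
    have h3 := (hij.isUnit_pow t).smul_left_cancel.1 (h1.trans (smul_zero _).symm)
    rw [← LinearMap.rTensor_comp_apply]
    exact h3
  haveI := j.isLocalization
  haveI : IsLocalizedModule (Submonoid.powers (algebraMap R j.C D.f)) (Algebra.linearMap j.C j.Loc) :=
    inferInstance
  obtain ⟨⟨_, N, rfl⟩, hN⟩ := (IsLocalizedModule.eq_zero_iff (Submonoid.powers (algebraMap R j.C D.f))
    (AlgebraTensorModule.rTensor R M₀ (Algebra.linearMap j.C j.Loc))).1 hzero
  refine ⟨N, ?_⟩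
  rw [← algebraMap_smul j.C, map_pow]
  exact hN

end GrothLib.FlatBlow1
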