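import Groth.Agent.Lib.FlatBlow1.Valuative
import Groth.Agent.Lib.FlatBlow1.Stage
import Groth.Agent.Lib.FlatLimit.Global
import Mathlib.RingTheory.Flat.Localization

/-!
# At every valuation some chart makes the strict transform flat and finitely presented
-/

set_option autoImplicit false
set_option backward.isDefEq.respectTransparency false
universe u v

open TensorProduct Function

namespace GrothLib.FlatBlow1

attribute [local instance] Algebra.TensorProduct.rightAlgebra

/-- A base change over an algebra is one over the base. -/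
theorem isBaseChange_restrict {R X B B'' M M'' : Type u} [CommRing R] [CommRing X] [CommRing B] [CommRing B'']
    [Algebra R X] [Algebra R B] [Algebra X B''] [Algebra B B''] [Algebra R B''] [IsScalarTower R X B'']
    [IsScalarTower R B B''] [Algebra.IsPushout R X B B''] [AddCommGroup M] [Module B M] [Module R M]
    [IsScalarTower R B M] [AddCommGroup M''] [Module B'' M''] [Module B M''] [IsScalarTower B B'' M''] [Module X M'']
    [IsScalarTower X B'' M''] [Module R M''] [IsScalarTower R B M''] [IsScalarTower R X M'']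
    (l : M →ₗ[B] M'') (hl : IsBaseChange B'' l) : IsBaseChange X (l.restrictScalars R) := by
  refine IsBaseChange.of_equiv
    ((Algebra.IsPushout.cancelBaseChange R X B B'' M).symm ≪≫ₗ hl.equiv.restrictScalars X) fun m => ?_
  simp [IsBaseChange.equiv_tmul, Algebra.IsPushout.cancelBaseChange_symm_tmul]

/-- Base change of a quotient. -/
theorem isBaseChange_quotient {B B'' M M'' : Type u} [CommRing B] [CommRing B''] [Algebra B B''] [AddCommGroup M]
    [Module B M] [AddCommGroup M''] [Module B'' M''] [Module B M''] [IsScalarTower B B'' M''] (ω : M →ₗ[B] M'')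
    (hω : IsBaseChange B'' ω) (K : Submodule B M) :
    IsBaseChange B'' (K.liftQ ((Submodule.span B'' (ω '' K)).mkQ.restrictScalars B ∘ₗ ω) fun x hx =>
      (Submodule.Quotient.mk_eq_zero _).2 (Submodule.subset_span ⟨x, hx, rfl⟩) :
        (M ⧸ K) →ₗ[B] M'' ⧸ Submodule.span B'' (ω '' K)) := by
  apply IsBaseChange.of_lift_unique
  intro Q _ _ _ _ g
  letI : AddCommGroup Q := Module.addCommMonoidToAddCommGroup B''
  let G := hω.lift (g ∘ₗ K.mkQ)
  have hG : Submodule.span B'' (ω '' K) ≤ LinearMap.ker G := Submodule.span_le.2 (by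
    rintro _ ⟨x, hx, rfl⟩
    rw [SetLike.mem_coe, LinearMap.mem_ker, IsBaseChange.lift_eq, LinearMap.comp_apply, Submodule.mkQ_apply,
      (Submodule.Quotient.mk_eq_zero K).2 hx, map_zero])
  refine ⟨(Submodule.span B'' (ω '' K)).liftQ G hG, ?_, fun g' hg' => ?_⟩
  · refine Submodule.linearMap_qext _ (LinearMap.ext fun x => ?_)
    exact hω.lift_eq (g ∘ₗ K.mkQ) x
  · refine Submodule.linearMap_qext _ (hω.algHom_ext _ _ fun x => ?_)
    exact (LinearMap.congr_fun hg' (K.mkQ x)).trans (hω.lift_eq (g ∘ₗ K.mkQ) x).symm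

section Model

variable {R X B M₀ M'' B'' : Type u} [CommRing R] [CommRing X] [Algebra R X] [CommRing B] [Algebra R B]
  [AddCommGroup M₀] [Module B M₀] [Module R M₀] [IsScalarTower R B M₀] [CommRing B''] [Algebra B B''] [Algebra X B'']
  [Algebra R B''] [IsScalarTower R X B''] [IsScalarTower R B B''] [Algebra.IsPushout R X B B''] [AddCommGroup M'']
  [Module B'' M''] [Module B M''] [IsScalarTower B B'' M''] [Module X M''] [IsScalarTower X B'' M''] [Module R M'']
  [IsScalarTower R X M''] [IsScalarTower R B M'']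

variable (R X) in
/-- The comparison of a model of a base change with the plain tensor product. -/
noncomputable def img (l : M₀ →ₗ[B] M'') : X ⊗[R] M₀ →ₗ[X] M'' := (l.restrictScalars R).liftBaseChange X

omit [CommRing B''] [Algebra B B''] [Algebra X B''] [Algebra R B''] [IsScalarTower R X B''] [IsScalarTower R B B'']
  [Algebra.IsPushout R X B B''] [Module B'' M''] [IsScalarTower B B'' M''] [IsScalarTower X B'' M''] in
theorem img_tmul (l : M₀ →ₗ[B] M'') (x : X) (m : M₀) : img R X l (x ⊗ₜ m) = x • l m :=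
  LinearMap.liftBaseChange_tmul _ _ _ _

theorem bijective_img {l : M₀ →ₗ[B] M''} (hl : IsBaseChange B'' l) : Bijective (img R X l) := by
  have h := isBaseChange_restrict (R := R) (X := X) l hl
  have : img R X l = h.equiv.toLinearMap := TensorProduct.AlgebraTensorModule.ext fun x m => by
    rw [img_tmul, LinearEquiv.coe_coe, IsBaseChange.equiv_tmul]
    rfl
  rw [this]
  exact h.equiv.bijective

end Model

section Compare

variable {R C B M₀ : Type u} [CommRing R] [CommRing C] [Algebra R C] [CommRing B] [Algebra R B] [AddCommGroup M₀]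
  [Module B M₀] [Module R M₀] [IsScalarTower R B M₀] {ι : Type u} (z : ι → C ⊗[R] M₀)

variable (B) in
/-- The submodule of the model over `C` spanned by the images of `z`. -/
noncomputable def rel : Submodule (C ⊗[R] B) ((C ⊗[R] B) ⊗[B] M₀) :=
  Submodule.span (C ⊗[R] B) (Set.range fun i => img (B := B) (M'' := (C ⊗[R] B) ⊗[B] M₀) R C (TensorProduct.mk B (C ⊗[R] B) M₀ 1) (z i))

set_option maxHeartbeats 1000000 in
/-- Base change of the quotient by `rel`. -/
theorem nonempty_compare {X B'' M'' : Type u} [CommRing X] [Algebra R X] [Algebra C X] [IsScalarTower R C X]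
    [CommRing B''] [Algebra B B''] [Algebra X B''] [Algebra R B''] [IsScalarTower R X B''] [IsScalarTower R B B'']
    [Algebra.IsPushout R X B B''] [AddCommGroup M''] [Module B'' M''] [Module B M''] [IsScalarTower B B'' M'']
    [Module X M''] [IsScalarTower X B'' M''] [Module R M''] [IsScalarTower R X M''] [IsScalarTower R B M'']
    (l : M₀ →ₗ[B] M'') (hl : IsBaseChange B'' l) :
    Nonempty (X ⊗[C] (((C ⊗[R] B) ⊗[B] M₀) ⧸ rel B z) ≃ₗ[X] M'' ⧸ Submodule.span B''
      (Set.range fun i => img R X l ((IsScalarTower.toAlgHom R C X).toLinearMap.rTensor M₀ (z i)))) := by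
  let B₀ := C ⊗[R] B
  let ω₀ : M₀ →ₗ[B] B₀ ⊗[B] M₀ := TensorProduct.mk B B₀ M₀ 1
  have hω₀ : IsBaseChange B₀ ω₀ := TensorProduct.isBaseChange B M₀ B₀
  letI : Algebra C B'' := ((algebraMap X B'').comp (algebraMap C X)).toAlgebra
  haveI : IsScalarTower C X B'' := IsScalarTower.of_algebraMap_eq' rfl
  haveI : IsScalarTower R C B'' := IsScalarTower.of_algebraMap_eq fun a => by
    rw [IsScalarTower.algebraMap_apply C X B'', ← IsScalarTower.algebraMap_apply R C X,
      ← IsScalarTower.algebraMap_apply R X B'']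
  letI : Algebra B₀ B'' := (Algebra.TensorProduct.lift (IsScalarTower.toAlgHom C C B'')
    (IsScalarTower.toAlgHom R B B'') fun _ _ => Commute.all _ _).toRingHom.toAlgebra
  haveI : IsScalarTower C B₀ B'' := IsScalarTower.of_algebraMap_eq fun c => by
    show _ = (Algebra.TensorProduct.lift _ _ _) (c ⊗ₜ[R] (1 : B))
    rw [Algebra.TensorProduct.lift_tmul, map_one, mul_one]
    rfl
  haveI : IsScalarTower B B₀ B'' := IsScalarTower.of_algebraMap_eq fun c => by
    show _ = (Algebra.TensorProduct.lift _ _ _) ((1 : C) ⊗ₜ[R] c)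
    rw [Algebra.TensorProduct.lift_tmul, map_one, one_mul]
    rfl
  haveI : IsScalarTower R B₀ B'' := IsScalarTower.of_algebraMap_eq fun c => by
    rw [IsScalarTower.algebraMap_apply R C B₀, ← IsScalarTower.algebraMap_apply C B₀ B'',
      ← IsScalarTower.algebraMap_apply R C B'']
  haveI : Algebra.IsPushout C X B₀ B'' :=
    (Algebra.IsPushout.comp_iff R C B B₀ (T := X) (T' := B'')).1 inferInstance
  letI : Module B₀ M'' := Module.compHom M'' (algebraMap B₀ B'')
  haveI : IsScalarTower B₀ B'' M'' := IsScalarTower.of_algebraMap_smul fun _ _ => rfl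
  haveI : IsScalarTower B B₀ M'' := IsScalarTower.of_algebraMap_smul fun b m => by
    show algebraMap B₀ B'' (algebraMap B B₀ b) • m = b • m
    rw [← IsScalarTower.algebraMap_apply B B₀ B'', algebraMap_smul]
  letI : Module C M'' := Module.compHom M'' (algebraMap C X)
  haveI : IsScalarTower C X M'' := IsScalarTower.of_algebraMap_smul fun _ _ => rfl
  haveI : IsScalarTower C B₀ M'' := IsScalarTower.of_algebraMap_smul fun c m => by
    show algebraMap B₀ B'' (algebraMap C B₀ c) • m = algebraMap C X c • m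
    rw [← IsScalarTower.algebraMap_apply C B₀ B'', IsScalarTower.algebraMap_apply C X B'', algebraMap_smul]
  haveI : IsScalarTower C B'' M'' := IsScalarTower.of_algebraMap_smul fun c m => by
    show algebraMap C B'' c • m = algebraMap C X c • m
    rw [IsScalarTower.algebraMap_apply C X B'', algebraMap_smul]
  let ω : B₀ ⊗[B] M₀ →ₗ[B₀] M'' := hω₀.lift l
  have hω : IsBaseChange B'' ω := IsBaseChange.of_comp hω₀ (by
    have : (ω : B₀ ⊗[B] M₀ →ₗ[B] M'') ∘ₗ ω₀ = l := LinearMap.ext fun m => hω₀.lift_eq l m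
    rw [this]
    exact hl)
  have key : ∀ w : C ⊗[R] M₀, ω (img R C ω₀ w) =
      img R X l ((IsScalarTower.toAlgHom R C X).toLinearMap.rTensor M₀ w) := by
    intro w
    induction w using TensorProduct.induction_on with
    | zero => simp
    | tmul c m =>
      rw [img_tmul, LinearMap.rTensor_tmul, img_tmul, AlgHom.toLinearMap_apply, IsScalarTower.coe_toAlgHom',
        ← algebraMap_smul B₀ c, map_smul, ← algebraMap_smul B'', hω₀.lift_eq,
        ← IsScalarTower.algebraMap_apply C B₀ B'', IsScalarTower.algebraMap_apply C X B'', algebraMap_smul]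
    | add a b ha hb => simp only [map_add, ha, hb]
  have hspan : Submodule.span B'' (ω '' rel B z) = Submodule.span B''
      (Set.range fun i => img R X l ((IsScalarTower.toAlgHom R C X).toLinearMap.rTensor M₀ (z i))) := by
    refine le_antisymm (Submodule.span_le.2 ?_) (Submodule.span_mono ?_)
    · rintro _ ⟨x, hx, rfl⟩
      induction hx using Submodule.span_induction with
      | mem x hx =>
        obtain ⟨i, rfl⟩ := hx
        exact Submodule.subset_span ⟨i, (key _).symm⟩
      | zero => rw [map_zero]; exact zero_mem _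
      | add a b _ _ ha hb => rw [map_add]; exact add_mem ha hb
      | smul c a _ ha =>
        rw [map_smul, ← algebraMap_smul B'']
        exact Submodule.smul_mem _ _ ha
    · rintro _ ⟨i, rfl⟩
      exact ⟨_, Submodule.subset_span ⟨i, rfl⟩, key _⟩
  rw [← hspan]
  exact ⟨(isBaseChange_restrict (R := C) (X := X) _ (isBaseChange_quotient ω hω (rel B z))).equiv⟩

set_option maxHeartbeats 1000000 in
/-- The model over a stage of the quotient by lifted relations. -/
theorem exists_model [Algebra.FinitePresentation R B] [Module.FinitePresentation B M₀] [Finite ι] :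
    ∃ (B₀ : Type u) (_ : CommRing B₀) (_ : Algebra C B₀) (_ : Algebra.FinitePresentation C B₀) (P₀ : Type u)
      (_ : AddCommGroup P₀) (_ : Module B₀ P₀) (_ : Module C P₀) (_ : IsScalarTower C B₀ P₀)
      (_ : Module.FinitePresentation B₀ P₀),
      ∀ (X : Type u) [CommRing X] [Algebra R X] [Algebra C X] [IsScalarTower R C X] (B'' M'' : Type u) [CommRing B'']
        [Algebra B B''] [Algebra X B''] [Algebra R B''] [IsScalarTower R X B''] [IsScalarTower R B B'']
        [Algebra.IsPushout R X B B''] [AddCommGroup M''] [Module B'' M''] [Module B M''] [IsScalarTower B B'' M'']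
        [Module X M''] [IsScalarTower X B'' M''] [Module R M''] [IsScalarTower R X M''] [IsScalarTower R B M'']
        (l : M₀ →ₗ[B] M''), IsBaseChange B'' l →
        Nonempty (X ⊗[C] P₀ ≃ₗ[X] M'' ⧸ Submodule.span B''
          (Set.range fun i => img R X l ((IsScalarTower.toAlgHom R C X).toLinearMap.rTensor M₀ (z i)))) := by
  haveI : Module.FinitePresentation (C ⊗[R] B) ((C ⊗[R] B) ⊗[B] M₀) :=
    FinitePresentation.of_isBaseChange _ (TensorProduct.isBaseChange B M₀ (C ⊗[R] B))
  haveI : Module.FinitePresentation (C ⊗[R] B) (((C ⊗[R] B) ⊗[B] M₀) ⧸ rel B z) :=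
    Module.finitePresentation_of_surjective (rel B z).mkQ (Submodule.mkQ_surjective _)
      (by rw [Submodule.ker_mkQ]; exact Submodule.fg_span (Set.finite_range _))
  exact ⟨C ⊗[R] B, inferInstance, inferInstance, inferInstance, ((C ⊗[R] B) ⊗[B] M₀) ⧸ rel B z, inferInstance,
    inferInstance, inferInstance, inferInstance, inferInstance,
    fun X _ _ _ _ B'' M'' _ _ _ _ _ _ _ _ _ _ _ _ _ _ _ _ l hl => nonempty_compare z l hl⟩

end Compare

variable {R : Type u} [CommRing R] {Γ₀ : Type v} [LinearOrderedCommGroupWithZero Γ₀]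

set_option maxHeartbeats 1000000 in
/-- The model over `A` is flat after inverting `e`. -/
theorem flat_localized (D : Datum R Γ₀) {M₀ MA : Type u} [AddCommGroup M₀] [Module R M₀]
    [Module.Flat R (Localization.Away D.f ⊗[R] M₀)] [AddCommGroup MA] [Module D.A MA] [Module R MA]
    [IsScalarTower R D.A MA] (ωA : M₀ →ₗ[R] MA) (hA : IsBaseChange D.A ωA) :
    Module.Flat D.A (LocalizedModule (Submonoid.powers D.e) MA) := by
  haveI hPflat : Module.Flat D.A D.P := IsLocalization.flat D.P (Submonoid.powers D.e)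
  have hj : IsBaseChange D.P (TensorProduct.mk D.A D.P MA 1) :=
    TensorProduct.isBaseChange D.A MA D.P
  haveI : IsLocalizedModule (Submonoid.powers D.e) (TensorProduct.mk D.A D.P MA 1) :=
    (isLocalizedModule_iff_isBaseChange (Submonoid.powers D.e) D.P _).2 hj
  have hc : IsBaseChange D.P ((TensorProduct.mk D.A D.P MA 1).restrictScalars R ∘ₗ
      ωA) := hA.comp hj
  letI : Algebra (Localization.Away D.f) D.P :=
    (IsLocalization.Away.lift (S := Localization.Away D.f) D.f D.isUnit_f).toAlgebra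
  haveI : IsScalarTower R (Localization.Away D.f) D.P := IsScalarTower.of_algebraMap_eq fun a =>
    (IsLocalization.Away.lift_eq D.f D.isUnit_f a).symm
  haveI : Module.Flat (Localization.Away D.f) (Localization.Away D.f ⊗[R] M₀) :=
    (Module.flat_iff_of_isLocalization (Localization.Away D.f) (Submonoid.powers D.f) _).2 inferInstance
  haveI : Module.Flat D.P (D.P ⊗[R] M₀) := Module.Flat.of_linearEquiv
    (AlgebraTensorModule.cancelBaseChange R (Localization.Away D.f) D.P D.P M₀).symm
  haveI : Module.Flat D.P (D.P ⊗[D.A] MA) := Module.Flat.of_linearEquiv hc.equiv.symm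
  haveI : Module.Flat D.A (D.P ⊗[D.A] MA) := Module.Flat.trans D.A D.P _
  exact Module.Flat.of_linearEquiv (IsLocalizedModule.iso (Submonoid.powers D.e)
    (TensorProduct.mk D.A D.P MA 1))

set_option maxHeartbeats 1000000 in
/-- Torsion elements over `A` lift to a stage, killed there by a power of `f`. -/
theorem exists_lifts (D : Datum R Γ₀) {B M₀ AB MA : Type u} [CommRing B] [Algebra R B]
    [AddCommGroup M₀] [Module B M₀] [Module R M₀] [IsScalarTower R B M₀] [CommRing AB] [Algebra B AB] [Algebra D.A AB]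
    [Algebra R AB] [IsScalarTower R D.A AB] [IsScalarTower R B AB] [Algebra.IsPushout R D.A B AB]
    [AddCommGroup MA] [Module AB MA] [Module B MA] [IsScalarTower B AB MA] [Module D.A MA] [IsScalarTower D.A AB MA]
    [Module R MA] [IsScalarTower R D.A MA] [IsScalarTower R B MA] (ωA : M₀ →ₗ[B] MA) (hωA : IsBaseChange AB ωA)
    (U : Finset MA) (hU : ∀ τ ∈ U, τ ∈ FlatCA.powTorsion AB (algebraMap D.A AB D.e) MA) :
    ∃ (i : D.Stage) (N : ℕ), ∀ τ ∈ U, ∃ z : i.C ⊗[R] M₀,
      D.f ^ N • z = 0 ∧ img R D.A ωA (i.toA.toLinearMap.rTensor M₀ z) = τ := by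
  classical
  let E := LinearEquiv.ofBijective _ (bijective_img (R := R) (X := D.A) hωA)
  induction U using Finset.induction_on with
  | empty => exact ⟨Classical.arbitrary _, 0, by simp⟩
  | insert τ U _ ih =>
    obtain ⟨i, N, hi⟩ := ih fun x hx => hU x (Finset.mem_insert_of_mem hx)
    have hlift' : ∀ w : D.A ⊗[R] M₀, ∃ (j : D.Stage) (z : j.C ⊗[R] M₀), j.toA.toLinearMap.rTensor M₀ z = w := by
      intro w
      induction w using TensorProduct.induction_on with
      | zero => exact ⟨Classical.arbitrary _, 0, map_zero _⟩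
      | tmul a m =>
        obtain ⟨j, y, hy⟩ := D.exists_lift a
        exact ⟨j, y ⊗ₜ m, by rw [LinearMap.rTensor_tmul]; exact congrArg (· ⊗ₜ[R] m) hy⟩
      | add a a' ha ha' =>
        obtain ⟨j, z, rfl⟩ := ha
        obtain ⟨j', z', rfl⟩ := ha'
        refine ⟨j.mul j', (j.le_mul_left j').map.toLinearMap.rTensor M₀ z +
          (j.le_mul_right j').map.toLinearMap.rTensor M₀ z', ?_⟩
        rw [map_add, ← LinearMap.rTensor_comp_apply, ← LinearMap.rTensor_comp_apply]
        congr 2 <;> exact congrArg (LinearMap.rTensor M₀) (LinearMap.ext fun x => Datum.Stage.Le.toA_map _ x)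
    obtain ⟨j, z, hz⟩ := hlift' (E.symm τ)
    have hzP : (j.toP.comp j.C.val).toLinearMap.rTensor M₀ z = 0 := by
      have hτ : τ ∈ FlatCA.powTorsion AB (algebraMap D.A AB D.e) (MA) :=
        hU τ (Finset.mem_insert_self τ U)
      obtain ⟨k, hk⟩ := (Fitting.mem_powTorsion_iff _ _).1 hτ
      rw [← map_pow, algebraMap_smul] at hk
      have h1 : D.e ^ k • (j.toA.toLinearMap.rTensor M₀ z) = 0 := by
        apply E.injective
        rw [map_smul, hz, LinearEquiv.apply_symm_apply, hk, map_zero]
      have h2 : (j.toP.comp j.C.val).toLinearMap.rTensor M₀ z =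
          D.A.val.toLinearMap.rTensor M₀ (j.toA.toLinearMap.rTensor M₀ z) := by
        rw [← LinearMap.rTensor_comp_apply]
        rfl
      rw [h2]
      have h3 := congrArg (D.A.val.toLinearMap.rTensor M₀) h1
      rw [map_zero, ← map_pow, algebraMap_smul, map_smul, ← algebraMap_smul D.P, map_pow] at h3
      exact (D.isUnit_f.pow k).smul_left_cancel.1 (h3.trans (smul_zero _).symm)
    obtain ⟨j', hj', N', hN'⟩ := j.exists_kill z hzP
    refine ⟨i.mul j', N + N', fun σ hσ => ?_⟩
    rcases Finset.mem_insert.1 hσ with rfl | hσ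
    · refine ⟨(i.le_mul_right j').map.toLinearMap.rTensor M₀ (hj'.map.toLinearMap.rTensor M₀ z), ?_, ?_⟩
      · rw [pow_add, mul_smul, ← map_smul, hN', map_zero, smul_zero]
      · rw [← LinearMap.rTensor_comp_apply, ← LinearMap.rTensor_comp_apply]
        refine ((congrArg E ?_).trans (congrArg E hz)).trans (E.apply_symm_apply σ)
        refine LinearMap.congr_fun (congrArg (LinearMap.rTensor M₀) (LinearMap.ext fun x => ?_)) z
        exact ((i.le_mul_right j').toA_map _).trans (hj'.toA_map x)
    · obtain ⟨w, hw, hwτ⟩ := hi σ hσ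
      refine ⟨(i.le_mul_left j').map.toLinearMap.rTensor M₀ w, ?_, ?_⟩
      · rw [add_comm, pow_add, mul_smul, ← map_smul, hw, map_zero, smul_zero]
      · rw [← LinearMap.rTensor_comp_apply]
        refine (congrArg E ?_).trans hwτ
        refine LinearMap.congr_fun (congrArg (LinearMap.rTensor M₀) (LinearMap.ext fun x => ?_)) w
        exact (i.le_mul_left j').toA_map x

set_option maxHeartbeats 1000000 in
/-- Flatness over `A` of a model over a stage comes from a later stage. -/
theorem exists_stage_flat_model (D : Datum R Γ₀) (i₀ : D.Stage) (B₀ : Type u) [CommRing B₀] [Algebra i₀.C B₀]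
    [Algebra.FinitePresentation i₀.C B₀] (P₀ : Type u) [AddCommGroup P₀] [Module B₀ P₀] [Module i₀.C P₀]
    [IsScalarTower i₀.C B₀ P₀] [Module.FinitePresentation B₀ P₀] [Algebra i₀.C D.A]
    (halg : ∀ x, algebraMap i₀.C D.A x = i₀.toA x) [Module.Flat D.A (D.A ⊗[i₀.C] P₀)] :
    ∃ (j : D.Stage) (h : i₀.Le j), ∀ (R' : Type u) [CommRing R'] [Algebra i₀.C R'] (γ : j.C →+* R'),
      (∀ x, γ (h.map x) = algebraMap i₀.C R' x) → Module.Flat R' (R' ⊗[i₀.C] P₀) := by
  let G : D.Stage → Type u := fun k => ↥(i₀.mul k).C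
  letI (k : D.Stage) : Algebra i₀.C (G k) := (i₀.le_mul_left k).map.toRingHom.toAlgebra
  letI (k : D.Stage) : Algebra (G k) D.A := (i₀.mul k).toA.toRingHom.toAlgebra
  haveI (k : D.Stage) : IsScalarTower i₀.C (G k) D.A :=
    IsScalarTower.of_algebraMap_eq fun x => (halg x).trans ((i₀.le_mul_left k).toA_map x).symm
  let tr : ∀ {k k' : D.Stage}, (i₀.mul k).Le (i₀.mul k') → (G k →ₐ[i₀.C] G k') := fun {k k'} h =>
    { toRingHom := h.map.toRingHom
      commutes' := fun x => Datum.Stage.Le.map_map (i₀.le_mul_left k) h (i₀.le_mul_left k') x }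
  obtain ⟨k, hk⟩ := FlatLimit.exists_stage_flat (A := D.A) G
    (fun k k' => ⟨k.mul k', tr (Datum.Stage.mul_le_mul (k.le_mul_left k')),
      tr (Datum.Stage.mul_le_mul (k.le_mul_right k')),
      fun x => Datum.Stage.Le.toA_map _ x, fun x => Datum.Stage.Le.toA_map _ x⟩)
    (fun U => by
      obtain ⟨k, hk⟩ := D.exists_lift_finset U
      refine ⟨k, fun a ha => ?_⟩
      obtain ⟨y, hy⟩ := hk ha
      exact ⟨(i₀.le_mul_right k).map y, (Datum.Stage.Le.toA_map _ y).trans hy⟩)
    (fun k p hp => by
      obtain ⟨j, h, hj⟩ := (i₀.mul k).exists_map_eq p hp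
      refine ⟨j, tr (h.trans (i₀.le_mul_right j)), fun x => Datum.Stage.Le.toA_map _ x, fun x hx => ?_⟩
      show (h.trans (i₀.le_mul_right j)).map x.1 = (h.trans (i₀.le_mul_right j)).map x.2
      rw [← Datum.Stage.Le.map_map h (i₀.le_mul_right j), ← Datum.Stage.Le.map_map h (i₀.le_mul_right j), hj x hx])
    B₀ P₀
  refine ⟨i₀.mul k, i₀.le_mul_left k, fun R' _ _ γ hγ => ?_⟩
  letI : Algebra (G k) R' := γ.toAlgebra
  haveI : IsScalarTower i₀.C (G k) R' := IsScalarTower.of_algebraMap_eq fun x => (hγ x).symm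
  exact Module.Flat.of_linearEquiv (AlgebraTensorModule.cancelBaseChange i₀.C (G k) R' R' P₀).symm

/-- The denominator of a stage is a non-zero-divisor and `f` divides `e` on any chart of it. -/
theorem Datum.Stage.chart_props {D : Datum R Γ₀} (j : D.Stage) {R' : Type u} [CommRing R'] [Algebra R R'] {e : R'}
    (he : e ∈ nonZeroDivisors R') (heT : e ∈ (Ideal.span (D.T : Set R)).map (algebraMap R R'))
    (hdiv : ∀ a ∈ j.L, algebraMap R R' j.b ∣ algebraMap R R' a) :
    algebraMap R R' j.b ∈ nonZeroDivisors R' ∧ algebraMap R R' D.f ∣ e := by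
  obtain ⟨c, hc, hcT⟩ := j.cone
  have hb : algebraMap R R' j.b ∈ nonZeroDivisors R' := by
    obtain ⟨n, hn⟩ : ∃ n : ℕ, algebraMap R R' j.b ∣ e ^ n := by
      have hle : (Ideal.span (D.T : Set R)).map (algebraMap R R') ≤
          (Ideal.span {algebraMap R R' j.b}).radical := by
        rw [Ideal.map_le_iff_le_comap, Ideal.span_le]
        intro g hg
        obtain ⟨M, hM⟩ := j.pow g hg
        exact ⟨M, Ideal.mem_span_singleton.2 (by rw [← map_pow]; exact hdiv _ hM)⟩
      obtain ⟨n, hn⟩ := hle heT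
      exact ⟨n, Ideal.mem_span_singleton.1 hn⟩
    obtain ⟨d, hd⟩ := hn
    exact (mul_mem_nonZeroDivisors.1 (hd ▸ pow_mem he n)).1
  have hfe : algebraMap R R' D.f ∣ e := by
    have hle : (Ideal.span (D.T : Set R)).map (algebraMap R R') ≤ Ideal.span {algebraMap R R' D.f} := by
      rw [Ideal.map_le_iff_le_comap, Ideal.span_le]
      intro g hg
      refine Ideal.mem_span_singleton.2 ?_
      obtain ⟨d, hd⟩ := hdiv _ (hcT g hg)
      rw [congrArg (algebraMap R R') hc, map_mul] at hb
      rw [congrArg (algebraMap R R') hc, map_mul, map_mul, mul_right_comm] at hd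
      exact ⟨d, mem_nonZeroDivisors_iff_right.1 (mul_mem_nonZeroDivisors.1 hb).2 _ (by
        rw [sub_mul, hd, sub_self]) |> sub_eq_zero.1⟩
    exact Ideal.mem_span_singleton.1 (hle heT)
  exact ⟨hb, hfe⟩

/-- The chart of a stage maps to every ring on which the denominator divides the numerators. -/
theorem Datum.Stage.exists_chart_hom {D : Datum R Γ₀} (j : D.Stage) {R' : Type u} [CommRing R'] [Algebra R R']
    (hb : algebraMap R R' j.b ∈ nonZeroDivisors R') (hdiv : ∀ a ∈ j.L, algebraMap R R' j.b ∣ algebraMap R R' a) :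
    Nonempty (j.C →ₐ[R] R') := by
  let Rb := Localization.Away (algebraMap R R' j.b)
  have hub : IsUnit (algebraMap R Rb j.b) := by
    rw [IsScalarTower.algebraMap_apply R R' Rb]
    exact IsLocalization.Away.algebraMap_isUnit _
  have hu : ∀ y : Submonoid.powers j.b, IsUnit (Algebra.ofId R Rb (y : R)) := by
    rintro ⟨_, n, rfl⟩
    rw [map_pow]
    exact hub.pow n
  let φ : j.Loc →ₐ[R] Rb := IsLocalization.liftAlgHom (M := Submonoid.powers j.b) (f := Algebra.ofId R Rb) hu
  let ι : R' →ₐ[R] Rb := IsScalarTower.toAlgHom R R' Rb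
  have hι : Injective ι := IsLocalization.injective Rb (Submonoid.powers_le.2 hb)
  have hrange : j.C ≤ ι.range.comap φ := by
    refine Algebra.adjoin_le ?_
    rintro _ ⟨a, ha, rfl⟩
    obtain ⟨d, hd⟩ := hdiv a ha
    refine ⟨d, hub.mul_left_injective ?_⟩
    show ι d * algebraMap R Rb j.b = φ _ * algebraMap R Rb j.b
    rw [← ι.commutes, ← map_mul, mul_comm, ← hd, ι.commutes, ι.commutes, ← φ.commutes j.b, ← map_mul,
      IsLocalization.mk'_spec, φ.commutes]
  let γ : j.C →ₐ[R] R' := (AlgEquiv.ofInjective ι hι).symm.toAlgHom.comp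
    ((φ.comp j.C.val).codRestrict ι.range fun x => hrange x.2)
  exact ⟨γ⟩

set_option maxHeartbeats 1000000 in
/-- A quotient of a torsion submodule which is flat is the whole torsion. -/
theorem powTorsion_eq_of_flat {R' B'' M'' : Type u} [CommRing R'] [CommRing B''] [Algebra R' B''] [AddCommGroup M'']
    [Module B'' M''] [Module R' M''] [IsScalarTower R' B'' M''] {e : R'} (he : e ∈ nonZeroDivisors R')
    (K : Submodule B'' M'') [Module.Flat R' (M'' ⧸ K)] (hK : K ≤ FlatCA.powTorsion B'' (algebraMap R' B'' e) M'') :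
    FlatCA.powTorsion B'' (algebraMap R' B'' e) M'' = K := by
  refine le_antisymm (fun m hm => ?_) hK
  obtain ⟨n, hn⟩ := (Fitting.mem_powTorsion_iff _ _).1 hm
  rw [← map_pow, algebraMap_smul] at hn
  rw [← Submodule.Quotient.mk_eq_zero]
  let q := K.mkQ m
  have hq : e ^ n • q = 0 := by rw [← LinearMap.map_smul_of_tower, hn, map_zero]
  have hen := pow_mem he n
  have hinj : Injective (LinearMap.mulLeft R' (e ^ n)) := fun a b h => sub_eq_zero.1
    (mem_nonZeroDivisors_iff_left.1 hen _ (by rw [mul_sub]; exact sub_eq_zero.2 h))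
  have h2 : (1 : R') ⊗ₜ[R'] q = 0 := Module.Flat.rTensor_preserves_injective_linearMap
    (M := M'' ⧸ K) (LinearMap.mulLeft R' (e ^ n)) hinj (by
    rw [LinearMap.rTensor_tmul, map_zero, LinearMap.mulLeft_apply, mul_one,
      show e ^ n = e ^ n • (1 : R') by rw [smul_eq_mul, mul_one], TensorProduct.smul_tmul, hq,
      TensorProduct.tmul_zero])
  have h3 := congrArg (TensorProduct.lid R' (M'' ⧸ K)) h2
  rw [TensorProduct.lid_tmul, map_zero, one_smul] at h3
  exact h3

set_option maxHeartbeats 1600000 in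
/-- At every valuation there is a good chart, for given models over `A`. -/
theorem exists_good_pair_aux (D : Datum R Γ₀) {B M₀ AB MA : Type u} [CommRing B] [Algebra R B]
    [Algebra.FinitePresentation R B] [AddCommGroup M₀] [Module B M₀] [Module R M₀] [IsScalarTower R B M₀]
    [Module.FinitePresentation B M₀] [Module.Flat R (Localization.Away D.f ⊗[R] M₀)] [CommRing AB] [Algebra B AB]
    [Algebra D.A AB] [Algebra R AB] [IsScalarTower R D.A AB] [IsScalarTower R B AB] [Algebra.IsPushout R D.A B AB]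
    [Algebra.FiniteType D.A AB] [AddCommGroup MA] [Module AB MA] [Module B MA] [IsScalarTower B AB MA] [Module D.A MA]
    [IsScalarTower D.A AB MA] [Module R MA] [IsScalarTower R D.A MA] [IsScalarTower R B MA]
    [Module.FinitePresentation AB MA] (ωA : M₀ →ₗ[B] MA) (hωA : IsBaseChange AB ωA) :
    ∃ (L : Finset R) (b : R), b ∈ L ∧ (∀ a ∈ L, D.v a ≤ D.v b) ∧ D.v b ≠ 0 ∧
      (∀ g ∈ D.T, ∃ N : ℕ, g ^ N ∈ L) ∧
      ∀ (R' : Type u) [CommRing R'] [Algebra R R'] (e : R'), e ∈ nonZeroDivisors R' →
        e ∈ (Ideal.span (D.T : Set R)).map (algebraMap R R') →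
        (∀ a ∈ L, algebraMap R R' b ∣ algebraMap R R' a) →
        ∀ (B'' M'' : Type u) [CommRing B''] [Algebra B B''] [Algebra R' B''] [Algebra R B''] [IsScalarTower R R' B'']
          [IsScalarTower R B B''] [Algebra.IsPushout R R' B B''] [AddCommGroup M''] [Module B'' M''] [Module B M'']
          [IsScalarTower B B'' M''] [Module R' M''] [IsScalarTower R' B'' M''] (l : M₀ →ₗ[B] M''),
          IsBaseChange B'' l →
            Module.Flat R' (M'' ⧸ FlatCA.powTorsion B'' (algebraMap R' B'' e) M'') ∧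
              (FlatCA.powTorsion B'' (algebraMap R' B'' e) M'').FG := by
  classical
  haveI := flat_localized D (ωA.restrictScalars R) (isBaseChange_restrict (X := D.A) ωA hωA)
  obtain ⟨hflat, S, hS⟩ := flat_fg_powTorsion (B := AB) (N := MA) D.e D.cmp_aux D.e_mem_nonZeroDivisors
  obtain ⟨i₀, N, hz⟩ := exists_lifts D ωA hωA S fun τ hτ => hS ▸ Submodule.subset_span hτ
  choose z hzN hzτ using hz
  let zz : S → i₀.C ⊗[R] M₀ := fun τ => z τ.1 τ.2
  letI : Algebra i₀.C D.A := i₀.toA.toRingHom.toAlgebra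
  haveI : IsScalarTower R i₀.C D.A := IsScalarTower.of_algebraMap_eq fun a => (i₀.toA.commutes a).symm
  obtain ⟨B₀, _, _, _, P₀, _, _, _, _, _, hP₀⟩ := exists_model (B := B) zz
  obtain ⟨E⟩ := hP₀ D.A AB MA ωA hωA
  have hspanA : Submodule.span AB (Set.range fun τ : S => img R D.A ωA
      ((IsScalarTower.toAlgHom R i₀.C D.A).toLinearMap.rTensor M₀ (zz τ))) =
      FlatCA.powTorsion AB (algebraMap D.A AB D.e) MA := by
    rw [← hS]
    congr 1
    ext x
    constructor
    · rintro ⟨τ, rfl⟩
      show img R D.A ωA (i₀.toA.toLinearMap.rTensor M₀ (z τ.1 τ.2)) ∈ (S : Set MA)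
      rw [hzτ]
      exact τ.2
    · exact fun hx => ⟨⟨x, hx⟩, hzτ x hx⟩
  haveI : Module.Flat D.A (D.A ⊗[i₀.C] P₀) := by
    haveI := hflat
    exact Module.Flat.of_linearEquiv (E.trans ((Submodule.quotEquivOfEq _ _ hspanA).restrictScalars D.A))
  obtain ⟨j, hle, hj⟩ := exists_stage_flat_model D i₀ B₀ P₀ fun _ => rfl
  refine ⟨j.L, j.b, j.mem, j.le, ?_, j.pow, ?_⟩
  · obtain ⟨n, hn⟩ := j.b_mem_S
    exact fun h => pow_ne_zero n D.f_ne (le_zero_iff.1 (h ▸ hn))
  intro R' _ _ e he heT hdiv B'' M'' _ _ _ _ _ _ _ _ _ _ _ _ _ l hl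
  letI : Module R M'' := Module.compHom M'' (algebraMap R R')
  haveI : IsScalarTower R R' M'' := IsScalarTower.of_algebraMap_smul fun _ _ => rfl
  haveI : IsScalarTower R B M'' := IsScalarTower.of_algebraMap_smul fun a m => by
    rw [← algebraMap_smul B'', ← IsScalarTower.algebraMap_apply R B B'', IsScalarTower.algebraMap_apply R R' B'',
      algebraMap_smul]
    rfl
  obtain ⟨hb, hfe⟩ := j.chart_props he heT hdiv
  obtain ⟨γ⟩ := j.exists_chart_hom hb hdiv
  letI : Algebra i₀.C R' := (γ.comp hle.map).toRingHom.toAlgebra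
  haveI : IsScalarTower R i₀.C R' := IsScalarTower.of_algebraMap_eq fun a => ((γ.comp hle.map).commutes a).symm
  haveI := hj R' γ.toRingHom fun _ => rfl
  obtain ⟨E'⟩ := hP₀ R' B'' M'' l hl
  let Z : S → M'' := fun τ => img R R' l ((IsScalarTower.toAlgHom R i₀.C R').toLinearMap.rTensor M₀ (zz τ))
  haveI : Module.Flat R' (M'' ⧸ Submodule.span B'' (Set.range Z)) := Module.Flat.of_linearEquiv E'.symm
  have hT : FlatCA.powTorsion B'' (algebraMap R' B'' e) M'' = Submodule.span B'' (Set.range Z) := by
    refine powTorsion_eq_of_flat he _ (Submodule.span_le.2 ?_)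
    rintro _ ⟨τ, rfl⟩
    refine (Fitting.mem_powTorsion_iff _ _).2 ⟨N, ?_⟩
    obtain ⟨d, hd⟩ := pow_dvd_pow_of_dvd hfe N
    rw [← map_pow, algebraMap_smul, hd, mul_comm, mul_smul, ← map_pow, algebraMap_smul]
    have hZ0 : D.f ^ N • Z τ = 0 := by
      show D.f ^ N • img R R' l _ = 0
      rw [← LinearMap.map_smul_of_tower, ← map_smul, hzN τ.1 τ.2, map_zero, map_zero]
    rw [hZ0, smul_zero]
  rw [hT]
  exact ⟨inferInstance, Submodule.fg_span (Set.finite_range Z)⟩


set_option maxHeartbeats 1000000 in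
/-- Models of base changes exist. -/
theorem exists_model_bc (X : Type u) [CommRing X] [Algebra R X] {B M₀ : Type u} [CommRing B] [Algebra R B]
    [Algebra.FiniteType R B] [AddCommGroup M₀] [Module B M₀] [Module R M₀] [IsScalarTower R B M₀]
    [Module.FinitePresentation B M₀] :
    ∃ (AB : Type u) (_ : CommRing AB) (_ : Algebra B AB) (_ : Algebra X AB) (_ : Algebra R AB) (_ : IsScalarTower R X AB)
      (_ : IsScalarTower R B AB) (_ : Algebra.IsPushout R X B AB) (_ : Algebra.FiniteType X AB) (MA : Type u)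
      (_ : AddCommGroup MA) (_ : Module AB MA) (_ : Module B MA) (_ : IsScalarTower B AB MA) (_ : Module X MA)
      (_ : IsScalarTower X AB MA) (_ : Module R MA) (_ : IsScalarTower R X MA) (_ : IsScalarTower R B MA)
      (_ : Module.FinitePresentation AB MA) (ωA : M₀ →ₗ[B] MA), IsBaseChange AB ωA := by
  haveI : Module.FinitePresentation (X ⊗[R] B) ((X ⊗[R] B) ⊗[B] M₀) :=
    FinitePresentation.of_isBaseChange _ (TensorProduct.isBaseChange B M₀ (X ⊗[R] B))
  exact ⟨X ⊗[R] B, inferInstance, inferInstance, inferInstance, inferInstance, inferInstance, inferInstance,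
    inferInstance, inferInstance, (X ⊗[R] B) ⊗[B] M₀, inferInstance, inferInstance, inferInstance, inferInstance,
    inferInstance, inferInstance, inferInstance, inferInstance, inferInstance, inferInstance,
    TensorProduct.mk B (X ⊗[R] B) M₀ 1, TensorProduct.isBaseChange B M₀ (X ⊗[R] B)⟩

/-- **At every valuation there is a good chart.** -/
theorem exists_good_pair (D : Datum R Γ₀) {B M₀ : Type u} [CommRing B] [Algebra R B] [Algebra.FinitePresentation R B]
    [AddCommGroup M₀] [Module B M₀] [Module R M₀] [IsScalarTower R B M₀] [Module.FinitePresentation B M₀]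
    [Module.Flat R (Localization.Away D.f ⊗[R] M₀)] :
    ∃ (L : Finset R) (b : R), b ∈ L ∧ (∀ a ∈ L, D.v a ≤ D.v b) ∧ D.v b ≠ 0 ∧
      (∀ g ∈ D.T, ∃ N : ℕ, g ^ N ∈ L) ∧
      ∀ (R' : Type u) [CommRing R'] [Algebra R R'] (e : R'), e ∈ nonZeroDivisors R' →
        e ∈ (Ideal.span (D.T : Set R)).map (algebraMap R R') →
        (∀ a ∈ L, algebraMap R R' b ∣ algebraMap R R' a) →
        ∀ (B'' M'' : Type u) [CommRing B''] [Algebra B B''] [Algebra R' B''] [Algebra R B''] [IsScalarTower R R' B'']
          [IsScalarTower R B B''] [Algebra.IsPushout R R' B B''] [AddCommGroup M''] [Module B'' M''] [Module B M'']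
          [IsScalarTower B B'' M''] [Module R' M''] [IsScalarTower R' B'' M''] (l : M₀ →ₗ[B] M''),
          IsBaseChange B'' l →
            Module.Flat R' (M'' ⧸ FlatCA.powTorsion B'' (algebraMap R' B'' e) M'') ∧
              (FlatCA.powTorsion B'' (algebraMap R' B'' e) M'').FG := by
  obtain ⟨AB, _, _, _, _, _, _, _, _, MA, _, _, _, _, _, _, _, _, _, _, ωA, hωA⟩ :=
    exists_model_bc (R := R) D.A (B := B) (M₀ := M₀)
  exact exists_good_pair_aux D ωA hωA

end GrothLib.FlatBlow1
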