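import Groth.Agent.Lib.BlowFree1.Centre
import Groth.Agent.Lib.FlatBlow1.Good
import Groth.Agent.Lib.RG6.Valuative
import Mathlib.RingTheory.Valuation.ValuativeRel.Basic
import Mathlib.RingTheory.Valuation.ValuationSubring
import Mathlib.Order.Filter.Ultrafilter.Basic

/-!
# A centre whose blow-up flattens a module
-/

set_option autoImplicit false
universe u

open TensorProduct Function Filter

namespace GrothLib.FlatBlow1

/-- A chart `(L, b)` on which the strict transform of `M₀` is flat and finitely presented. -/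
def GoodPair {R B M₀ : Type u} [CommRing R] [CommRing B] [Algebra R B] [AddCommGroup M₀] [Module B M₀]
    (T : Finset R) (L : Finset R) (b : R) : Prop :=
  b ∈ L ∧ (∀ g ∈ T, ∃ N : ℕ, g ^ N ∈ L) ∧
    ∀ (R' : Type u) [CommRing R'] [Algebra R R'] (e : R'), e ∈ nonZeroDivisors R' →
      e ∈ (Ideal.span (T : Set R)).map (algebraMap R R') →
      (∀ a ∈ L, algebraMap R R' b ∣ algebraMap R R' a) →
      ∀ (B'' M'' : Type u) [CommRing B''] [Algebra B B''] [Algebra R' B''] [Algebra R B''] [IsScalarTower R R' B'']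
        [IsScalarTower R B B''] [Algebra.IsPushout R R' B B''] [AddCommGroup M''] [Module B'' M''] [Module B M'']
        [IsScalarTower B B'' M''] [Module R' M''] [IsScalarTower R' B'' M''] (l : M₀ →ₗ[B] M''),
        IsBaseChange B'' l →
          Module.Flat R' (M'' ⧸ FlatCA.powTorsion B'' (algebraMap R' B'' e) M'') ∧
            (FlatCA.powTorsion B'' (algebraMap R' B'' e) M'').FG

/-- A point of the space of valuations centred on `R` and meeting `D(T)`. -/
def IsPoint {R : Type u} [CommRing R] (T : Finset R) (r : ValuativeRel R) : Prop :=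
  (∀ a, r.vle a 1) ∧ ∃ g ∈ T, ¬ r.vle g 0

/-- Finitely many good charts cover all points. -/
theorem exists_finite_cover {R B M₀ : Type u} [CommRing R] [CommRing B] [Algebra R B]
    [Algebra.FinitePresentation R B] [AddCommGroup M₀] [Module B M₀] [Module R M₀] [IsScalarTower R B M₀]
    [Module.FinitePresentation B M₀] (T : Finset R)
    (hflat : ∀ f ∈ T, Module.Flat R (Localization.Away f ⊗[R] M₀)) :
    ∃ F : Finset (Finset R × R), (∀ p ∈ F, GoodPair (B := B) (M₀ := M₀) T p.1 p.2) ∧
      ∀ r : ValuativeRel R, IsPoint T r → ∃ p ∈ F, ∀ a ∈ p.1, r.vle a p.2 := by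
  classical
  by_contra hcon
  push Not at hcon
  let Pairs := {p : Finset R × R // GoodPair (B := B) (M₀ := M₀) T p.1 p.2}
  have hbad : ∀ F : Finset Pairs, ∃ r : ValuativeRel R, IsPoint T r ∧ ∀ p ∈ F, ∃ a ∈ p.1.1, ¬ r.vle a p.1.2 := by
    intro F
    obtain ⟨r, hr, h⟩ := hcon (F.image Subtype.val) (by
      intro p hp
      obtain ⟨q, -, rfl⟩ := Finset.mem_image.1 hp
      exact q.2)
    exact ⟨r, hr, fun p hp => h p.1 (Finset.mem_image_of_mem _ hp)⟩
  choose r hr hbad using hbad
  let U : Ultrafilter (Finset Pairs) := Ultrafilter.of atTop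
  let lim : ValuativeRel R :=
    { vle := fun a b => ∀ᶠ F in (U : Filter (Finset Pairs)), (r F).vle a b
      vle_total := fun a b => Ultrafilter.eventually_or.1 (Eventually.of_forall fun F => (r F).vle_total a b)
      vle_trans := fun h h' => by
        filter_upwards [h, h'] with F hF hF' using (r F).vle_trans hF hF'
      vle_add := fun h h' => by
        filter_upwards [h, h'] with F hF hF' using (r F).vle_add hF hF'
      mul_vle_mul_left := fun h z => by
        filter_upwards [h] with F hF using (r F).mul_vle_mul_left hF z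
      vle_mul_cancel := fun h h' => by
        filter_upwards [Ultrafilter.eventually_not.2 h, h'] with F hF hF' using (r F).vle_mul_cancel hF hF'
      not_vle_one_zero := fun h => by
        obtain ⟨F, hF⟩ := h.exists
        exact (r F).not_vle_one_zero hF
      vle_mul_comm := Eventually.of_forall fun F => (r F).vle_mul_comm }
  have hlim : IsPoint T lim := by
    refine ⟨fun a => Eventually.of_forall fun F => (hr F).1 a, ?_⟩
    by_contra h
    push Not at h
    have h1 : ∀ᶠ F in (U : Filter (Finset Pairs)), ∀ g ∈ T, (r F).vle g 0 := T.eventually_all.2 h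
    obtain ⟨F, hF⟩ := h1.exists
    obtain ⟨g, hg, hg0⟩ := (hr F).2
    exact hg0 (hF g hg)
  obtain ⟨g, hg, hg0⟩ := hlim.2
  let v := @ValuativeRel.valuation R _ lim
  have hv : ∀ a b : R, lim.vle a b ↔ v a ≤ v b := fun a b =>
    @Valuation.Compatible.vle_iff_le R _ _ _ v lim _ a b
  obtain ⟨f, hf, hfmax⟩ := T.exists_max_image v ⟨g, hg⟩
  have hf0 : v f ≠ 0 := fun h0 => hg0 ((hv g 0).2 (by rw [map_zero, ← h0]; exact hfmax g hg))
  let D : Datum R (@ValuativeRel.ValueGroupWithZero R _ lim) :=
    { v := v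
      T := T
      f := f
      le_one := fun a => (map_one v) ▸ (hv a 1).1 (hlim.1 a)
      f_mem := hf
      f_max := hfmax
      f_ne := hf0 }
  haveI : Module.Flat R (Localization.Away D.f ⊗[R] M₀) := hflat f hf
  obtain ⟨L, b, hb, hle, -, hpow, hgood⟩ := exists_good_pair D (B := B) (M₀ := M₀)
  let p : Pairs := ⟨(L, b), hb, hpow, hgood⟩
  have h1 : ∀ᶠ F in (U : Filter (Finset Pairs)), ∀ a ∈ L, (r F).vle a b :=
    L.eventually_all.2 fun a ha => (hv a b).2 (hle a ha)
  have h2 : ∀ᶠ F in (U : Filter (Finset Pairs)), p ∈ F := by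
    refine Filter.Eventually.filter_mono (Ultrafilter.of_le atTop) ?_
    exact Filter.eventually_atTop.2 ⟨{p}, fun F hF => hF (Finset.mem_singleton_self p)⟩
  obtain ⟨F, hF, hpF⟩ := (h1.and h2).exists
  obtain ⟨a, ha, hna⟩ := hbad F p hpF
  exact hna (hF a ha)

/-- A valuation centred at a prime, not killing a given non-zero-divisor. -/
theorem exists_centred_valuation {R' : Type u} [CommRing R'] {e : R'} (he : e ∈ nonZeroDivisors R') (p : Ideal R')
    [p.IsPrime] :
    ∃ (Γ₀ : Type u) (_ : LinearOrderedCommGroupWithZero Γ₀) (v : Valuation R' Γ₀),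
      (∀ a, v a ≤ 1) ∧ (∀ a ∈ p, v a < 1) ∧ (∀ a ∉ p, v a = 1) ∧ v e ≠ 0 := by
  classical
  obtain ⟨q, -, hdis, hqp⟩ : ∃ q : Ideal R', ⊥ ≤ q ∧ Disjoint (q : Set R') (p.primeCompl ⊔ Submonoid.powers e : Submonoid R') ∧ q.IsPrime := by
    obtain ⟨q, hq, h1, h2⟩ := Ideal.exists_le_prime_disjoint ⊥ (p.primeCompl ⊔ Submonoid.powers e) (by
      rw [Set.disjoint_left]
      intro z hz hz'
      rw [SetLike.mem_coe, Submonoid.mem_sup] at hz'
      obtain ⟨a, ha, _, ⟨n, rfl⟩, rfl⟩ := hz'
      refine ha ?_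
      rw [mem_nonZeroDivisors_iff_right.1 (pow_mem he n) a hz]
      exact p.zero_mem)
    exact ⟨q, h1, h2, hq⟩
  haveI := hqp
  let K := FractionRing (R' ⧸ q)
  let φ : R' →+* K := (algebraMap (R' ⧸ q) K).comp (Ideal.Quotient.mk q)
  have hφ : ∀ a, φ a = 0 ↔ a ∈ q := fun a => by
    show algebraMap (R' ⧸ q) K _ = 0 ↔ _
    exact (map_eq_zero_iff _ (IsFractionRing.injective (R' ⧸ q) K)).trans Ideal.Quotient.eq_zero_iff_mem
  have hu : ∀ y : p.primeCompl, IsUnit (φ y) := fun y => IsUnit.mk0 _ fun h0 =>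
    Set.disjoint_left.1 hdis ((hφ _).1 h0) (Submonoid.mem_sup_left y.2)
  let ψ : Localization.AtPrime p →+* K := IsLocalization.lift (M := p.primeCompl) hu
  obtain ⟨W, g, hg, hloc⟩ := GrothLib.RG6.exists_valuation ψ
  have hgφ : ∀ a, φ a = (g (algebraMap R' (Localization.AtPrime p) a) : K) := fun a =>
    (IsLocalization.lift_eq hu a).symm.trans (congrArg (fun χ : Localization.AtPrime p →+* K =>
      χ (algebraMap R' (Localization.AtPrime p) a)) hg).symm
  refine ⟨W.ValueGroup, inferInstance, W.valuation.comap φ, fun a => ?_, fun a ha => ?_, fun a ha => ?_, ?_⟩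
  · rw [Valuation.comap_apply, hgφ]
    exact W.valuation_le_one _
  · rw [Valuation.comap_apply, hgφ]
    refine (W.valuation_lt_one_iff _).1 ?_
    rw [IsLocalRing.mem_maximalIdeal, mem_nonunits_iff]
    intro h
    exact (IsLocalization.AtPrime.isUnit_to_map_iff (Localization.AtPrime p) p a).1
      (hloc.map_nonunit _ h) ha
  · rw [Valuation.comap_apply, hgφ]
    exact (W.valuation_eq_one_iff _).1
      ((IsLocalization.map_units (Localization.AtPrime p) (⟨a, ha⟩ : p.primeCompl)).map g)
  · rw [Valuation.comap_apply, Valuation.ne_zero_iff]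
    exact fun h0 => Set.disjoint_left.1 hdis ((hφ _).1 h0) (Submonoid.mem_sup_right (Submonoid.mem_powers e))

/-- Flatness and finite presentation pass along a surjection with torsion kernel. -/
theorem transfer_cover {R'' B'' N M'' : Type u} [CommRing R''] [CommRing B''] [Algebra R'' B''] [AddCommGroup N]
    [Module B'' N] [Module R'' N] [IsScalarTower R'' B'' N] [Module.FinitePresentation B'' N] [AddCommGroup M'']
    [Module B'' M''] [Module R'' M''] [IsScalarTower R'' B'' M''] (e : B'') (q : N →ₗ[B''] M'') (hq : Surjective q)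
    (hker : ∀ y, q y = 0 → y ∈ FlatCA.powTorsion B'' e N) [Module.Flat R'' (N ⧸ FlatCA.powTorsion B'' e N)]
    (hfg : (FlatCA.powTorsion B'' e N).FG) :
    Module.Flat R'' (M'' ⧸ FlatCA.powTorsion B'' e M'') ∧
      Module.FinitePresentation B'' (M'' ⧸ FlatCA.powTorsion B'' e M'') := by
  let Tt := FlatCA.powTorsion B'' e M''
  have hkereq : LinearMap.ker (Tt.mkQ ∘ₗ q) = FlatCA.powTorsion B'' e N := by
    ext y
    rw [LinearMap.mem_ker, LinearMap.comp_apply, Submodule.mkQ_apply, Submodule.Quotient.mk_eq_zero]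
    constructor
    · intro h
      obtain ⟨i, hi⟩ := (GrothLib.Fitting.mem_powTorsion_iff _ _).1 h
      obtain ⟨j, hj⟩ := (GrothLib.Fitting.mem_powTorsion_iff _ _).1 (hker _ (by rw [map_smul]; exact hi))
      exact (GrothLib.Fitting.mem_powTorsion_iff _ _).2 ⟨j + i, by rw [pow_add, mul_smul]; exact hj⟩
    · intro h
      obtain ⟨i, hi⟩ := (GrothLib.Fitting.mem_powTorsion_iff _ _).1 h
      exact (GrothLib.Fitting.mem_powTorsion_iff _ _).2 ⟨i, by rw [← map_smul, hi, map_zero]⟩
  let E := (Submodule.quotEquivOfEq _ _ hkereq.symm).trans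
    (LinearMap.quotKerEquivOfSurjective (Tt.mkQ ∘ₗ q) (Tt.mkQ_surjective.comp hq))
  haveI : Module.FinitePresentation B'' (N ⧸ FlatCA.powTorsion B'' e N) :=
    Module.finitePresentation_of_surjective (FlatCA.powTorsion B'' e N).mkQ (Submodule.mkQ_surjective _)
      (by rw [Submodule.ker_mkQ]; exact hfg)
  exact ⟨Module.Flat.of_linearEquiv (E.restrictScalars R'').symm, Module.FinitePresentation.of_equiv E⟩

set_option maxHeartbeats 1000000 in
/-- **A centre whose blow-up flattens `M`.** -/
theorem exists_flat_centre {R B M : Type u} [CommRing R] [CommRing B] [Algebra R B] [Algebra.FinitePresentation R B]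
    [AddCommGroup M] [Module B M] [Module R M] [IsScalarTower R B M] [Module.Finite B M] (T : Finset R)
    (hfp : ∀ f ∈ T, ∃ (A N : Type u) (_ : CommRing A) (_ : Algebra B A) (_ : IsLocalization.Away (algebraMap R B f) A)
      (_ : AddCommGroup N) (_ : Module A N) (_ : Module B N) (_ : IsScalarTower B A N)
      (l : M →ₗ[B] N), IsLocalizedModule (Submonoid.powers (algebraMap R B f)) l ∧ Module.FinitePresentation A N)
    (hflat : ∀ f ∈ T, Module.Flat R (LocalizedModule (Submonoid.powers (algebraMap R B f)) M)) :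
    ∃ I : Ideal R, I.FG ∧ I ≤ Ideal.span (T : Set R) ∧ Ideal.span (T : Set R) ≤ I.radical ∧
      ∀ (R' : Type u) [CommRing R'] [Algebra R R'] (e : R'), e ∈ nonZeroDivisors R' →
        ∀ O : Ideal R', I.map (algebraMap R R') * O = Ideal.span {e} → ∀ (p' : Ideal R') [p'.IsPrime],
          ∃ s : R', s ∉ p' ∧ ∀ (R'' : Type u) [CommRing R''] [Algebra R' R''] [Algebra R R''] [IsScalarTower R R' R''],
            algebraMap R' R'' e ∈ nonZeroDivisors R'' → IsUnit (algebraMap R' R'' s) →
            ∀ (B'' M'' : Type u) [CommRing B''] [Algebra B B''] [Algebra R'' B'']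
              [Algebra R B''] [IsScalarTower R R'' B''] [IsScalarTower R B B''] [Algebra.IsPushout R R'' B B'']
              [AddCommGroup M''] [Module B'' M''] [Module B M''] [IsScalarTower B B'' M''] [Module R'' M'']
              [IsScalarTower R'' B'' M''] (l : M →ₗ[B] M''), IsBaseChange B'' l →
              Module.Flat R'' (M'' ⧸ FlatCA.powTorsion B'' (algebraMap R'' B'' (algebraMap R' R'' e)) M'') ∧
                Module.FinitePresentation B''
                  (M'' ⧸ FlatCA.powTorsion B'' (algebraMap R'' B'' (algebraMap R' R'' e)) M'') := by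
  classical
  obtain ⟨M₀, _, _, _, π, hπ, hker⟩ := GrothLib.BlowFree1.exists_cover_of_finset (T.image (algebraMap R B)) (M := M)
    (fun g hg => by
      obtain ⟨f, hf, rfl⟩ := Finset.mem_image.1 hg
      exact hfp f hf)
  letI : Module R M₀ := Module.compHom M₀ (algebraMap R B)
  haveI : IsScalarTower R B M₀ := IsScalarTower.of_algebraMap_smul fun _ _ => rfl
  have hflat₀ : ∀ f ∈ T, Module.Flat R (Localization.Away f ⊗[R] M₀) := fun f hf => by
    haveI := hflat f hf
    let L := LocalizedModule.mkLinearMap (Submonoid.powers (algebraMap R B f)) M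
    let L' : M₀ →ₗ[R] LocalizedModule (Submonoid.powers (algebraMap R B f)) M := (L ∘ₗ π).restrictScalars R
    haveI : IsLocalizedModule (Submonoid.powers f) L' := by
      refine ⟨fun y => ?_, fun z => ?_, fun {a b} hab => ?_⟩
      · obtain ⟨_, n, rfl⟩ := y
        have hu := (Module.End.isUnit_iff _).1
          (IsLocalizedModule.map_units L (⟨algebraMap R B f ^ n, n, rfl⟩ : Submonoid.powers (algebraMap R B f)))
        rw [Module.End.isUnit_iff]
        have hs : ∀ z : LocalizedModule (Submonoid.powers (algebraMap R B f)) M,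
            f ^ n • z = algebraMap R B f ^ n • z := fun z => by rw [← map_pow, algebraMap_smul]
        exact ⟨fun a c h => hu.1 ((hs a).symm.trans (h.trans (hs c))), fun c => let ⟨a, ha⟩ := hu.2 c; ⟨a, (hs a).trans ha⟩⟩
      · obtain ⟨⟨m, ⟨_, n, rfl⟩⟩, hm⟩ := IsLocalizedModule.surj (Submonoid.powers (algebraMap R B f)) L z
        obtain ⟨m, rfl⟩ := hπ m
        refine ⟨⟨m, ⟨f ^ n, n, rfl⟩⟩, ?_⟩
        rw [Submonoid.smul_def] at hm ⊢
        rw [← algebraMap_smul B (f ^ n) z, map_pow]
        exact hm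
      · have h0 : L (π (a - b)) = 0 := by rw [map_sub, map_sub, sub_eq_zero]; exact hab
        obtain ⟨⟨_, n, rfl⟩, hn⟩ := (IsLocalizedModule.eq_zero_iff (Submonoid.powers (algebraMap R B f)) L).1 h0
        rw [Submonoid.smul_def, ← map_smul] at hn
        obtain ⟨k, hk⟩ := hker _ (Finset.mem_image_of_mem _ hf) _ hn
        refine ⟨⟨f ^ (k + n), k + n, rfl⟩, ?_⟩
        rw [← sub_eq_zero, ← smul_sub, Submonoid.smul_def, ← algebraMap_smul B, map_pow, pow_add, mul_smul]
        exact hk
    haveI : IsLocalizedModule (Submonoid.powers f) (TensorProduct.mk R (Localization.Away f) M₀ 1) :=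
      (isLocalizedModule_iff_isBaseChange (Submonoid.powers f) (Localization.Away f) _).2
        (TensorProduct.isBaseChange R M₀ (Localization.Away f))
    exact Module.Flat.of_linearEquiv (IsLocalizedModule.linearEquiv (Submonoid.powers f)
      (TensorProduct.mk R (Localization.Away f) M₀ 1) L')
  obtain ⟨F, hFgood, hFcov⟩ := exists_finite_cover (B := B) (M₀ := M₀) T hflat₀
  let J : Ideal R := Ideal.span (T : Set R)
  let Lf : Finset R × R → Ideal R := fun p => Ideal.span (p.1 : Set R)
  refine ⟨J * ∏ p ∈ F, Lf p, Ideal.FG.mul ⟨T, rfl⟩ (Finset.prod_induction Lf Submodule.FG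
    (fun _ _ ha hb => Ideal.FG.mul ha hb) ⟨{1}, by simp⟩ fun p _ => ⟨p.1, rfl⟩), Ideal.mul_le_left, ?_, ?_⟩
  · intro z hz
    rw [Ideal.radical_mul]
    refine ⟨Ideal.le_radical hz, ?_⟩
    refine Finset.prod_induction Lf (fun K : Ideal R => z ∈ K.radical) (fun A A' hA hA' => ?_) ?_ fun p hp => ?_
    · rw [Ideal.radical_mul]
      exact ⟨hA, hA'⟩
    · rw [Ideal.one_eq_top, Ideal.radical_top]
      exact Submodule.mem_top
    · refine Ideal.span_le.2 (fun g hg => ?_) hz
      obtain ⟨N, hN⟩ := (hFgood p hp).2.1 g hg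
      exact ⟨N, Ideal.subset_span hN⟩
  intro R' _ _ e he O hO p' _
  have heJ : e ∈ J.map (algebraMap R R') :=
    Ideal.map_mono (Ideal.mul_le_left : J * ∏ p ∈ F, Lf p ≤ J)
      (Ideal.mul_le_left (hO.symm ▸ Ideal.mem_span_singleton_self e))
  obtain ⟨Γ₀, _, v, hv1, hvp, hvn, hve⟩ := exists_centred_valuation he p'
  let w := v.comap (algebraMap R R')
  have hpt : IsPoint T (ValuativeRel.ofValuation w) := by
    refine ⟨fun a => show w a ≤ w 1 by rw [map_one]; exact hv1 _, ?_⟩
    by_contra h
    push Not at h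
    refine hve ((Valuation.mem_supp_iff v e).1 (?_ : e ∈ v.supp))
    refine (Ideal.map_le_iff_le_comap.2 (Ideal.span_le.2 fun g hg => ?_)) heJ
    show v (algebraMap R R' g) = 0
    have hg' : w g ≤ w 0 := h g hg
    rw [map_zero, le_zero_iff] at hg'
    exact hg'
  obtain ⟨⟨L, b⟩, hpF, hcov⟩ := hFcov _ hpt
  obtain ⟨hbL, hpow, hgood⟩ := hFgood _ hpF
  obtain ⟨x, y, u, hx, -, hu, hxy, hdiv⟩ := GrothLib.BlowFree1.exists_factor p' ((Lf (L, b)).map (algebraMap R R'))
    ((J * ∏ p ∈ F.erase (L, b), Lf p).map (algebraMap R R') * O) e he (by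
      rw [← hO, ← Finset.mul_prod_erase _ _ hpF, Ideal.map_mul, Ideal.map_mul, Ideal.map_mul]
      ring)
  have key : ∀ z ∈ (Lf (L, b)).map (algebraMap R R'), v z ≤ v (algebraMap R R' b) := by
    intro z hz
    change z ∈ Ideal.map (algebraMap R R') (Ideal.span (L : Set R)) at hz
    rw [Ideal.map_span] at hz
    induction hz using Submodule.span_induction with
    | mem z hz =>
      obtain ⟨a, ha, rfl⟩ := hz
      exact hcov a ha
    | zero => rw [map_zero]; exact zero_le'
    | add z z' _ _ hz hz' => exact v.map_add_le hz hz'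
    | smul c z _ hz =>
      rw [smul_eq_mul, map_mul]
      exact (mul_le_of_le_one_left' (hv1 c)).trans hz
  have hvx : v x ≤ v (algebraMap R R' b) := key x hx
  obtain ⟨wb, -, hwb⟩ := hdiv _ (Ideal.mem_map_of_mem _ (Ideal.subset_span hbL))
  have hwv : v (algebraMap R R' b) = v x * v wb := by
    have h1 := congrArg v hwb
    rwa [map_mul, map_mul, hvn u hu, one_mul] at h1
  have hx0 : v x ≠ 0 := by
    intro h0
    have h1 := congrArg v hxy
    rw [map_mul, map_mul, hvn u hu, mul_one, h0, zero_mul] at h1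
    exact hve h1.symm
  have hwbp : wb ∉ p' := fun hmem => by
    have h1 : v x * v wb < v x := mul_lt_of_lt_one_right (zero_lt_iff.2 hx0) (hvp wb hmem)
    exact absurd hvx (not_le.2 (hwv ▸ h1))
  refine ⟨u * wb, fun hm => (‹p'.IsPrime›.mem_or_mem hm).elim hu hwbp, ?_⟩
  intro R'' _ _ _ _ he'' hunit B'' M'' _ _ _ _ _ _ _ _ _ _ _ _ _ l hl
  rw [map_mul, IsUnit.mul_iff] at hunit
  set e₂ := algebraMap R' R'' e
  set e₃ := algebraMap R'' B'' e₂
  have heJ₂ : e₂ ∈ J.map (algebraMap R R'') := by
    rw [IsScalarTower.algebraMap_eq R R' R'', ← Ideal.map_map]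
    exact Ideal.mem_map_of_mem _ heJ
  have hdvd : ∀ a ∈ L, algebraMap R R'' b ∣ algebraMap R R'' a := by
    intro a ha
    obtain ⟨wa, -, hwa⟩ := hdiv _ (Ideal.mem_map_of_mem _ (Ideal.subset_span ha))
    have h1 : algebraMap R R' a * u * wb = algebraMap R R' b * u * wa := by
      calc algebraMap R R' a * u * wb = u * algebraMap R R' a * wb := by ring
        _ = x * wa * wb := by rw [hwa]
        _ = x * wb * wa := by ring
        _ = algebraMap R R' b * u * wa := by rw [← hwb]; ring
    have h2 := congrArg (algebraMap R' R'') h1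
    simp only [map_mul, ← IsScalarTower.algebraMap_apply R R' R''] at h2
    rw [mul_assoc] at h2
    exact (hunit.1.mul hunit.2).dvd_mul_right.1 (h2.symm ▸ dvd_mul_of_dvd_left (dvd_mul_right _ _) _)
  haveI : Module.FinitePresentation B'' (B'' ⊗[B] M₀) :=
    FinitePresentation.of_isBaseChange _ (TensorProduct.isBaseChange B M₀ B'')
  obtain ⟨hfl, hfg⟩ := hgood R'' e₂ he'' heJ₂ hdvd B'' (B'' ⊗[B] M₀) (TensorProduct.mk B B'' M₀ 1)
    (TensorProduct.isBaseChange B M₀ B'')
  haveI := hfl
  let q₁ : B'' ⊗[B] M₀ →ₗ[B''] M'' := hl.equiv.toLinearMap ∘ₗ π.baseChange B''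
  refine transfer_cover (R'' := R'') e₃ q₁ (hl.equiv.surjective.comp (LinearMap.lTensor_surjective B'' hπ)) ?_ hfg
  intro y hy
  have hy' : π.baseChange B'' y = 0 := hl.equiv.map_eq_zero_iff.1 hy
  obtain ⟨z, rfl⟩ := ((lTensor_exact B'' (LinearMap.exact_subtype_ker_map π) hπ) y).1 hy'
  clear hy hy'
  induction z using TensorProduct.induction_on with
  | zero => rw [map_zero]; exact zero_mem _
  | add v w hv hw => rw [map_add]; exact add_mem hv hw
  | tmul t z =>
    let A := ((⊥ : Submodule B'' (B'' ⊗[B] M₀)).colon {(t ⊗ₜ[B] (z : M₀) : B'' ⊗[B] M₀)})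
    have hle : (J.map (algebraMap R R'')).map (algebraMap R'' B'') ≤ A.radical := by
      rw [Ideal.map_map, ← IsScalarTower.algebraMap_eq, Ideal.map_le_iff_le_comap, Ideal.span_le]
      intro f hf
      obtain ⟨k, hk⟩ := hker _ (Finset.mem_image.2 ⟨f, hf, rfl⟩) z.1 z.2
      rw [SetLike.mem_coe, Ideal.mem_comap]
      refine ⟨k, Submodule.mem_colon_singleton.2 ?_⟩
      rw [Submodule.mem_bot, IsScalarTower.algebraMap_apply R B B'', ← map_pow, algebraMap_smul,
        ← TensorProduct.tmul_smul, hk, TensorProduct.tmul_zero]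
    obtain ⟨k, hk⟩ := hle (Ideal.mem_map_of_mem _ heJ₂)
    refine (GrothLib.Fitting.mem_powTorsion_iff _ _).2 ⟨k, ?_⟩
    rw [LinearMap.lTensor_tmul, Submodule.subtype_apply]
    simpa [A, Submodule.mem_colon_singleton] using hk

end GrothLib.FlatBlow1
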