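import Groth.Agent.Lib.BlowFree1.Sheaf
import Groth.Agent.Lib.FlatBlow1.Centre
import Groth.Agent.Lib.FlatFP.InjCoker
import Groth.Agent.Lib.FlatFP.Kernel
import Groth.Agent.Lib.FlatFP.PullbackFlat
import Groth.Agent.Lib.FlatLimit.Stage
import Groth.Agent.Lib.StrictTr.Push

/-!
# The chart statement: a centre on an affine open of the base flattening a strict transform
-/

set_option autoImplicit false
set_option backward.isDefEq.respectTransparency false
universe u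

open CategoryTheory CategoryTheory.Limits AlgebraicGeometry Opposite TopologicalSpace GrothLib

namespace GrothLib.FlatBlow1

open GrothLib.BlowFree1

variable {X S : Scheme.{u}}

set_option maxHeartbeats 3200000 in
/-- **The chart statement.** -/
theorem exists_ideal_flat_chart [CompactSpace S] [QuasiSeparatedSpace S] (f : X ⟶ S)
    [LocallyOfFinitePresentation f] (U : S.Opens) (hU : IsCompact (U : Set S))
    (F : X.Modules) [F.IsQuasicoherent] (hft : CohB1.IsFT F)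
    (hfpU : CohB1.IsFP ((Scheme.Modules.pullback (f ⁻¹ᵁ U).ι).obj F))
    (hflU : ∀ x : X, f.base x ∈ U → FlatMod.IsFlatOverAt f F x) (W : S.affineOpens) (XV : X.affineOpens)
    (eV : XV.1 ≤ f ⁻¹ᵁ W.1) :
    ∃ J : S.IdealSheafData, BlowUp.IsAdmissibleFor U J ∧
      ∀ (P : S.IdealSheafData) (Q : Ideal Γ(S, W.1)), P.ideal W = J.ideal W * Q →
        ∀ {S' X' : Scheme.{u}} (b : S' ⟶ S) (p₁ : X' ⟶ X) (p₂ : X' ⟶ S'), IsPullback p₁ p₂ f b →
          BlowUp.IsEffCartierIdeal (P.comap b) →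
          ∀ (G : X'.Modules) (π : (Scheme.Modules.pullback p₁).obj F ⟶ G),
            BlowUp.IsStrictTransform p₁ (P.comap f) F G π → ∀ x' : X', p₁ x' ∈ XV.1 →
              ∃ O : X'.affineOpens, x' ∈ O.1 ∧ Module.FinitePresentation Γ(X', O.1) Γ(G, O.1) ∧
                FlatMod.IsFlatOverAt p₂ G x' := by
  classical
  let XW := XV.1
  have hXW : IsAffineOpen XW := XV.2
  letI : Algebra Γ(S, W.1) Γ(X, XW) := (f.appLE W.1 XW eV).hom.toAlgebra
  letI : Module Γ(S, W.1) Γ(F, XW) := Module.compHom _ (f.appLE W.1 XW eV).hom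
  haveI : IsScalarTower Γ(S, W.1) Γ(X, XW) Γ(F, XW) := IsScalarTower.of_algebraMap_smul fun _ _ => rfl
  haveI : Algebra.FinitePresentation Γ(S, W.1) Γ(X, XW) := RingHom.finitePresentation_algebraMap.1
    (LocallyOfFinitePresentation.finitePresentation_appLE f W.2 hXW eV)
  haveI : Module.Finite Γ(X, XW) Γ(F, XW) := (QCoh.isFiniteType_iff_moduleFinite F).1 hft XW hXW
  obtain ⟨T, hTU, hTcov⟩ := exists_finset_basicOpen W.2 U (by
    rw [Opens.coe_inf]
    exact QuasiSeparatedSpace.inter_isCompact _ _ U.2 hU W.1.2 W.2.isCompact)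
  obtain ⟨I, hIfg, hIT, hTI, hI⟩ := exists_flat_centre T (M := Γ(F, XW)) (fun a ha => by
    refine exists_fp_localization F (f ⁻¹ᵁ U) hfpU hXW (algebraMap Γ(S, W.1) Γ(X, XW) a) ?_
    show X.basicOpen ((f.appLE W.1 XW eV) a) ≤ f ⁻¹ᵁ U
    rw [Scheme.basicOpen_appLE]
    exact inf_le_right.trans (f.preimage_mono (hTU a ha)))
    (fun a ha => FlatFP.flat_away_of_primes _ fun q hq haq => by
      obtain ⟨x, hx, rfl⟩ := AssPts.exists_point hXW q hq
      have hxb : x ∈ X.basicOpen ((f.appLE W.1 XW eV) a) := (Scheme.mem_basicOpen _ _ _ hx).2 (by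
        by_contra hu
        exact haq ((IsLocalRing.mem_maximalIdeal _).2 hu))
      rw [Scheme.basicOpen_appLE] at hxb
      exact (FlatFP.isFlatOverAt_iff f F W.2 hXW eV hx rfl).1 (hflU x (hTU a ha hxb.2)))
  obtain ⟨J, hJ, hJW⟩ := exists_admissible_of_ideal U hU W I hIfg T hTcov hTI
  refine ⟨J, hJ, fun P Q hPQ {S' X'} b p₁ p₂ sq hP G π hG x' hx1 => ?_⟩
  -- an affine chart of the blow-up
  let s' := p₂ x'
  have hs' : b s' ∈ W.1 := by
    show (p₂ ≫ b) x' ∈ W.1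
    rw [← sq.w]
    exact eV hx1
  obtain ⟨V₀, hsV₀, e₀, he₀, hV₀⟩ := hP s'
  obtain ⟨t, ht, hst⟩ := V₀.2.exists_basicOpen_le (V := b ⁻¹ᵁ W.1) ⟨s', hs'⟩ hsV₀
  let V : S'.affineOpens := S'.affineBasicOpen t
  letI : Algebra Γ(S', V₀.1) Γ(S', V.1) := (S'.presheaf.map (homOfLE (S'.basicOpen_le t)).op).hom.toAlgebra
  haveI : IsLocalization.Away t Γ(S', V.1) := V₀.2.isLocalization_basicOpen t
  let e : Γ(S', V.1) := algebraMap Γ(S', V₀.1) Γ(S', V.1) e₀
  have he : e ∈ nonZeroDivisors Γ(S', V.1) :=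
    (IsLocalization.toLocalizationMap (Submonoid.powers t) Γ(S', V.1)).map_nonZeroDivisors_le ⟨e₀, he₀, rfl⟩
  have hPV : (P.comap b).ideal V = Ideal.span {e} := by
    rw [← (P.comap b).map_ideal (U := V) (V := V₀) (S'.basicOpen_le t)]
    refine (congrArg (Ideal.map _) hV₀).trans ?_
    rw [Ideal.map_span, Set.image_singleton]
    rfl
  letI : Algebra Γ(S, W.1) Γ(S', V.1) := (b.appLE W.1 V.1 ht).hom.toAlgebra
  obtain ⟨σ, hσ, hnear⟩ := hI Γ(S', V.1) e he (Q.map (algebraMap Γ(S, W.1) Γ(S', V.1))) (by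
    rw [← Ideal.map_mul, ← hJW, ← hPQ, ← hPV]
    exact (GrothLib.BlowUp.ideal_comap_eq_map P b W V ht).symm) (WeakAss.primeAt s' hst)
  -- shrink to the basic open of `σ`
  let D : S'.affineOpens := S'.affineBasicOpen σ
  have hsD : s' ∈ D.1 := (Scheme.mem_basicOpen _ _ _ hst).2 (by
    by_contra hu
    exact hσ ((IsLocalRing.mem_maximalIdeal _).2 hu))
  have hDV : D.1 ≤ V.1 := S'.basicOpen_le σ
  letI : Algebra Γ(S', V.1) Γ(S', D.1) := (S'.presheaf.map (homOfLE hDV).op).hom.toAlgebra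
  haveI : IsLocalization.Away σ Γ(S', D.1) := V.2.isLocalization_basicOpen σ
  letI : Algebra Γ(S, W.1) Γ(S', D.1) := (b.appLE W.1 D.1 (hDV.trans ht)).hom.toAlgebra
  haveI : IsScalarTower Γ(S, W.1) Γ(S', V.1) Γ(S', D.1) := IsScalarTower.of_algebraMap_eq fun a =>
    congrArg (fun φ : Γ(S, W.1) ⟶ Γ(S', D.1) => φ a) (b.appLE_map ht (homOfLE hDV).op).symm
  have he' : algebraMap Γ(S', V.1) Γ(S', D.1) e ∈ nonZeroDivisors Γ(S', D.1) :=
    (IsLocalization.toLocalizationMap (Submonoid.powers σ) Γ(S', D.1)).map_nonZeroDivisors_le ⟨e, he, rfl⟩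
  let O := p₁ ⁻¹ᵁ XW ⊓ p₂ ⁻¹ᵁ D.1
  have hO : IsAffineOpen O := FlatLimit.isAffineOpen_square sq (hDV.trans ht) eV W.2 D.2 hXW
  letI : Algebra Γ(S', D.1) Γ(X', O) := (p₂.appLE D.1 O inf_le_right).hom.toAlgebra
  letI : Algebra Γ(X, XW) Γ(X', O) := (p₁.appLE XW O inf_le_left).hom.toAlgebra
  letI : Algebra Γ(S, W.1) Γ(X', O) :=
    ((algebraMap Γ(S', D.1) Γ(X', O)).comp (algebraMap Γ(S, W.1) Γ(S', D.1))).toAlgebra
  haveI : IsScalarTower Γ(S, W.1) Γ(S', D.1) Γ(X', O) := IsScalarTower.of_algebraMap_eq' rfl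
  haveI : IsScalarTower Γ(S, W.1) Γ(X, XW) Γ(X', O) := IsScalarTower.of_algebraMap_eq' (by
    show (p₂.appLE D.1 O inf_le_right).hom.comp (b.appLE W.1 D.1 (hDV.trans ht)).hom =
      (p₁.appLE XW O inf_le_left).hom.comp (f.appLE W.1 XW eV).hom
    rw [← CommRingCat.hom_comp, ← CommRingCat.hom_comp, Scheme.Hom.appLE_comp_appLE, Scheme.Hom.appLE_comp_appLE]
    congr 2
    exact sq.w.symm)
  haveI : Algebra.IsPushout Γ(S, W.1) Γ(S', D.1) Γ(X, XW) Γ(X', O) :=
    FlatLimit.isPushout_square sq (hDV.trans ht) eV W.2 D.2 hXW rfl rfl rfl rfl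
  let M' := (Scheme.Modules.pullback p₁).obj F
  letI : Module Γ(X, XW) Γ(M', O) := Module.compHom _ (p₁.appLE XW O inf_le_left).hom
  haveI : IsScalarTower Γ(X, XW) Γ(X', O) Γ(M', O) := IsScalarTower.of_algebraMap_smul fun _ _ => rfl
  obtain ⟨l, hl⟩ := RelFPSch6.exists_isBaseChange_pullback p₁ F hXW hO inf_le_left rfl
  letI : Module Γ(S', D.1) Γ(M', O) := Module.compHom _ (p₂.appLE D.1 O inf_le_right).hom
  haveI : IsScalarTower Γ(S', D.1) Γ(X', O) Γ(M', O) := IsScalarTower.of_algebraMap_smul fun _ _ => rfl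
  obtain ⟨hflat, hfp⟩ := hnear Γ(S', D.1) he' (IsLocalization.Away.algebraMap_isUnit σ) Γ(X', O) Γ(M', O) l hl
  have hx' : x' ∈ O := ⟨hx1, hsD⟩
  -- the strict transform on `O`
  have hcom : (P.comap f).comap p₁ = (P.comap b).comap p₂ := by
    rw [← Scheme.IdealSheafData.comap_comp, ← Scheme.IdealSheafData.comap_comp, sq.w]
  have hE : StrictTr.PrincipalCover ((P.comap f).comap p₁) :=
    hcom ▸ StrictTr.principalCover_comap (StrictTr.principalCover_of_isEffCartier hP) p₂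
  haveI := StrictTr.isQuasicoherent' hE hG
  let e'' := algebraMap Γ(S', D.1) Γ(X', O) (algebraMap Γ(S', V.1) Γ(S', D.1) e)
  have hEO : ((P.comap f).comap p₁).ideal ⟨O, hO⟩ = Ideal.span {e''} := by
    rw [hcom, GrothLib.BlowUp.ideal_comap_eq_map (P.comap b) p₂ D ⟨O, hO⟩ inf_le_right,
      ← (P.comap b).map_ideal (U := D) (V := V) hDV]
    refine (congrArg (Ideal.map _) (congrArg (Ideal.map _) hPV)).trans ?_
    rw [Ideal.map_span, Set.image_singleton, Ideal.map_span, Set.image_singleton]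
    rfl
  let φ := (FlatCA.powTorsion Γ(X', O) e'' Γ(M', O)).liftQ (QCoh.appLinear π O) (fun m hm => by
    obtain ⟨k, hk⟩ := (Fitting.mem_powTorsion_iff _ _).1 hm
    exact LinearMap.mem_ker.2 ((StrictTr.app_eq_zero_iff hG (V := ⟨O, hO⟩) hEO m).2 ⟨k, hk⟩))
  have hφ : Function.Injective φ := by
    rw [injective_iff_map_eq_zero]
    intro z hz
    obtain ⟨m, rfl⟩ := Submodule.mkQ_surjective _ z
    obtain ⟨k, hk⟩ := (StrictTr.app_eq_zero_iff hG (V := ⟨O, hO⟩) hEO m).1 hz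
    rw [Submodule.mkQ_apply, Submodule.Quotient.mk_eq_zero]
    exact (Fitting.mem_powTorsion_iff _ _).2 ⟨k, hk⟩
  have hsurj : Function.Surjective φ := fun m => by
    obtain ⟨m, rfl⟩ := StrictTr.app_surjective' hE hG ⟨O, hO⟩ m
    exact ⟨Submodule.Quotient.mk m, rfl⟩
  let E := LinearEquiv.ofBijective φ ⟨hφ, hsurj⟩
  refine ⟨⟨O, hO⟩, hx', ?_, ?_⟩
  · haveI := hfp
    exact Module.FinitePresentation.of_equiv E
  · letI : Module Γ(S', D.1) Γ(G, O) := Module.compHom _ (p₂.appLE D.1 O inf_le_right).hom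
    haveI : IsScalarTower Γ(S', D.1) Γ(X', O) Γ(G, O) := IsScalarTower.of_algebraMap_smul fun _ _ => rfl
    haveI := hflat
    haveI : Module.Flat Γ(S', D.1) Γ(G, O) := Module.Flat.of_linearEquiv (E.restrictScalars Γ(S', D.1)).symm
    exact (FlatFP.isFlatOverAt_iff p₂ G D.2 hO inf_le_right hx' rfl).2 (NagataFP.flat_localized _)

end GrothLib.FlatBlow1
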