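import Groth.Agent.Lib.FlatBlow1.Family
import Groth.Agent.Lib.FlatBlow1.Strict
import Groth.Agent.Lib.FlatBlow1.Adm
import Groth.Agent.Lib.FibreDimAt6.ZeroDim
import Mathlib.AlgebraicGeometry.Morphisms.FlatRank

/-!
# Admissible blow-ups of an étale scheme are dominated by admissible blow-ups of the base
-/

set_option autoImplicit false
set_option backward.isDefEq.respectTransparency false
universe u

open CategoryTheory CategoryTheory.Limits AlgebraicGeometry TopologicalSpace

namespace GrothLib.FlatBlow1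

/-- Flatness cancels an étale morphism. -/
theorem flat_of_comp_etale {X Y Z : Scheme.{u}} (c : X ⟶ Y) (r : Y ⟶ Z) [Etale r] [Flat (c ≫ r)] : Flat c := by
  haveI : MorphismProperty.HasOfPostcompProperty @Flat @Etale := by
    rw [MorphismProperty.hasOfPostcompProperty_iff_le_diagonal]
    intro A B g hg
    haveI := hg
    exact inferInstanceAs <| Flat (pullback.diagonal g)
  exact MorphismProperty.of_postcomp (W := @Flat) (W' := @Etale) c r ‹_› ‹_›

theorem lfp_of_comp_etale {X Y Z : Scheme.{u}} (c : X ⟶ Y) (r : Y ⟶ Z) [Etale r] [LocallyOfFinitePresentation (c ≫ r)] :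
    LocallyOfFinitePresentation c := by
  let gr : X ⟶ pullback (c ≫ r) r := pullback.lift (𝟙 X) c (by simp)
  have hgr : c = gr ≫ pullback.snd (c ≫ r) r := by simp [gr]
  haveI : IsOpenImmersion (pullback.diagonal r) := inferInstance
  haveI : IsOpenImmersion gr := MorphismProperty.of_isPullback (pullback_lift_diagonal_isPullback c r) inferInstance
  haveI : LocallyOfFinitePresentation (pullback.snd (c ≫ r) r) := MorphismProperty.pullback_snd _ _ inferInstance
  rw [hgr]
  infer_instance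

/-- Isomorphisms over an open restrict to smaller opens. -/
theorem isIso_restrict_of_le {X Y : Scheme.{u}} (f : X ⟶ Y) (W O : Y.Opens) [IsIso (f ∣_ W)] (h : O ≤ W) :
    IsIso (f ∣_ O) :=
  GrothLib.Nagata6.isIso_restrict_of_pullback (IsPullback.of_horiz_isIso (show CommSq (𝟙 X) f f (𝟙 Y) from ⟨by simp⟩))
    W O h

set_option maxHeartbeats 1600000 in
/-- The lift of an étale base change of a flattening blow-up to a given admissible blow-up. -/
theorem exists_lift {S S' Si Sst : Scheme.{u}} (e : Si ⟶ S) [Etale e] (U : S.Opens) {Is : Si.IdealSheafData}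
    {b : Sst ⟶ Si} (hb : BlowUp.IsBlowUp b Is) (hIs : BlowUp.IsAdmissibleFor (e ⁻¹ᵁ U) Is)
    {P : S.IdealSheafData} {b' : S' ⟶ S} (hb' : BlowUp.IsBlowUp b' P) (hP : BlowUp.IsFiniteTypeIdeal P)
    (hPs : (P.support : Set S) = (U : Set S)ᶜ)
    (hflat : ∀ (X' : Scheme.{u}) (p₁ : X' ⟶ Sst) (p₂ : X' ⟶ S'), IsPullback p₁ p₂ (b ≫ e) b' →
      ∀ (𝒥 : X'.IdealSheafData),
        (∀ (V : X'.affineOpens) (a : Γ(X', V.1)), a ∈ 𝒥.ideal V ↔
          BlowUp.KilledByPowerNear ((P.comap (b ≫ e)).comap p₁) (Coh.structureModule X') V a) →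
        Flat (𝒥.subschemeι ≫ p₂) ∧ LocallyOfFinitePresentation (𝒥.subschemeι ≫ p₂)) :
    ∃ σ : pullback e b' ⟶ Sst, σ ≫ b = pullback.fst e b' := by
  let T := pullback e b'
  let q : T ⟶ Si := pullback.fst e b'
  let r : T ⟶ S' := pullback.snd e b'
  haveI : Etale r := MorphismProperty.pullback_snd _ _ ‹Etale e›
  let X' := pullback (b ≫ e) b'
  let p₁ : X' ⟶ Sst := pullback.fst (b ≫ e) b'
  let p₂ : X' ⟶ S' := pullback.snd (b ≫ e) b'
  let c₀ : X' ⟶ T := pullback.lift (p₁ ≫ b) p₂ (by rw [Category.assoc]; exact pullback.condition)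
  have sq : IsPullback p₁ c₀ b q := by
    refine IsPullback.of_bot ?_ (pullback.lift_fst _ _ _).symm (IsPullback.of_hasPullback e b')
    rw [pullback.lift_snd]
    exact IsPullback.of_hasPullback (b ≫ e) b'
  obtain ⟨𝒥, h𝒥⟩ := exists_strictIdeal (E := (P.comap (b ≫ e)).comap p₁)
    (GrothLib.Nagata6.fg_comap' _ (GrothLib.Nagata6.fg_comap' _ hP (b ≫ e)) p₁)
  obtain ⟨hfl, hfp⟩ := hflat X' p₁ p₂ (IsPullback.of_hasPullback _ _) 𝒥 h𝒥
  let c := 𝒥.subschemeι ≫ c₀
  have hcr : c ≫ r = 𝒥.subschemeι ≫ p₂ := by rw [Category.assoc, pullback.lift_snd]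
  haveI : Flat (c ≫ r) := hcr ▸ hfl
  haveI : LocallyOfFinitePresentation (c ≫ r) := hcr ▸ hfp
  haveI : Flat c := flat_of_comp_etale c r
  haveI : LocallyOfFinitePresentation c := lfp_of_comp_etale c r
  haveI : IsProper b := GrothLib.Nagata6.isProper_of_isBlowUp hIs.1 hb
  haveI : IsProper c₀ := MorphismProperty.of_isPullback sq inferInstance
  haveI : IsProper c := MorphismProperty.comp_mem _ _ _ inferInstance inferInstance
  -- the open over `U`
  let O : T.Opens := q ⁻¹ᵁ (e ⁻¹ᵁ U)
  have hOd : Dense (O : Set T) := by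
    have h := dense_off (GrothLib.BlowUp.isEffCartierIdeal_comap_of_flat r hb'.1)
    have he : off ((P.comap b').comap r) = O := by
      ext t
      show t ∈ ((((P.comap b').comap r).support : Set T))ᶜ ↔ e (q t) ∈ U
      rw [← Scheme.IdealSheafData.comap_comp, ← pullback.condition, Scheme.IdealSheafData.support_comap,
        Closeds.coe_preimage, Set.mem_compl_iff, Set.mem_preimage, hPs]
      simp [q, Scheme.Hom.comp_apply]
    rwa [he] at h
  haveI : IsIso (b ∣_ (e ⁻¹ᵁ U)) := by
    haveI : IsIso (b ∣_ off Is) := GrothLib.BlowUp.isIso_off_center hb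
    exact isIso_restrict_of_le b (off Is) _ fun x hx hx' => Set.disjoint_left.1 hIs.2 hx' hx
  haveI : IsIso (c₀ ∣_ O) := GrothLib.Nagata6.isIso_restrict_of_pullback sq (e ⁻¹ᵁ U) O le_rfl
  haveI : IsIso (𝒥.subschemeι ∣_ (c₀ ⁻¹ᵁ O)) := by
    refine isIso_subschemeι_restrict h𝒥 _ fun x hx hx' => ?_
    rw [SetLike.mem_coe, Scheme.IdealSheafData.support_comap, ← SetLike.mem_coe, Closeds.coe_preimage,
      Set.mem_preimage, Scheme.IdealSheafData.support_comap, Closeds.coe_preimage, Set.mem_preimage, hPs] at hx'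
    apply hx'
    show (p₁ ≫ b ≫ e) x ∈ U
    rw [← Category.assoc, sq.w, Category.assoc]
    exact hx
  haveI hci : IsIso (c ∣_ O) := by rw [morphismRestrict_comp]; infer_instance
  haveI : IsFinite c := GrothLib.FibreDimAt6.finite_of_flat_proper c O hOd
  haveI : IsIso c := by
    rw [Scheme.Hom.isIso_iff_finrank_eq]
    have hcl : IsClosed {y : T | c.finrank y = 1} := (c.isLocallyConstant_finrank.isClopen_fiber 1).1
    have hsub : (O : Set T) ⊆ {y : T | c.finrank y = 1} := fun y hy => by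
      have h1 := Scheme.Hom.finrank_of_isPullback _ _ c O.ι (isPullback_morphismRestrict c O).flip ⟨y, hy⟩
      rw [Scheme.Hom.finrank_eq_one_of_isIso] at h1
      exact h1.symm
    exact funext fun y => (hcl.closure_subset_iff.2 hsub) (hOd y)
  refine ⟨inv c ≫ 𝒥.subschemeι ≫ p₁, ?_⟩
  rw [Category.assoc, Category.assoc, sq.w, ← Category.assoc 𝒥.subschemeι, IsIso.inv_hom_id_assoc]

end GrothLib.FlatBlow1
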