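import Groth.Prelude.Def_Flat
import Groth.Agent.Lib.Fitting.Transform
import Groth.Agent.Lib.NagataFP.Global
import Groth.Agent.Lib.Fitting.Strict
import Mathlib.RingTheory.Flat.Localization
import Mathlib.RingTheory.IsTensorProduct

/-!
# Flatness of strict transforms is étale local: the algebra
-/

set_option autoImplicit false
set_option backward.isDefEq.respectTransparency false
universe u

open TensorProduct Function

namespace GrothLib.FlatBlow1

/-- Flatness at a prime descends along a flat algebra. -/
theorem flat_localized_of_flat_tensor {R B C G : Type u} [CommRing R] [CommRing B] [CommRing C] [Algebra R B]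
    [Algebra B C] [Module.Flat B C] [AddCommGroup G] [Module B G] [Module R G] [IsScalarTower R B G]
    [Algebra R C] [IsScalarTower R B C] (hG : Module.Flat R (C ⊗[B] G)) (q' : Ideal C) [q'.IsPrime]
    (q : Ideal B) [q.IsPrime] (hq : q = q'.comap (algebraMap B C)) :
    Module.Flat R (LocalizedModule q.primeCompl G) := by
  classical
  rw [Module.Flat.iff_lTensor_injective]
  intro I hI
  let u : G ⊗[R] I →ₗ[B] G ⊗[R] R := AlgebraTensorModule.map LinearMap.id I.subtype
  -- the kernel vanishes at `q`
  have hker : ∀ x, u x = 0 → ∃ s ∈ q.primeCompl, s • x = 0 := fun x hx => by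
    let a : B →ₗ[B] G ⊗[R] I := LinearMap.toSpanSingleton B _ x
    let l := LinearMap.lTensor C u
    have hinj : Injective l := by
      haveI := hG
      have h1 : Injective (LinearMap.lTensor (C ⊗[B] G) I.subtype) := Module.Flat.lTensor_preserves_injective_linearMap _ I.injective_subtype
      let e₁ : (C ⊗[B] G) ⊗[R] I ≃ₗ[C] C ⊗[B] (G ⊗[R] I) := AlgebraTensorModule.assoc R B C C G I
      let e₂ : (C ⊗[B] G) ⊗[R] R ≃ₗ[C] C ⊗[B] (G ⊗[R] R) := AlgebraTensorModule.assoc R B C C G R
      have hc : ∀ z, l (e₁ z) = e₂ (LinearMap.lTensor (C ⊗[B] G) I.subtype z) := fun z => by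
        induction z using TensorProduct.induction_on with
        | zero => simp
        | add a b ha hb => simp only [map_add, ha, hb]
        | tmul w i =>
          induction w using TensorProduct.induction_on with
          | zero => simp
          | add a b ha hb => simp only [add_tmul, map_add, ha, hb]
          | tmul c g => simp [e₁, e₂, l, u]
      intro z z' h
      obtain ⟨z, rfl⟩ := e₁.surjective z
      obtain ⟨z', rfl⟩ := e₁.surjective z'
      rw [hc, hc] at h
      rw [h1 (e₂.injective h)]
    let K := LinearMap.ker a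
    let b := K.liftQ a le_rfl
    have hb : Injective b := by
      rw [← LinearMap.ker_eq_bot, Submodule.ker_liftQ_eq_bot _ _ _ le_rfl]
    have hlb : Injective (LinearMap.lTensor C b) := Module.Flat.lTensor_preserves_injective_linearMap b hb
    have h0 : (1 : C) ⊗ₜ[B] (Submodule.Quotient.mk (1 : B) : B ⧸ K) = 0 := by
      apply hlb
      apply hinj
      have hb1 : b (Submodule.Quotient.mk (1 : B)) = x := by
        rw [show b (Submodule.Quotient.mk (1 : B)) = a 1 from Submodule.liftQ_apply _ _ _]
        exact one_smul B x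
      simp only [l, LinearMap.lTensor_tmul, map_zero, hb1, hx, TensorProduct.tmul_zero]
    have htop : Ideal.map (algebraMap B C) K = ⊤ := by
      let e := (TensorProduct.quotTensorEquivQuotSMul C K).symm
      have h1 := congrArg (TensorProduct.comm B C (B ⧸ K)) h0
      rw [map_zero, TensorProduct.comm_tmul] at h1
      have h2 := congrArg (TensorProduct.quotTensorEquivQuotSMul C K) h1
      rw [map_zero] at h2
      rw [show (Submodule.Quotient.mk (1 : B) : B ⧸ K) = Ideal.Quotient.mk K 1 from rfl,
        TensorProduct.quotTensorEquivQuotSMul_mk_tmul, one_smul, Submodule.Quotient.mk_eq_zero,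
        Ideal.smul_top_eq_map] at h2
      exact (Ideal.eq_top_iff_one _).2 h2
    have hle : ¬ K ≤ q := fun h => (Ideal.IsPrime.ne_top ‹q'.IsPrime›) (top_le_iff.1 (htop.ge.trans
      (Ideal.map_le_iff_le_comap.2 (hq ▸ h))))
    obtain ⟨s, hs, hsq⟩ := Set.not_subset.1 hle
    exact ⟨s, hsq, hs⟩
  let f := LocalizedModule.mkLinearMap q.primeCompl G
  let F := AlgebraTensorModule.map (A := B) f (LinearMap.id : I →ₗ[R] I)
  have hfrac : ∀ z : LocalizedModule q.primeCompl G ⊗[R] I, ∃ s ∈ q.primeCompl, ∃ y, s • z = F y := fun z => by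
    induction z using TensorProduct.induction_on with
    | zero => exact ⟨1, Submonoid.one_mem _, 0, by simp⟩
    | add a b ha hb =>
      obtain ⟨s, hs, y, hy⟩ := ha
      obtain ⟨t, ht, y', hy'⟩ := hb
      refine ⟨s * t, Submonoid.mul_mem _ hs ht, t • y + s • y', ?_⟩
      rw [map_add, map_smul, map_smul, ← hy, ← hy', smul_add, smul_smul, smul_smul, mul_comm s t]
    | tmul g i =>
      obtain ⟨⟨m, s⟩, hm⟩ := IsLocalizedModule.surj q.primeCompl f g
      refine ⟨s.1, s.2, m ⊗ₜ i, ?_⟩
      rw [TensorProduct.smul_tmul', show s.1 • g = f m from hm]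
      simp [F]
  intro z z' hzz
  rw [← sub_eq_zero] at hzz ⊢
  rw [← map_sub] at hzz
  generalize z - z' = w at hzz ⊢
  obtain ⟨s, hs, y, hy⟩ := hfrac w
  have hy0 : ∃ t ∈ q.primeCompl, t • u y = 0 := by
    have h2 : LinearMap.lTensor _ I.subtype (F y) = 0 := by
      have h3 : AlgebraTensorModule.map (A := B) (LinearMap.id : LocalizedModule q.primeCompl G →ₗ[B] _) I.subtype (F y) = 0 := by
        rw [← hy, map_smul]
        exact (congrArg (s • ·) hzz).trans (smul_zero s)
      exact h3
    have h4 : f ((AlgebraTensorModule.rid R B G) (u y)) =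
        (AlgebraTensorModule.rid R B (LocalizedModule q.primeCompl G)) (LinearMap.lTensor _ I.subtype (F y)) := by
      clear hy h2
      induction y using TensorProduct.induction_on with
      | zero => simp
      | add a b ha hb => simp only [map_add, ha, hb]
      | tmul g i => simp [u, F, f, AlgebraTensorModule.rid_tmul, LinearMap.map_smul_of_tower]
    rw [h2, map_zero] at h4
    obtain ⟨t, ht⟩ := (IsLocalizedModule.eq_zero_iff q.primeCompl f).1 h4
    refine ⟨t.1, t.2, (AlgebraTensorModule.rid R B G).injective ?_⟩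
    rw [map_smul, map_zero]
    exact ht
  obtain ⟨t, ht, hty⟩ := hy0
  obtain ⟨t', ht', hty'⟩ := hker (t • y) (by rw [map_smul, hty])
  have hunit : IsUnit (algebraMap B (Module.End B (LocalizedModule q.primeCompl G ⊗[R] I)) (t' * t * s)) := by
    have h := IsLocalizedModule.map_units f ⟨t' * t * s, Submonoid.mul_mem _ (Submonoid.mul_mem _ ht' ht) hs⟩
    obtain ⟨v, hv⟩ := h
    refine ⟨⟨_, AlgebraTensorModule.map (↑v⁻¹ : Module.End B _) LinearMap.id, ?_, ?_⟩, rfl⟩ <;>
      apply AlgebraTensorModule.ext <;> intro g i <;>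
      simp [Module.algebraMap_end_apply, TensorProduct.smul_tmul']
    · rw [← LinearMap.map_smul]
      have := congrArg (fun φ : Module.End B _ => φ g) v.inv_mul
      simp [hv, Module.algebraMap_end_apply] at this
      simpa [smul_smul, mul_assoc, mul_comm, mul_left_comm] using congrArg (· ⊗ₜ[R] i) this
    · have := congrArg (fun φ : Module.End B _ => φ g) v.mul_inv
      simp [hv, Module.algebraMap_end_apply] at this
      simpa [smul_smul, mul_assoc, mul_comm, mul_left_comm] using congrArg (· ⊗ₜ[R] i) this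
  apply ((Module.End.isUnit_iff _).1 hunit).injective
  simp only [Module.algebraMap_end_apply, smul_zero]
  rw [mul_smul, mul_smul, hy, ← map_smul, ← map_smul, hty', map_zero]

section Transport

variable {R' D Rs B Bs C M Ms : Type u} [CommRing R'] [CommRing D] [CommRing Rs] [CommRing B] [CommRing Bs] [CommRing C]
  [Algebra R' D] [Algebra Rs D] [Algebra R' B] [Algebra R' C] [Algebra Rs Bs] [Algebra Rs C] [Algebra B C] [Algebra Bs C]
  [Algebra D C] [IsScalarTower R' B C] [IsScalarTower R' D C] [IsScalarTower Rs Bs C] [IsScalarTower Rs D C]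
  [AddCommGroup M] [Module B M] [Module R' M] [IsScalarTower R' B M]
  [AddCommGroup Ms] [Module Bs Ms] [Module Rs Ms] [IsScalarTower Rs Bs Ms]

/-- **Flatness of the strict transform passes through a comparison square.** -/
theorem flat_tensor_strict [Algebra.IsPushout Rs D Bs C] [Module.Flat R' D] [Module.Flat B C]
    (e : R') (he : e ∈ nonZeroDivisors R') (ε : Rs) (hrad : ∃ m c, algebraMap R' D e ^ m = algebraMap Rs D ε * c)
    (ν : (C ⊗[B] M) ≃ₗ[C] C ⊗[Bs] Ms)
    (hflat : Module.Flat Rs (Ms ⧸ FlatCA.powTorsion Bs (algebraMap Rs Bs ε) Ms)) :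
    Module.Flat R' (C ⊗[B] (M ⧸ FlatCA.powTorsion B (algebraMap R' B e) M)) := by
  obtain ⟨m, c, hmc⟩ := hrad
  let T := FlatCA.powTorsion Bs (algebraMap Rs Bs ε) Ms
  let Q := Ms ⧸ T
  haveI := hflat
  let eQ : C ⊗[Bs] Q ≃ₗ[D] D ⊗[Rs] Q := Algebra.IsPushout.cancelBaseChange Rs D Bs C Q
  haveI : Module.Flat D (C ⊗[Bs] Q) := Module.Flat.of_linearEquiv eQ
  haveI : Module.Flat R' (C ⊗[Bs] Q) := Module.Flat.trans R' D _
  let eC := algebraMap R' C e
  let π : C ⊗[B] M →ₗ[C] C ⊗[Bs] Q := (T.mkQ.baseChange C) ∘ₗ ν.toLinearMap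
  have hπsurj : Surjective π := by
    intro z
    obtain ⟨w, hw⟩ := LinearMap.lTensor_surjective C T.mkQ_surjective z
    exact ⟨ν.symm w, by simp only [π, LinearMap.comp_apply, LinearEquiv.coe_coe, LinearEquiv.apply_symm_apply]; exact hw⟩
  have hnzd : ∀ z : C ⊗[Bs] Q, eC • z = 0 → z = 0 := fun z hz => by
    have hr : Injective (LinearMap.lsmul R' R' e) := (injective_iff_map_eq_zero _).2 fun x hx =>
      mem_nonZeroDivisors_iff_right.1 he x (by simpa [mul_comm] using hx)
    have h := Module.Flat.rTensor_preserves_injective_linearMap (M := C ⊗[Bs] Q) (LinearMap.lsmul R' R' e) hr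
    rw [show eC • z = e • z from algebraMap_smul C e z] at hz
    refine (TensorProduct.lid R' (C ⊗[Bs] Q)).symm.injective (h ?_)
    simp only [TensorProduct.lid_symm_apply, LinearMap.rTensor_tmul, LinearMap.lsmul_apply, map_zero]
    rw [TensorProduct.smul_tmul, hz, TensorProduct.tmul_zero]
  have hk1 : ∀ w : C ⊗[B] M, π w = 0 → ∃ n : ℕ, eC ^ n • w = 0 := fun w hw => by
    have hex := lTensor_exact C (LinearMap.exact_subtype_mkQ T) T.mkQ_surjective
    obtain ⟨y, hy⟩ := (hex (ν w)).1 hw
    suffices h : ∃ n : ℕ, eC ^ n • (T.subtype.baseChange C y) = 0 by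
      obtain ⟨n, hn⟩ := h
      refine ⟨n, ν.injective ?_⟩
      rw [map_smul, map_zero, ← hy]
      exact hn
    clear hy
    induction y using TensorProduct.induction_on with
    | zero => exact ⟨0, by simp⟩
    | add a b ha hb =>
      obtain ⟨n₁, h₁⟩ := ha
      obtain ⟨n₂, h₂⟩ := hb
      refine ⟨n₁ + n₂, ?_⟩
      rw [map_add, smul_add, pow_add, mul_smul (_ ^ n₁), mul_smul (_ ^ n₁), smul_comm, h₁, h₂]
      simp
    | tmul a t =>
      obtain ⟨k, hk⟩ := (GrothLib.Fitting.mem_powTorsion_iff _ _).1 t.2
      refine ⟨m * k, ?_⟩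
      have hεe : eC ^ m = algebraMap D C c * algebraMap Bs C (algebraMap Rs Bs ε) := by
        rw [← map_pow, IsScalarTower.algebraMap_apply R' D C, map_pow, hmc, map_mul, mul_comm,
          ← IsScalarTower.algebraMap_apply, ← IsScalarTower.algebraMap_apply]
      rw [pow_mul, hεe, mul_pow, mul_smul, ← map_pow (algebraMap Bs C), algebraMap_smul, LinearMap.baseChange_tmul,
        ← TensorProduct.tmul_smul, show (algebraMap Rs Bs ε ^ k) • T.subtype t = 0 from hk, TensorProduct.tmul_zero,
        smul_zero]
  let TB := FlatCA.powTorsion B (algebraMap R' B e) M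
  let ρ : C ⊗[B] M →ₗ[C] C ⊗[B] (M ⧸ TB) := TB.mkQ.baseChange C
  have hρ : Surjective ρ := LinearMap.lTensor_surjective C TB.mkQ_surjective
  have hexρ := lTensor_exact C (LinearMap.exact_subtype_mkQ TB) TB.mkQ_surjective
  have hkereq : LinearMap.ker ρ = LinearMap.ker π := by
    ext w
    rw [LinearMap.mem_ker, LinearMap.mem_ker]
    constructor
    · intro hw
      obtain ⟨y, rfl⟩ := (hexρ w).1 hw
      clear hw
      induction y using TensorProduct.induction_on with
      | zero => simp
      | add a b ha hb => rw [map_add, map_add, ha, hb, add_zero]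
      | tmul a t =>
        obtain ⟨k, hk⟩ := (GrothLib.Fitting.mem_powTorsion_iff _ _).1 t.2
        have h0 : eC ^ k • π (a ⊗ₜ[B] (t : M)) = 0 := by
          rw [← map_smul, show eC = algebraMap B C (algebraMap R' B e) from IsScalarTower.algebraMap_apply R' B C e,
            ← map_pow (algebraMap B C), algebraMap_smul, ← TensorProduct.tmul_smul, hk, TensorProduct.tmul_zero, map_zero]
        show π (a ⊗ₜ[B] (t : M)) = 0
        clear hk
        induction k with
        | zero => simpa using h0
        | succ k ih => exact ih (hnzd _ (by rw [← mul_smul, ← pow_succ', h0]))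
    · intro hw
      obtain ⟨n, hn⟩ := hk1 w hw
      let μ : M →ₗ[B] M := LinearMap.lsmul B M (algebraMap R' B e ^ n)
      have hw' : LinearMap.lTensor C μ w = 0 := by
        have : LinearMap.lTensor C μ = ((algebraMap B C (algebraMap R' B e ^ n)) • LinearMap.id : C ⊗[B] M →ₗ[C] C ⊗[B] M).restrictScalars B := by
          refine TensorProduct.ext' fun a x => ?_
          simp only [LinearMap.lTensor_tmul, μ, LinearMap.lsmul_apply, LinearMap.coe_restrictScalars,
            LinearMap.smul_apply, LinearMap.id_coe, id_eq]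
          rw [TensorProduct.tmul_smul, algebraMap_smul]
        rw [this, LinearMap.coe_restrictScalars, LinearMap.smul_apply, map_pow,
          ← IsScalarTower.algebraMap_apply R' B C]
        exact hn
      obtain ⟨y, hy⟩ := ((Module.Flat.lTensor_exact C μ.exact_subtype_ker_map) w).1 hw'
      refine (hexρ w).2 ⟨LinearMap.lTensor C (Submodule.inclusion (show LinearMap.ker μ ≤ TB from fun x hx =>
        (GrothLib.Fitting.mem_powTorsion_iff _ _).2 ⟨n, hx⟩)) y, ?_⟩
      rw [← LinearMap.lTensor_comp_apply, ← hy]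
      rfl
  let E := (LinearMap.quotKerEquivOfSurjective ρ hρ).symm ≪≫ₗ Submodule.quotEquivOfEq _ _ hkereq ≪≫ₗ
    LinearMap.quotKerEquivOfSurjective π hπsurj
  exact Module.Flat.of_linearEquiv (E.restrictScalars R')

end Transport

end GrothLib.FlatBlow1
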