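import Groth.Agent.Lib.ExtLocFree8.Strict
import Groth.Agent.Lib.FlatBlow1.Dominate
import Groth.Agent.Lib.FlatBlow1.EtaleGlueAlg
import Groth.Agent.Lib.StrictTr.Push
import Groth.Agent.Lib.FlatFP.Kernel
import Groth.Agent.Lib.FlatFP.PullbackFlat
import Groth.Agent.Lib.FlatLimit.Geometric
import Groth.Agent.Lib.RelFPSch6.Perm
import Groth.Agent.Lib.BCCoh.Flat
import Groth.Agent.Lib.RelAssCrit8.Basic

/-!
# Flattening glues along étale coverings
-/

set_option autoImplicit false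
set_option linter.style.haveILetI false
set_option backward.isDefEq.respectTransparency false
universe u

open CategoryTheory CategoryTheory.Limits AlgebraicGeometry TopologicalSpace Opposite TensorProduct GrothLib

namespace GrothLib.FlatBlow1

/-- The strict transform along the complement of a divisor. -/
theorem exists_isStrictTransform {X Y : Scheme.{u}} (b : Y ⟶ X) (I : X.IdealSheafData)
    (hI : BlowUp.IsFiniteTypeIdeal (I.comap b)) (F : X.Modules) [((Scheme.Modules.pullback b).obj F).IsQuasicoherent] :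
    ∃ (G : Y.Modules) (π : (Scheme.Modules.pullback b).obj F ⟶ G), BlowUp.IsStrictTransform b I F G π := by
  let M := (Scheme.Modules.pullback b).obj F
  let E := I.comap b
  let W : Y.Opens := E.support.compl
  let η : M ⟶ (Scheme.Modules.pushforward W.ι).obj (M.restrict W.ι) := (Scheme.Modules.restrictAdjunction W.ι).unit.app M
  refine ⟨Limits.image η, factorThruImage η, inferInstance, fun V m => ?_⟩
  have h1 : (factorThruImage η).app V.1 m = 0 ↔ η.app V.1 m = 0 := by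
    have hfac : (image.ι η).app V.1 ((factorThruImage η).app V.1 m) = η.app V.1 m := by
      rw [← ConcreteCategory.comp_apply, ← Scheme.Modules.Hom.comp_app, image.fac]
    rw [← hfac]
    refine ⟨fun h => by rw [h, map_zero], fun h => ?_⟩
    exact ModDesc.app_injective_of_mono (image.ι η) V.1 (h.trans (map_zero _).symm)
  rw [h1]
  have happ : η.app V.1 m = M.presheaf.map (homOfLE (W.ι.image_preimage_le V.1)).op m := rfl
  rw [happ]
  have he : W.ι ''ᵁ (W.ι ⁻¹ᵁ V.1) = V.1 ⊓ W := Depth.image_preimage_eq_inf W V.1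
  constructor
  · intro h
    have hfg : (E.ideal V).FG := hI V
    suffices hrad : ∀ a ∈ E.ideal V, ∃ n : ℕ, a ^ n • m = 0 by
      let A : Ideal Γ(Y, V.1) :=
        { carrier := {r | r • m = 0}
          add_mem' := fun {r r'} (h : r • m = 0) (h' : r' • m = 0) => show (r + r') • m = 0 by
            rw [add_smul, h, h', add_zero]
          zero_mem' := zero_smul _ m
          smul_mem' := fun r r' (h : r' • m = 0) => show (r * r') • m = 0 by
            rw [mul_smul, h, smul_zero] }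
      obtain ⟨n, hn⟩ := Ideal.exists_pow_le_of_le_radical_of_fg (I := E.ideal V) (J := A)
        (fun a ha => hrad a ha) hfg
      refine ⟨n, fun a ha => ?_⟩
      rw [Scheme.IdealSheafData.ideal_pow, Pi.pow_apply] at ha
      exact hn ha
    intro a ha
    refine (QCoh.smulLift_and_smulSep_of_isAffineOpen V.2 M a).2 m ?_
    have hle : Y.basicOpen a ≤ W.ι ''ᵁ (W.ι ⁻¹ᵁ V.1) := by
      rw [he]
      exact le_inf (Y.basicOpen_le a) fun x hx hxs =>
        Set.disjoint_left.mp (GrothLib.BlowUp.disjoint_basicOpen_support ha) hx hxs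
    rw [← GrothLib.ExtLocFree8.map_map_sec M (W.ι.image_preimage_le V.1) hle m, h, map_zero]
  · rintro ⟨n, hn⟩
    refine QCoh.section_eq_zero_of_germ M _ fun x hx => ?_
    rw [TopCat.Presheaf.germ_res_apply]
    have hxV : x ∈ V.1 ⊓ W := he ▸ hx
    have hxs : x ∉ (E.support : Set Y) := hxV.2
    rw [SetLike.mem_coe, Scheme.IdealSheafData.mem_support_iff_of_mem hxV.1, Scheme.mem_zeroLocus_iff] at hxs
    push Not at hxs
    obtain ⟨a, ha, hxa⟩ := hxs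
    have hu : IsUnit (Y.presheaf.germ V.1 x hxV.1 a) := (Y.mem_basicOpen a x hxV.1).1 hxa
    refine (hu.pow n).smul_eq_zero.1 ?_
    rw [← map_pow]
    refine (PresheafOfModules.germ_smul (R := Y.presheaf) (DCoh.toP.obj M) x V.1 hxV.1 (a ^ n) m).symm.trans ?_
    refine (congrArg _ (hn (a ^ n) ?_)).trans (map_zero _)
    rw [Scheme.IdealSheafData.ideal_pow, Pi.pow_apply]; exact Ideal.pow_mem_pow ha n

/-- Sections of a strict transform over a principally generated chart. -/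
theorem exists_linearEquiv_strict {X X' : Scheme.{u}} {b : X' ⟶ X} {I : X.IdealSheafData} {F : X.Modules} [F.IsQuasicoherent]
    {G : X'.Modules} {π : (Scheme.Modules.pullback b).obj F ⟶ G} (hE : StrictTr.PrincipalCover (I.comap b))
    (hG : BlowUp.IsStrictTransform b I F G π) {V : X'.affineOpens} {a : Γ(X', V.1)}
    (ha : (I.comap b).ideal V = Ideal.span {a}) :
    Nonempty ((Γ((Scheme.Modules.pullback b).obj F, V.1) ⧸
      FlatCA.powTorsion Γ(X', V.1) a Γ((Scheme.Modules.pullback b).obj F, V.1)) ≃ₗ[Γ(X', V.1)] Γ(G, V.1)) := by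
  let φ := (FlatCA.powTorsion Γ(X', V.1) a Γ((Scheme.Modules.pullback b).obj F, V.1)).liftQ (QCoh.appLinear π V.1)
    (fun m hm => by
      obtain ⟨k, hk⟩ := (Fitting.mem_powTorsion_iff _ _).1 hm
      exact LinearMap.mem_ker.2 ((StrictTr.app_eq_zero_iff hG ha m).2 ⟨k, hk⟩))
  have hφ : Function.Injective φ := by
    rw [injective_iff_map_eq_zero]
    intro z hz
    obtain ⟨m, rfl⟩ := Submodule.mkQ_surjective _ z
    obtain ⟨k, hk⟩ := (StrictTr.app_eq_zero_iff hG ha m).1 hz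
    rw [Submodule.mkQ_apply, Submodule.Quotient.mk_eq_zero]
    exact (Fitting.mem_powTorsion_iff _ _).2 ⟨k, hk⟩
  have hsurj : Function.Surjective φ := fun m => by
    obtain ⟨m, rfl⟩ := StrictTr.app_surjective' hE hG V m
    exact ⟨Submodule.Quotient.mk m, rfl⟩
  exact ⟨LinearEquiv.ofBijective φ ⟨hφ, hsurj⟩⟩

set_option maxHeartbeats 6400000 in
set_option synthInstance.maxHeartbeats 400000 in
/-- The étale local criterion, at one point. -/
theorem isFlatOverAt_of_etale {X S S' X' Si Xi Sst : Scheme.{u}} (f : X ⟶ S) (F : X.Modules) [F.IsQuasicoherent]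
    (e : Si ⟶ S) [Etale e] (j : Xi ⟶ X) [Etale j] (fi : Xi ⟶ Si) (hcomm : j ≫ f = fi ≫ e)
    (U : S.Opens) {Is : Si.IdealSheafData} {b : Sst ⟶ Si} (hb : BlowUp.IsBlowUp b Is)
    (hIs : BlowUp.IsAdmissibleFor (e ⁻¹ᵁ U) Is)
    {P : S.IdealSheafData} {b' : S' ⟶ S} (hP' : BlowUp.IsEffCartierIdeal (P.comap b'))
    (hPs : (P.support : Set S) = (U : Set S)ᶜ)
    (σ : pullback e b' ⟶ Sst) (hσ : σ ≫ b = pullback.fst e b')
    (hflat : ∀ (X'' : Scheme.{u}) (q₁ : X'' ⟶ Xi) (q₂ : X'' ⟶ Sst), IsPullback q₁ q₂ fi b →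
      ∀ (G : X''.Modules) (π : (Scheme.Modules.pullback q₁).obj ((Scheme.Modules.pullback j).obj F) ⟶ G),
        BlowUp.IsStrictTransform q₁ (Is.comap fi) ((Scheme.Modules.pullback j).obj F) G π → FlatMod.IsFlatOver q₂ G)
    {p₁ : X' ⟶ X} {p₂ : X' ⟶ S'} (sq : IsPullback p₁ p₂ f b') (G : X'.Modules)
    (π : (Scheme.Modules.pullback p₁).obj F ⟶ G) (hG : BlowUp.IsStrictTransform p₁ (P.comap f) F G π)
    (x' : X') (y : Xi) (hy : j y = p₁ x') : FlatMod.IsFlatOverAt p₂ G x' := by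
  classical
  -- the spaces
  let T := pullback e b'
  let q : T ⟶ Si := pullback.fst e b'
  let r : T ⟶ S' := pullback.snd e b'
  haveI : Etale r := MorphismProperty.pullback_snd _ _ ‹Etale e›
  let Y := pullback j p₁
  let a : Y ⟶ Xi := pullback.fst j p₁
  let c : Y ⟶ X' := pullback.snd j p₁
  haveI : Etale c := MorphismProperty.pullback_snd _ _ ‹Etale j›
  have hac : a ≫ j = c ≫ p₁ := pullback.condition
  have hY0 : IsPullback a (c ≫ p₂) (fi ≫ e) b' := by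
    rw [← hcomm]
    exact (IsPullback.of_hasPullback j p₁).paste_vert sq
  let ψ : Y ⟶ T := pullback.lift (a ≫ fi) (c ≫ p₂) (by rw [Category.assoc, Category.assoc]; exact (hY0.w.trans (Category.assoc _ _ _)))
  have hψq : ψ ≫ q = a ≫ fi := pullback.lift_fst _ _ _
  have hψr : ψ ≫ r = c ≫ p₂ := pullback.lift_snd _ _ _
  have hY : IsPullback a ψ fi q := by
    refine IsPullback.of_bot ?_ hψq.symm (IsPullback.of_hasPullback e b')
    rw [show ψ ≫ pullback.snd e b' = c ≫ p₂ from hψr]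
    exact hY0
  let X₀ := pullback fi b
  let g₁ : X₀ ⟶ Xi := pullback.fst fi b
  let g₂ : X₀ ⟶ Sst := pullback.snd fi b
  let m : Y ⟶ X₀ := pullback.lift a (ψ ≫ σ) (by rw [Category.assoc, hσ]; exact hY.w)
  have hm1 : m ≫ g₁ = a := pullback.lift_fst _ _ _
  have hm2 : m ≫ g₂ = ψ ≫ σ := pullback.lift_snd _ _ _
  have hsqm : IsPullback m ψ g₂ σ := by
    refine IsPullback.of_right ?_ hm2 (IsPullback.of_hasPullback fi b)
    rw [hσ, show m ≫ pullback.fst fi b = a from hm1]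
    exact hY
  obtain ⟨y₀, hy₁, hy₂⟩ := Scheme.Pullback.exists_preimage_pullback (f := j) (g := p₁) y x' hy
  have hy₁' : a y₀ = y := hy₁
  have hy₂' : c y₀ = x' := hy₂
  -- the strict transform on the étale chart
  let Fj := (Scheme.Modules.pullback j).obj F
  haveI : Fj.IsQuasicoherent := FittSheaf.isQuasicoherent_pullback j F
  haveI := FittSheaf.isQuasicoherent_pullback g₁ Fj
  have hIsfg : BlowUp.IsFiniteTypeIdeal ((Is.comap fi).comap g₁) :=
    Nagata6.fg_comap' _ (Nagata6.fg_comap' _ hIs.1 fi) g₁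
  obtain ⟨G₀, π₀, hG₀⟩ := exists_isStrictTransform g₁ (Is.comap fi) hIsfg Fj
  have hE₀ : StrictTr.PrincipalCover ((Is.comap fi).comap g₁) := by
    rw [← Scheme.IdealSheafData.comap_comp, show g₁ ≫ fi = g₂ ≫ b from pullback.condition, Scheme.IdealSheafData.comap_comp]
    exact StrictTr.principalCover_comap (StrictTr.principalCover_of_isEffCartier hb.1) g₂
  haveI := StrictTr.isQuasicoherent' hE₀ hG₀
  have hflat₀ := hflat X₀ g₁ g₂ (IsPullback.of_hasPullback fi b) G₀ π₀ hG₀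
  -- affine charts
  obtain ⟨W, hW, hxW, -⟩ := exists_isAffineOpen_mem_and_subset (show f (p₁ x') ∈ (⊤ : S.Opens) from trivial)
  obtain ⟨XW, hXW, hxXW, eV⟩ := exists_isAffineOpen_mem_and_subset (show p₁ x' ∈ f ⁻¹ᵁ W from hxW)
  obtain ⟨V, hxV, hVW, ε', hε', hPV⟩ := GrothLib.BlowUp.exists_cartierOn_le hP' (W := b' ⁻¹ᵁ W) (x := p₂ x') (by
    show (p₂ ≫ b') x' ∈ W
    rw [← sq.w]
    exact hxW)
  let O := p₁ ⁻¹ᵁ XW ⊓ p₂ ⁻¹ᵁ V.1
  have hO : IsAffineOpen O := FlatLimit.isAffineOpen_square sq hVW eV hW V.2 hXW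
  have hxO : x' ∈ O := ⟨hxXW, hxV⟩
  obtain ⟨Ds, hxDs, -, ε, hε, hDs⟩ := GrothLib.BlowUp.exists_cartierOn_le hb.1 (W := ⊤) (x := σ (ψ y₀)) trivial
  obtain ⟨D, hD, hxD, hDle⟩ := exists_isAffineOpen_mem_and_subset
    (show ψ y₀ ∈ r ⁻¹ᵁ V.1 ⊓ σ ⁻¹ᵁ Ds.1 from ⟨by
      show (ψ ≫ r) y₀ ∈ V.1
      rw [hψr, Scheme.Hom.comp_apply, hy₂']
      exact hxV, hxDs⟩)
  have eDV : D ≤ r ⁻¹ᵁ V.1 := fun z hz => (hDle hz).1
  have eDs : D ≤ σ ⁻¹ᵁ Ds.1 := fun z hz => (hDle hz).2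
  obtain ⟨XiW, hXiW, hxXi, eXi⟩ := exists_isAffineOpen_mem_and_subset
    (show a y₀ ∈ j ⁻¹ᵁ XW from by show j (a y₀) ∈ XW; rw [hy₁', hy]; exact hxXW)
  obtain ⟨Os, hOs, hxOs, hOsle⟩ := exists_isAffineOpen_mem_and_subset
    (show m y₀ ∈ g₁ ⁻¹ᵁ XiW ⊓ g₂ ⁻¹ᵁ Ds.1 from ⟨by
      show (m ≫ g₁) y₀ ∈ XiW; rw [hm1]; exact hxXi, by
      show (m ≫ g₂) y₀ ∈ Ds.1; rw [hm2]; exact hxDs⟩)
  have eO1 : Os ≤ g₁ ⁻¹ᵁ XiW := fun z hz => (hOsle hz).1
  have eO2 : Os ≤ g₂ ⁻¹ᵁ Ds.1 := fun z hz => (hOsle hz).2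
  let Oc := m ⁻¹ᵁ Os ⊓ ψ ⁻¹ᵁ D
  have hOc : IsAffineOpen Oc := FlatLimit.isAffineOpen_square hsqm eDs eO2 Ds.2 hD hOs
  have hxOc : y₀ ∈ Oc := ⟨hxOs, hxD⟩
  have ec : Oc ≤ c ⁻¹ᵁ O := by
    intro z hz
    refine ⟨?_, ?_⟩
    · show (c ≫ p₁) z ∈ XW
      rw [← hac, ← hm1, Category.assoc]
      exact eXi (eO1 hz.1)
    · show (c ≫ p₂) z ∈ V.1
      rw [← hψr]
      exact eDV hz.2
  -- algebras
  letI : Algebra Γ(S', V.1) Γ(X', O) := (p₂.appLE V.1 O inf_le_right).hom.toAlgebra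
  letI : Algebra Γ(S', V.1) Γ(T, D) := (r.appLE V.1 D eDV).hom.toAlgebra
  letI : Algebra Γ(Sst, Ds.1) Γ(T, D) := (σ.appLE Ds.1 D eDs).hom.toAlgebra
  letI : Algebra Γ(Sst, Ds.1) Γ(X₀, Os) := (g₂.appLE Ds.1 Os eO2).hom.toAlgebra
  letI : Algebra Γ(X', O) Γ(Y, Oc) := (c.appLE O Oc ec).hom.toAlgebra
  letI : Algebra Γ(X₀, Os) Γ(Y, Oc) := (m.appLE Os Oc inf_le_left).hom.toAlgebra
  letI : Algebra Γ(T, D) Γ(Y, Oc) := (ψ.appLE D Oc inf_le_right).hom.toAlgebra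
  letI : Algebra Γ(S', V.1) Γ(Y, Oc) := ((algebraMap Γ(T, D) Γ(Y, Oc)).comp (algebraMap Γ(S', V.1) Γ(T, D))).toAlgebra
  letI : Algebra Γ(Sst, Ds.1) Γ(Y, Oc) := ((algebraMap Γ(T, D) Γ(Y, Oc)).comp (algebraMap Γ(Sst, Ds.1) Γ(T, D))).toAlgebra
  haveI : IsScalarTower Γ(S', V.1) Γ(T, D) Γ(Y, Oc) := IsScalarTower.of_algebraMap_eq' rfl
  haveI : IsScalarTower Γ(Sst, Ds.1) Γ(T, D) Γ(Y, Oc) := IsScalarTower.of_algebraMap_eq' rfl
  haveI : IsScalarTower Γ(S', V.1) Γ(X', O) Γ(Y, Oc) := IsScalarTower.of_algebraMap_eq' (by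
    show (ψ.appLE D Oc inf_le_right).hom.comp (r.appLE V.1 D eDV).hom =
      (c.appLE O Oc ec).hom.comp (p₂.appLE V.1 O inf_le_right).hom
    rw [← CommRingCat.hom_comp, ← CommRingCat.hom_comp, Scheme.Hom.appLE_comp_appLE, Scheme.Hom.appLE_comp_appLE]
    congr 2)
  haveI : IsScalarTower Γ(Sst, Ds.1) Γ(X₀, Os) Γ(Y, Oc) := IsScalarTower.of_algebraMap_eq' (by
    show (ψ.appLE D Oc inf_le_right).hom.comp (σ.appLE Ds.1 D eDs).hom =
      (m.appLE Os Oc inf_le_left).hom.comp (g₂.appLE Ds.1 Os eO2).hom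
    rw [← CommRingCat.hom_comp, ← CommRingCat.hom_comp, Scheme.Hom.appLE_comp_appLE, Scheme.Hom.appLE_comp_appLE]
    congr 2
    exact hm2.symm)
  haveI : Algebra.IsPushout Γ(Sst, Ds.1) Γ(T, D) Γ(X₀, Os) Γ(Y, Oc) :=
    FlatLimit.isPushout_square hsqm eDs eO2 Ds.2 hD hOs rfl rfl rfl rfl
  haveI : Module.Flat Γ(S', V.1) Γ(T, D) := RingHom.flat_algebraMap_iff.1 (Flat.flat_appLE r V.2 hD eDV)
  haveI : Module.Flat Γ(X', O) Γ(Y, Oc) := RingHom.flat_algebraMap_iff.1 (Flat.flat_appLE c hO hOc ec)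
  letI : Algebra Γ(X, XW) Γ(X', O) := (p₁.appLE XW O inf_le_left).hom.toAlgebra
  letI : Algebra Γ(X, XW) Γ(Xi, XiW) := (j.appLE XW XiW eXi).hom.toAlgebra
  letI : Algebra Γ(Xi, XiW) Γ(X₀, Os) := (g₁.appLE XiW Os eO1).hom.toAlgebra
  letI : Algebra Γ(X, XW) Γ(X₀, Os) := ((algebraMap Γ(Xi, XiW) Γ(X₀, Os)).comp (algebraMap Γ(X, XW) Γ(Xi, XiW))).toAlgebra
  haveI : IsScalarTower Γ(X, XW) Γ(Xi, XiW) Γ(X₀, Os) := IsScalarTower.of_algebraMap_eq' rfl
  letI : Algebra Γ(X, XW) Γ(Y, Oc) := ((algebraMap Γ(X', O) Γ(Y, Oc)).comp (algebraMap Γ(X, XW) Γ(X', O))).toAlgebra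
  haveI : IsScalarTower Γ(X, XW) Γ(X', O) Γ(Y, Oc) := IsScalarTower.of_algebraMap_eq' rfl
  haveI : IsScalarTower Γ(X, XW) Γ(X₀, Os) Γ(Y, Oc) := IsScalarTower.of_algebraMap_eq' (by
    show (c.appLE O Oc ec).hom.comp (p₁.appLE XW O inf_le_left).hom =
      (m.appLE Os Oc inf_le_left).hom.comp ((g₁.appLE XiW Os eO1).hom.comp (j.appLE XW XiW eXi).hom)
    rw [← CommRingCat.hom_comp, ← CommRingCat.hom_comp, ← CommRingCat.hom_comp, Scheme.Hom.appLE_comp_appLE,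
      Scheme.Hom.appLE_comp_appLE, Scheme.Hom.appLE_comp_appLE]
    congr 2
    rw [← hac, ← hm1, Category.assoc])
  -- base changes
  let M' := (Scheme.Modules.pullback p₁).obj F
  letI : Module Γ(X, XW) Γ(M', O) := Module.compHom _ (p₁.appLE XW O inf_le_left).hom
  haveI : IsScalarTower Γ(X, XW) Γ(X', O) Γ(M', O) := IsScalarTower.of_algebraMap_smul fun _ _ => rfl
  obtain ⟨l', hl'⟩ := RelFPSch6.exists_isBaseChange_pullback p₁ F hXW hO inf_le_left rfl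
  letI : Module Γ(X, XW) Γ(Fj, XiW) := Module.compHom _ (j.appLE XW XiW eXi).hom
  haveI : IsScalarTower Γ(X, XW) Γ(Xi, XiW) Γ(Fj, XiW) := IsScalarTower.of_algebraMap_smul fun _ _ => rfl
  obtain ⟨lj, hlj⟩ := RelFPSch6.exists_isBaseChange_pullback j F hXW hXiW eXi rfl
  let M₀ := (Scheme.Modules.pullback g₁).obj Fj
  letI : Module Γ(Xi, XiW) Γ(M₀, Os) := Module.compHom _ (g₁.appLE XiW Os eO1).hom
  haveI : IsScalarTower Γ(Xi, XiW) Γ(X₀, Os) Γ(M₀, Os) := IsScalarTower.of_algebraMap_smul fun _ _ => rfl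
  obtain ⟨l₀, hl₀⟩ := RelFPSch6.exists_isBaseChange_pullback g₁ Fj hXiW hOs eO1 rfl
  letI : Module Γ(X, XW) Γ(M₀, Os) := Module.compHom _ (algebraMap Γ(X, XW) Γ(Xi, XiW))
  haveI : IsScalarTower Γ(X, XW) Γ(Xi, XiW) Γ(M₀, Os) := IsScalarTower.of_algebraMap_smul fun _ _ => rfl
  haveI : IsScalarTower Γ(X, XW) Γ(X₀, Os) Γ(M₀, Os) := IsScalarTower.of_algebraMap_smul fun _ _ => rfl
  have hlc := IsBaseChange.comp hlj hl₀
  let ν : Γ(Y, Oc) ⊗[Γ(X', O)] Γ(M', O) ≃ₗ[Γ(Y, Oc)] Γ(Y, Oc) ⊗[Γ(X₀, Os)] Γ(M₀, Os) :=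
    (AlgebraTensorModule.congr (LinearEquiv.refl Γ(Y, Oc) Γ(Y, Oc)) hl'.equiv.symm ≪≫ₗ
      AlgebraTensorModule.cancelBaseChange Γ(X, XW) Γ(X', O) Γ(Y, Oc) Γ(Y, Oc) Γ(F, XW)) ≪≫ₗ
    (AlgebraTensorModule.congr (LinearEquiv.refl Γ(Y, Oc) Γ(Y, Oc)) hlc.equiv.symm ≪≫ₗ
      AlgebraTensorModule.cancelBaseChange Γ(X, XW) Γ(X₀, Os) Γ(Y, Oc) Γ(Y, Oc) Γ(F, XW)).symm
  -- the ideals
  let εO := algebraMap Γ(S', V.1) Γ(X', O) ε'
  have hcom : (P.comap f).comap p₁ = (P.comap b').comap p₂ := by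
    rw [← Scheme.IdealSheafData.comap_comp, ← Scheme.IdealSheafData.comap_comp, sq.w]
  have hE : StrictTr.PrincipalCover ((P.comap f).comap p₁) :=
    hcom ▸ StrictTr.principalCover_comap (StrictTr.principalCover_of_isEffCartier hP') p₂
  have hEO : ((P.comap f).comap p₁).ideal ⟨O, hO⟩ = Ideal.span {εO} := by
    rw [hcom, GrothLib.BlowUp.ideal_comap_eq_map (P.comap b') p₂ V ⟨O, hO⟩ inf_le_right]
    refine (congrArg (Ideal.map _) hPV).trans ?_
    rw [Ideal.map_span, Set.image_singleton]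
    rfl
  have hEOs : ((Is.comap fi).comap g₁).ideal ⟨Os, hOs⟩ = Ideal.span {algebraMap Γ(Sst, Ds.1) Γ(X₀, Os) ε} := by
    rw [← Scheme.IdealSheafData.comap_comp, show g₁ ≫ fi = g₂ ≫ b from pullback.condition,
      Scheme.IdealSheafData.comap_comp, GrothLib.BlowUp.ideal_comap_eq_map (Is.comap b) g₂ Ds ⟨Os, hOs⟩ eO2]
    refine (congrArg (Ideal.map _) hDs).trans ?_
    rw [Ideal.map_span, Set.image_singleton]
    rfl
  have hrad : algebraMap Γ(S', V.1) Γ(T, D) ε' ∈ (Ideal.span {algebraMap Γ(Sst, Ds.1) Γ(T, D) ε}).radical := by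
    rw [Ideal.radical_eq_sInf, Ideal.mem_sInf]
    rintro Q ⟨hQ, hQp⟩
    obtain ⟨z, hz, rfl⟩ := AssPts.exists_point hD Q hQp
    by_contra hc
    rw [WeakAss.notMem_primeAt_iff] at hc
    have hεz : z ∉ T.basicOpen (algebraMap Γ(Sst, Ds.1) Γ(T, D) ε) := fun h =>
      WeakAss.notMem_primeAt_iff.2 h (hQ (Ideal.mem_span_singleton_self _))
    have h1 : r z ∈ S'.basicOpen ε' := by
      have h2 : z ∈ T.basicOpen (r.appLE V.1 D eDV ε') := hc
      rw [Scheme.basicOpen_appLE] at h2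
      exact h2.2
    have h2 : σ z ∉ Sst.basicOpen ε := fun h => hεz (by
      show z ∈ T.basicOpen (σ.appLE Ds.1 D eDs ε)
      rw [Scheme.basicOpen_appLE]
      exact ⟨hz, h⟩)
    have h3 : σ z ∈ (Is.comap b).support := by
      rw [Scheme.IdealSheafData.mem_support_iff_of_mem (eDs hz), hDs, Scheme.zeroLocus_span, Scheme.mem_zeroLocus_iff]
      rintro g (rfl : g = ε)
      exact h2
    have h4 : r z ∉ (P.comap b').support := fun h =>
      Set.disjoint_left.1 (GrothLib.BlowUp.disjoint_basicOpen_support (hPV.ge (Ideal.mem_span_singleton_self ε'))) h1 h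
    apply h4
    rw [← SetLike.mem_coe, Scheme.IdealSheafData.support_comap, Closeds.coe_preimage, Set.mem_preimage, hPs]
    intro hU
    rw [← SetLike.mem_coe, Scheme.IdealSheafData.support_comap, Closeds.coe_preimage, Set.mem_preimage,
      ← Scheme.Hom.comp_apply, hσ] at h3
    refine Set.disjoint_left.1 hIs.2 h3 ?_
    show (q ≫ e) z ∈ U
    rw [show q ≫ e = r ≫ b' from pullback.condition]
    exact hU
  obtain ⟨k, hk⟩ := hrad
  obtain ⟨c', hc'⟩ := Ideal.mem_span_singleton.1 hk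
  -- flatness upstairs
  letI : Module Γ(Sst, Ds.1) Γ(G₀, Os) := Module.compHom _ (g₂.appLE Ds.1 Os eO2).hom
  haveI : IsScalarTower Γ(Sst, Ds.1) Γ(X₀, Os) Γ(G₀, Os) := IsScalarTower.of_algebraMap_smul fun _ _ => rfl
  haveI hfl₀ : Module.Flat Γ(Sst, Ds.1) Γ(G₀, Os) := BCCoh.flat_sections g₂ G₀ hflat₀ hOs Ds.2 eO2
  letI : Module Γ(Sst, Ds.1) Γ(M₀, Os) := Module.compHom _ (g₂.appLE Ds.1 Os eO2).hom
  haveI : IsScalarTower Γ(Sst, Ds.1) Γ(X₀, Os) Γ(M₀, Os) := IsScalarTower.of_algebraMap_smul fun _ _ => rfl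
  obtain ⟨E₀⟩ := exists_linearEquiv_strict hE₀ hG₀ (V := ⟨Os, hOs⟩) hEOs
  have hflq := Module.Flat.of_linearEquiv (E₀.restrictScalars Γ(Sst, Ds.1))
  letI : Module Γ(S', V.1) Γ(M', O) := Module.compHom _ (p₂.appLE V.1 O inf_le_right).hom
  haveI : IsScalarTower Γ(S', V.1) Γ(X', O) Γ(M', O) := IsScalarTower.of_algebraMap_smul fun _ _ => rfl
  have hten := flat_tensor_strict ε' hε' ε ⟨k, c', hc'⟩ ν hflq
  haveI := StrictTr.isQuasicoherent' hE hG
  letI : Module Γ(S', V.1) Γ(G, O) := Module.compHom _ (p₂.appLE V.1 O inf_le_right).hom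
  haveI : IsScalarTower Γ(S', V.1) Γ(X', O) Γ(G, O) := IsScalarTower.of_algebraMap_smul fun _ _ => rfl
  obtain ⟨E⟩ := exists_linearEquiv_strict hE hG (V := ⟨O, hO⟩) hEO
  haveI := hten
  have hten' : Module.Flat Γ(S', V.1) (Γ(Y, Oc) ⊗[Γ(X', O)] Γ(G, O)) := Module.Flat.of_linearEquiv
    ((AlgebraTensorModule.congr (LinearEquiv.refl Γ(Y, Oc) Γ(Y, Oc)) E).restrictScalars Γ(S', V.1)).symm
  refine (FlatFP.isFlatOverAt_iff p₂ G V.2 hO inf_le_right hxO rfl).2 ?_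
  have hq : WeakAss.primeAt x' hxO = (WeakAss.primeAt y₀ hxOc).comap (c.appLE O Oc ec).hom := by
    subst hy₂'
    exact (RelAssCrit8.comap_primeAt c ec y₀ hxOc).symm
  exact flat_localized_of_flat_tensor (C := Γ(Y, Oc)) hten' (WeakAss.primeAt y₀ hxOc) (WeakAss.primeAt x' hxO) hq

end GrothLib.FlatBlow1
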