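import Groth.Agent.Lib.FlatBlow1.Main
import Groth.Agent.Lib.FgSupport6.Exists

/-!
# Flattening a finite family of schemes by one admissible blow-up
-/

set_option autoImplicit false
set_option backward.isDefEq.respectTransparency false
universe u

open CategoryTheory CategoryTheory.Limits AlgebraicGeometry

namespace GrothLib.FlatBlow1

set_option maxHeartbeats 1600000 in
/-- One admissible blow-up flattens finitely many schemes at once. -/
theorem exists_flattening_family {S : Scheme.{u}} [CompactSpace S] [QuasiSeparatedSpace S] {n : ℕ}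
    (Xs : Fin n → Scheme.{u}) (f : ∀ i, Xs i ⟶ S) [∀ i, LocallyOfFiniteType (f i)] [∀ i, QuasiCompact (f i)]
    (U : S.Opens) (hU : IsCompact (U : Set S))
    [∀ i, Flat (f i ∣_ U)] [∀ i, LocallyOfFinitePresentation (f i ∣_ U)] :
    ∃ (P : S.IdealSheafData) (S' : Scheme.{u}) (b : S' ⟶ S), BlowUp.IsBlowUp b P ∧ BlowUp.IsAdmissibleFor U P ∧
      IsProper b ∧ (P.support : Set S) = (U : Set S)ᶜ ∧
      ∀ (i : Fin n) (X' : Scheme.{u}) (p₁ : X' ⟶ Xs i) (p₂ : X' ⟶ S'), IsPullback p₁ p₂ (f i) b →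
      ∀ (𝒥 : X'.IdealSheafData),
        (∀ (V : X'.affineOpens) (a : Γ(X', V.1)), a ∈ 𝒥.ideal V ↔
          BlowUp.KilledByPowerNear ((P.comap (f i)).comap p₁) (Coh.structureModule X') V a) →
        Flat (𝒥.subschemeι ≫ p₂) ∧ LocallyOfFinitePresentation (𝒥.subschemeι ≫ p₂) := by
  classical
  haveI : ∀ i, CompactSpace (Xs i) := fun i => QuasiCompact.compactSpace_of_compactSpace (f i)
  obtain ⟨Z, hZfg, hZ⟩ := GrothLib.FgSupport6.exists_fg_support_eq U hU
  have hloc : ∀ (i : Fin n) (x : Xs i), ∃ (W : S.affineOpens) (V : (Xs i).affineOpens), x ∈ V.1 ∧ V.1 ≤ f i ⁻¹ᵁ W.1 :=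
    fun i x => by
      obtain ⟨W, hW, hxW, -⟩ := exists_isAffineOpen_mem_and_subset (show (f i).base x ∈ (⊤ : S.Opens) from trivial)
      obtain ⟨V, hV, hxV, hVW⟩ := exists_isAffineOpen_mem_and_subset (show x ∈ f i ⁻¹ᵁ W from hxW)
      exact ⟨⟨W, hW⟩, ⟨V, hV⟩, hxV, hVW⟩
  choose W V hxV hVW using hloc
  choose t ht using fun i => isCompact_univ.elim_finite_subcover (fun x : Xs i => ((V i x).1 : Set (Xs i)))
    (fun x => (V i x).1.2) fun x _ => Set.mem_iUnion.2 ⟨x, hxV i x⟩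
  choose J hJ hJchart using fun k : (Σ i, ↥(t i)) =>
    GrothLib.FlatBlow1.exists_ideal_alg_chart (f k.1) U hU (W k.1 k.2.1) (V k.1 k.2.1) (hVW k.1 k.2.1)
  let P : S.IdealSheafData := Z * ∏ k, J k
  have hJs : BlowUp.IsAdmissibleFor U (∏ k, J k) := by
    refine Finset.prod_induction J (BlowUp.IsAdmissibleFor U) (fun A B hA hB => ⟨fun V => ?_, ?_⟩) ?_ fun k _ => hJ k
    · rw [Scheme.IdealSheafData.ideal_mul, Pi.mul_apply]
      exact (hA.1 V).mul (hB.1 V)
    · rw [Scheme.IdealSheafData.support_mul, TopologicalSpace.Closeds.coe_sup]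
      exact Set.disjoint_union_left.2 ⟨hA.2, hB.2⟩
    · refine ⟨fun V => ⟨{1}, by simp⟩, ?_⟩
      simp
  have hPsupp : (P.support : Set S) = (U : Set S)ᶜ := by
    rw [Scheme.IdealSheafData.support_mul, TopologicalSpace.Closeds.coe_sup, hZ, Set.union_eq_left]
    exact hJs.2.subset_compl_right
  have hP : BlowUp.IsAdmissibleFor U P := ⟨fun V => by
    rw [Scheme.IdealSheafData.ideal_mul, Pi.mul_apply]
    exact Submodule.FG.mul (hZfg V) (hJs.1 V), by rw [hPsupp]; exact disjoint_compl_left⟩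
  obtain ⟨S', b, hb⟩ := GrothLib.BlowUp.exists_isBlowUp S P
  refine ⟨P, S', b, hb, hP, GrothLib.Nagata6.isProper_of_isBlowUp hP.1 hb, hPsupp, fun i X' p₁ p₂ sq 𝒥 h𝒥 => ?_⟩
  have key : ∀ z : 𝒥.subscheme, ∃ (D : S'.affineOpens) (O : 𝒥.subscheme.affineOpens) (_ : z ∈ O.1)
      (e : O.1 ≤ (𝒥.subschemeι ≫ p₂) ⁻¹ᵁ D.1), ((𝒥.subschemeι ≫ p₂).appLE D.1 O.1 e).hom.Flat ∧
        ((𝒥.subschemeι ≫ p₂).appLE D.1 O.1 e).hom.FinitePresentation := fun z => by
    let x' := 𝒥.subschemeι z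
    obtain ⟨x, hxt, hx⟩ := Set.mem_iUnion₂.1 (ht i (Set.mem_univ (p₁ x')))
    let k : (Σ i, ↥(t i)) := ⟨i, x, hxt⟩
    have hsplit : P.ideal (W i x) = (J k).ideal (W i x) * (Z * ∏ l ∈ Finset.univ.erase k, J l).ideal (W i x) := by
      rw [← Pi.mul_apply, ← Scheme.IdealSheafData.ideal_mul, mul_left_comm,
        Finset.mul_prod_erase _ _ (Finset.mem_univ k)]
    obtain ⟨D, O, e, hxO, hfl, hfp⟩ := hJchart k P _ hsplit b p₁ p₂ sq hb.1 𝒥 h𝒥 x' hx
    refine ⟨D, ⟨_, O.2.preimage 𝒥.subschemeι⟩, hxO, fun y hy => e hy, ?_⟩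
    have heq := appLE_subschemeι_comp p₂ 𝒥 D O e (fun y hy => e hy)
    rw [heq, CommRingCat.hom_comp, CommRingCat.hom_comp]
    exact ⟨RingHom.Flat.respectsIso.1 _ (𝒥.subschemeObjIso O).symm.commRingCatIsoToRingEquiv hfl,
      RingHom.finitePresentation_respectsIso.1 _ (𝒥.subschemeObjIso O).symm.commRingCatIsoToRingEquiv hfp⟩
  refine ⟨?_, ?_⟩
  · refine (HasRingHomProperty.iff_exists_appLE ?_).2 fun z => ?_
    · exact RingHom.Flat.stableUnderComposition.stableUnderCompositionWithLocalizationAway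
        RingHom.Flat.holdsForLocalizationAway |>.1
    · obtain ⟨D, O, hz, e, hfl, -⟩ := key z
      exact ⟨D, O, hz, e, hfl⟩
  · refine (HasRingHomProperty.iff_exists_appLE ?_).2 fun z => ?_
    · exact RingHom.finitePresentation_stableUnderComposition.stableUnderCompositionWithLocalizationAway
        RingHom.finitePresentation_holdsForLocalizationAway |>.1
    · obtain ⟨D, O, hz, e, -, hfp⟩ := key z
      exact ⟨D, O, hz, e, hfp⟩

end GrothLib.FlatBlow1
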