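import Groth.Agent.Lib.FlatBlow1.AlgChart
import Groth.Agent.Lib.FlatBlow1.Strict
import Groth.Agent.Lib.BlowUp.Exists
import Groth.Agent.Lib.Nagata6.Proper
import Groth.Agent.Lib.Nagata6.StrictNear
import Groth.Agent.Lib.QuasiDom6.Main

/-!
# Flattening by a blow-up in a centre divisible by a given admissible ideal
-/

set_option autoImplicit false
set_option backward.isDefEq.respectTransparency false
universe u

open CategoryTheory CategoryTheory.Limits AlgebraicGeometry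

namespace GrothLib.FlatBlow1

/-- A ring property at affine charts of a closed subscheme. -/
theorem appLE_subschemeι_comp {X Y : Scheme.{u}} (g : X ⟶ Y) (I : X.IdealSheafData) (D : Y.affineOpens)
    (O : X.affineOpens) (e : O.1 ≤ g ⁻¹ᵁ D.1) (e' : I.subschemeι ⁻¹ᵁ O.1 ≤ (I.subschemeι ≫ g) ⁻¹ᵁ D.1) :
    (I.subschemeι ≫ g).appLE D.1 (I.subschemeι ⁻¹ᵁ O.1) e' =
      g.appLE D.1 O.1 e ≫ CommRingCat.ofHom (Ideal.Quotient.mk (I.ideal O)) ≫ (I.subschemeObjIso O).inv := by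
  rw [← I.subschemeι_app O, Scheme.Hom.app_eq_appLE, Scheme.Hom.appLE_comp_appLE]

set_option maxHeartbeats 1600000 in
/-- Flattening by an admissible blow-up in which `Z` becomes a Cartier divisor. -/
theorem exists_flattening {X S : Scheme.{u}} [CompactSpace S] [QuasiSeparatedSpace S]
    (f : X ⟶ S) [LocallyOfFiniteType f] [QuasiCompact f] [QuasiSeparated f] (U : S.Opens) (hU : IsCompact (U : Set S))
    [Flat (f ∣_ U)] [LocallyOfFinitePresentation (f ∣_ U)] (Z : S.IdealSheafData) (hZ : BlowUp.IsAdmissibleFor U Z) :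
    ∃ (P : S.IdealSheafData) (S' : Scheme.{u}) (b : S' ⟶ S), BlowUp.IsBlowUp b P ∧ BlowUp.IsAdmissibleFor U P ∧
      IsProper b ∧ BlowUp.IsEffCartierIdeal (Z.comap b) ∧ (P.support : Set S) ⊇ (Z.support : Set S) ∧
      ∀ (X' : Scheme.{u}) (p₁ : X' ⟶ X) (p₂ : X' ⟶ S'), IsPullback p₁ p₂ f b →
      ∀ (𝒥 : X'.IdealSheafData),
        (∀ (V : X'.affineOpens) (a : Γ(X', V.1)), a ∈ 𝒥.ideal V ↔
          BlowUp.KilledByPowerNear ((P.comap f).comap p₁) (Coh.structureModule X') V a) →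
        Flat (𝒥.subschemeι ≫ p₂) ∧ LocallyOfFinitePresentation (𝒥.subschemeι ≫ p₂) ∧
          QuasiCompact (𝒥.subschemeι ≫ p₂) ∧ QuasiSeparated (𝒥.subschemeι ≫ p₂) := by
  classical
  haveI : CompactSpace X := QuasiCompact.compactSpace_of_compactSpace f
  have hloc : ∀ x : X, ∃ (W : S.affineOpens) (V : X.affineOpens), x ∈ V.1 ∧ V.1 ≤ f ⁻¹ᵁ W.1 := fun x => by
    obtain ⟨W, hW, hxW, -⟩ := exists_isAffineOpen_mem_and_subset (show f.base x ∈ (⊤ : S.Opens) from trivial)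
    obtain ⟨V, hV, hxV, hVW⟩ := exists_isAffineOpen_mem_and_subset (show x ∈ f ⁻¹ᵁ W from hxW)
    exact ⟨⟨W, hW⟩, ⟨V, hV⟩, hxV, hVW⟩
  choose W V hxV hVW using hloc
  obtain ⟨t, ht⟩ := isCompact_univ.elim_finite_subcover (fun x : X => ((V x).1 : Set X)) (fun x => (V x).1.2)
    fun x _ => Set.mem_iUnion.2 ⟨x, hxV x⟩
  choose J hJ hJchart using fun k : t =>
    GrothLib.FlatBlow1.exists_ideal_alg_chart f U hU (W k.1) (V k.1) (hVW k.1)
  let P : S.IdealSheafData := Z * ∏ k, J k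
  have hJs : BlowUp.IsAdmissibleFor U (∏ k, J k) := by
    refine Finset.prod_induction J (BlowUp.IsAdmissibleFor U) (fun A B hA hB => ⟨fun V => ?_, ?_⟩) ?_ fun k _ => hJ k
    · rw [Scheme.IdealSheafData.ideal_mul, Pi.mul_apply]
      exact (hA.1 V).mul (hB.1 V)
    · rw [Scheme.IdealSheafData.support_mul, TopologicalSpace.Closeds.coe_sup]
      exact Set.disjoint_union_left.2 ⟨hA.2, hB.2⟩
    · refine ⟨fun V => ⟨{1}, by simp⟩, ?_⟩
      simp
  have hP : BlowUp.IsAdmissibleFor U P := ⟨fun V => by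
    rw [Scheme.IdealSheafData.ideal_mul, Pi.mul_apply]
    exact Submodule.FG.mul (hZ.1 V) (hJs.1 V), by
    rw [Scheme.IdealSheafData.support_mul, TopologicalSpace.Closeds.coe_sup]
    exact Set.disjoint_union_left.2 ⟨hZ.2, hJs.2⟩⟩
  obtain ⟨S', b, hb⟩ := GrothLib.BlowUp.exists_isBlowUp S P
  have hZb : BlowUp.IsEffCartierIdeal (Z.comap b) := by
    have h : BlowUp.IsEffCartierIdeal ((Z * ∏ k, J k).comap b) := hb.1
    rw [FSchSys.comap_mul] at h
    exact (GrothLib.BlowUp.isEffCartierIdeal_factors_of_mul h).1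
  refine ⟨P, S', b, hb, hP, GrothLib.Nagata6.isProper_of_isBlowUp hP.1 hb, hZb, ?_, fun X' p₁ p₂ sq 𝒥 h𝒥 => ?_⟩
  · rw [Scheme.IdealSheafData.support_mul, TopologicalSpace.Closeds.coe_sup]
    exact Set.subset_union_left
  have key : ∀ z : 𝒥.subscheme, ∃ (D : S'.affineOpens) (O : 𝒥.subscheme.affineOpens) (_ : z ∈ O.1)
      (e : O.1 ≤ (𝒥.subschemeι ≫ p₂) ⁻¹ᵁ D.1), ((𝒥.subschemeι ≫ p₂).appLE D.1 O.1 e).hom.Flat ∧
        ((𝒥.subschemeι ≫ p₂).appLE D.1 O.1 e).hom.FinitePresentation := fun z => by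
    let x' := 𝒥.subschemeι z
    obtain ⟨x, hxt, hx⟩ := Set.mem_iUnion₂.1 (ht (Set.mem_univ (p₁ x')))
    let k : t := ⟨x, hxt⟩
    have hsplit : P.ideal (W k.1) = (J k).ideal (W k.1) * (Z * ∏ i ∈ Finset.univ.erase k, J i).ideal (W k.1) := by
      rw [← Pi.mul_apply, ← Scheme.IdealSheafData.ideal_mul, mul_left_comm,
        Finset.mul_prod_erase _ _ (Finset.mem_univ k)]
    obtain ⟨D, O, e, hxO, hfl, hfp⟩ := hJchart k P _ hsplit b p₁ p₂ sq hb.1 𝒥 h𝒥 x' hx
    refine ⟨D, ⟨_, O.2.preimage 𝒥.subschemeι⟩, hxO, fun y hy => e hy, ?_⟩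
    have heq := appLE_subschemeι_comp p₂ 𝒥 D O e (fun y hy => e hy)
    rw [heq, CommRingCat.hom_comp, CommRingCat.hom_comp]
    exact ⟨RingHom.Flat.respectsIso.1 _ (𝒥.subschemeObjIso O).symm.commRingCatIsoToRingEquiv hfl,
      RingHom.finitePresentation_respectsIso.1 _ (𝒥.subschemeObjIso O).symm.commRingCatIsoToRingEquiv hfp⟩
  refine ⟨?_, ?_, ?_, ?_⟩
  · refine (HasRingHomProperty.iff_exists_appLE ?_).2 fun z => ?_
    · exact RingHom.Flat.stableUnderComposition.stableUnderCompositionWithLocalizationAway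
        RingHom.Flat.holdsForLocalizationAway |>.1
    · obtain ⟨D, O, hz, e, hfl, -⟩ := key z
      exact ⟨D, O, hz, e, hfl⟩
  · refine (HasRingHomProperty.iff_exists_appLE ?_).2 fun z => ?_
    · exact RingHom.finitePresentation_stableUnderComposition.stableUnderCompositionWithLocalizationAway
        RingHom.finitePresentation_holdsForLocalizationAway |>.1
    · obtain ⟨D, O, hz, e, -, hfp⟩ := key z
      exact ⟨D, O, hz, e, hfp⟩
  · haveI : QuasiCompact p₂ := MorphismProperty.of_isPullback sq inferInstance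
    infer_instance
  · haveI : QuasiSeparated p₂ := MorphismProperty.of_isPullback sq inferInstance
    infer_instance


end GrothLib.FlatBlow1
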