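import Groth.Agent.Lib.Flatness.Criterion
import Groth.Agent.Lib.RG6.Open
import Groth.Agent.Lib.Fitting.Transform
import Mathlib.RingTheory.Flat.TorsionFree
import Mathlib.RingTheory.Localization.BaseChange

/-!
# Strict transforms over rings which are valuative along an element

`A` is a ring with an element `e` such that any two elements, one of which divides a power of `e`, are comparable
for divisibility. The ideal `qe e` of elements divisible by all powers of `e` is then a prime with valuation domain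
quotient, and a module without `e`-torsion which is flat after inverting `e` is flat.
-/

set_option autoImplicit false
universe u

open TensorProduct Function

namespace GrothLib.FlatBlow1

variable {A : Type u} [CommRing A]

/-- The elements divisible by all powers of `e`. -/
def qe (e : A) : Ideal A := ⨅ n : ℕ, Ideal.span {e ^ n}

theorem mem_qe {e a : A} : a ∈ qe e ↔ ∀ n : ℕ, e ^ n ∣ a := by
  simp only [qe, Submodule.mem_iInf, Ideal.mem_span_singleton]

/-- Divisibility is total on pairs one of which divides a power of `e`. -/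
def Cmp (e : A) : Prop := ∀ (a b : A) (n : ℕ), b ∣ e ^ n → a ∣ b ∨ b ∣ a

theorem dvd_pow_or_mem_qe {e : A} (h : Cmp e) (a : A) : (∃ n, a ∣ e ^ n) ∨ a ∈ qe e := by
  by_contra hc
  push Not at hc
  obtain ⟨n, hn⟩ : ∃ n, ¬ e ^ n ∣ a := by simpa [mem_qe] using hc.2
  exact (h a (e ^ n) n dvd_rfl).elim (hc.1 n) hn

theorem exists_eq_pow_mul {e : A} (he : e ∈ nonZeroDivisors A) {a : A} (ha : a ∈ qe e) (k : ℕ) :
    ∃ a' ∈ qe e, a = e ^ k * a' := by
  obtain ⟨a', ha'⟩ := mem_qe.1 ha k
  refine ⟨a', mem_qe.2 fun n => ?_, ha'⟩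
  obtain ⟨c, hc⟩ := mem_qe.1 ha (k + n)
  refine ⟨c, sub_eq_zero.1 (mem_nonZeroDivisors_iff_left.1 (pow_mem he k) _ ?_)⟩
  rw [mul_sub, ← ha', hc, ← mul_assoc, ← pow_add, sub_self]

theorem mem_qe_of_pow_mul {e : A} (he : e ∈ nonZeroDivisors A) {a : A} {k : ℕ} (ha : e ^ k * a ∈ qe e) :
    a ∈ qe e := by
  obtain ⟨a', ha', h⟩ := exists_eq_pow_mul he ha k
  have : a = a' := sub_eq_zero.1 (mem_nonZeroDivisors_iff_left.1 (pow_mem he k) _ (by rw [mul_sub, h, sub_self]))
  rw [this]
  exact ha'

theorem not_mem_qe {e : A} (he : e ∈ nonZeroDivisors A) (hu : ¬ IsUnit e) {a : A} {n : ℕ} (ha : a ∣ e ^ n) :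
    a ∉ qe e := fun h => by
  obtain ⟨c, hc⟩ := (mem_qe.1 h (n + 1)).trans ha
  refine hu (IsUnit.of_mul_eq_one c ?_)
  refine (sub_eq_zero.1 (mem_nonZeroDivisors_iff_left.1 (pow_mem he n) _ ?_)).symm
  rw [mul_sub, mul_one, sub_eq_zero, ← mul_assoc, ← pow_succ, ← hc]

theorem isPrime_qe {e : A} (h : Cmp e) (he : e ∈ nonZeroDivisors A) (hu : ¬ IsUnit e) : (qe e).IsPrime := by
  refine Ideal.isPrime_iff.2 ⟨fun ht => not_mem_qe he hu (n := 0) (one_dvd _) (ht ▸ Submodule.mem_top), ?_⟩
  intro a b hab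
  rcases dvd_pow_or_mem_qe h a with ⟨n, hn⟩ | ha
  · rcases dvd_pow_or_mem_qe h b with ⟨m, hm⟩ | hb
    · exact absurd hab (not_mem_qe he hu (n := n + m) (pow_add e n m ▸ mul_dvd_mul hn hm))
    · exact Or.inr hb
  · exact Or.inl ha

/-- A finite set containing a divisor of a power of `e` has a common divisor among its members. -/
theorem exists_generator {e : A} (h : Cmp e) (s : Finset A) {a : A} (ha : a ∈ s) {n : ℕ} (hn : a ∣ e ^ n) :
    ∃ d ∈ s, (∃ m, d ∣ e ^ m) ∧ ∀ x ∈ s, d ∣ x := by
  classical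
  suffices ∀ t : Finset A, ∃ d ∈ insert a t, (∃ m, d ∣ e ^ m) ∧ ∀ x ∈ insert a t, d ∣ x by
    obtain ⟨d, hd, h1, h2⟩ := this s
    rw [Finset.insert_eq_self.2 ha] at hd h2
    exact ⟨d, hd, h1, h2⟩
  intro t
  induction t using Finset.induction_on with
  | empty => exact ⟨a, by simp, ⟨n, hn⟩, by simp⟩
  | insert x t _ ih =>
    obtain ⟨d, hd, ⟨m, hm⟩, hall⟩ := ih
    rcases h x d m hm with hxd | hdx
    · refine ⟨x, by simp, ⟨m, hxd.trans hm⟩, fun y hy => ?_⟩
      rw [Finset.insert_comm, Finset.mem_insert] at hy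
      rcases hy with rfl | hy
      · exact dvd_rfl
      · exact hxd.trans (hall y hy)
    · refine ⟨d, ?_, ⟨m, hm⟩, fun y hy => ?_⟩
      · rw [Finset.insert_comm]
        exact Finset.mem_insert_of_mem hd
      · rw [Finset.insert_comm, Finset.mem_insert] at hy
        rcases hy with rfl | hy
        · exact hdx
        · exact hall y hy

section Flat

variable {e : A} (he : e ∈ nonZeroDivisors A) {N E : Type u} [AddCommGroup N] [Module A N] [AddCommGroup E]
  [Module A E] (lam : N →ₗ[A] E) [IsLocalizedModule (Submonoid.powers e) lam] [Module.Flat A E]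

include he lam

/-- Tensoring is injective on ideals on which `e` acts bijectively. -/
theorem lTensor_injective_of_pow_mul (K : Ideal A) (hK : ∀ a ∈ K, ∀ k : ℕ, ∃ a' ∈ K, a = e ^ k * a') :
    Injective (K.subtype.lTensor N) := by
  rw [injective_iff_map_eq_zero]
  intro x hx
  let L := AlgebraTensorModule.rTensor A K lam
  have h1 : L x = 0 := by
    refine Module.Flat.lTensor_preserves_injective_linearMap (M := E) K.subtype Subtype.val_injective ?_
    rw [map_zero]
    have hcomm : ∀ x, K.subtype.lTensor E (L x) = lam.rTensor A (K.subtype.lTensor N x) := fun x => by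
      induction x using TensorProduct.induction_on with
      | zero => simp
      | tmul m a => rfl
      | add a b ha hb => simp only [map_add, ha, hb]
    rw [hcomm, hx, map_zero]
  obtain ⟨⟨_, k, rfl⟩, hk⟩ := (IsLocalizedModule.eq_zero_iff (Submonoid.powers e) L).1 h1
  rw [Submonoid.smul_def] at hk
  have hs : Surjective (DistribSMul.toLinearMap A K (e ^ k)) := fun a => by
    obtain ⟨a', ha', h⟩ := hK a.1 a.2 k
    exact ⟨⟨a', ha'⟩, Subtype.ext h.symm⟩
  have hi : Injective (DistribSMul.toLinearMap A K (e ^ k)) := fun a b hab => Subtype.ext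
    (sub_eq_zero.1 (mem_nonZeroDivisors_iff_left.1 (pow_mem he k) _ (by
      rw [mul_sub, sub_eq_zero]; exact congrArg Subtype.val hab)))
  let ψ := LinearEquiv.ofBijective _ ⟨hi, hs⟩
  apply (TensorProduct.congr (LinearEquiv.refl A N) ψ).injective
  rw [map_zero]
  refine Eq.trans ?_ hk
  clear hk h1 hx
  induction x using TensorProduct.induction_on with
  | zero => simp
  | add a b ha hb => rw [map_add, ha, hb, smul_add]
  | tmul m a => rw [TensorProduct.congr_tmul, ← TensorProduct.tmul_smul]; rfl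

/-- Tensoring is injective on the ideal `qe e`. -/
theorem lTensor_qe_injective : Injective ((qe e).subtype.lTensor N) :=
  lTensor_injective_of_pow_mul he lam (qe e) fun _ ha k => exists_eq_pow_mul he ha k

omit [Module.Flat A E] in
theorem eq_zero_of_pow_smul (hinj : Injective lam) {m : N} {k : ℕ} (h : e ^ k • m = 0) : m = 0 := by
  refine hinj ?_
  rw [map_zero]
  exact (IsLocalizedModule.eq_zero_iff (Submonoid.powers e) lam).2 ⟨⟨e ^ k, k, rfl⟩, h⟩

omit [Module.Flat A E] in
/-- An element dividing a power of `e` is a non-zero-divisor on `N / qN`. -/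
theorem mem_qe_smul_of_smul_mem (hinj : Injective lam) {d : A} {n : ℕ} (hd : d ∣ e ^ n) {m : N}
    (h : d • m ∈ qe e • (⊤ : Submodule A N)) : m ∈ qe e • (⊤ : Submodule A N) := by
  obtain ⟨c, hc⟩ := hd
  have h1 : e ^ n • m ∈ qe e • (⊤ : Submodule A N) := by
    rw [hc, mul_comm, mul_smul]
    exact Submodule.smul_mem _ c h
  have h2 : ∀ z ∈ qe e • (⊤ : Submodule A N), ∃ w ∈ qe e • (⊤ : Submodule A N), z = e ^ n • w := by
    intro z hz
    refine Submodule.smul_induction_on hz ?_ ?_
    · intro a ha w _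
      obtain ⟨a', ha', rfl⟩ := exists_eq_pow_mul he ha n
      exact ⟨a' • w, Submodule.smul_mem_smul ha' Submodule.mem_top, mul_smul _ _ _⟩
    · rintro z z' ⟨w, hw, rfl⟩ ⟨w', hw', rfl⟩
      exact ⟨w + w', add_mem hw hw', (smul_add _ _ _).symm⟩
  obtain ⟨w, hw, hw'⟩ := h2 _ h1
  have : m = w := sub_eq_zero.1 (eq_zero_of_pow_smul he lam hinj (k := n) (by rw [smul_sub, hw', sub_self]))
  rw [this]
  exact hw

/-- `N / qN` is flat over the valuation domain `A / q`. -/
theorem flat_quotient (h : Cmp e) (hu : ¬ IsUnit e) (hinj : Injective lam) :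
    Module.Flat (A ⧸ qe e) ((A ⧸ qe e) ⊗[A] N) := by
  classical
  haveI := isPrime_qe h he hu
  haveI : IsBezout (A ⧸ qe e) := ⟨fun J ⟨s, hs⟩ => by
    by_cases hne : ∃ x ∈ s, x ≠ 0
    · obtain ⟨x, hx, hx0⟩ := hne
      choose lift hlift using fun y : A ⧸ qe e => Ideal.Quotient.mk_surjective y
      have hlx : lift x ∉ qe e := fun hm => hx0 (by rw [← hlift x]; exact Ideal.Quotient.eq_zero_iff_mem.2 hm)
      obtain ⟨m, hm⟩ := (dvd_pow_or_mem_qe h (lift x)).resolve_right hlx
      obtain ⟨d, hd, -, hdall⟩ := exists_generator h (s.image lift) (Finset.mem_image_of_mem lift hx) hm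
      refine ⟨Ideal.Quotient.mk _ d, le_antisymm ?_ ?_⟩
      · rw [← hs, Ideal.submodule_span_eq, Ideal.span_le]
        intro y hy
        rw [SetLike.mem_coe, Ideal.mem_span_singleton, ← hlift y]
        exact map_dvd _ (hdall _ (Finset.mem_image_of_mem lift hy))
      · obtain ⟨y, hy, rfl⟩ := Finset.mem_image.1 hd
        rw [Ideal.submodule_span_eq, Ideal.span_singleton_le_iff_mem, ← hs, hlift y]
        exact Ideal.subset_span hy
    · push Not at hne
      refine ⟨0, ?_⟩
      rw [← hs, Ideal.submodule_span_eq, Ideal.span_singleton_zero, Ideal.span_eq_bot]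
      exact hne⟩
  rw [Module.Flat.flat_iff_torsion_eq_bot_of_isBezout, eq_bot_iff]
  intro z hz
  obtain ⟨⟨v, hv⟩, hvz⟩ := (Submodule.mem_torsion_iff z).1 hz
  obtain ⟨a, rfl⟩ := Ideal.Quotient.mk_surjective v
  have ha : a ∉ qe e := fun hm => nonZeroDivisors.ne_zero hv (Ideal.Quotient.eq_zero_iff_mem.2 hm)
  obtain ⟨n, hn⟩ := (dvd_pow_or_mem_qe h a).resolve_right ha
  let E' := TensorProduct.quotTensorEquivQuotSMul N (qe e)
  obtain ⟨m, hm⟩ := Submodule.mkQ_surjective _ (E' z)
  have h0 : a • E' z = 0 := by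
    rw [← map_smul, ← algebraMap_smul (A ⧸ qe e) a z]
    exact (congrArg E' hvz).trans (map_zero _)
  rw [← hm, ← map_smul, Submodule.mkQ_apply, Submodule.Quotient.mk_eq_zero] at h0
  rw [Submodule.mem_bot, ← E'.map_eq_zero_iff, ← hm, Submodule.mkQ_apply, Submodule.Quotient.mk_eq_zero]
  exact mem_qe_smul_of_smul_mem he lam hinj hn h0

/-- **A torsion free module which is flat after inverting `e` is flat.** -/
theorem flat_of_valuative (h : Cmp e) (hinj : Injective lam) : Module.Flat A N := by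
  classical
  rw [Module.Flat.iff_lTensor_injective]
  intro I hI
  obtain ⟨s, rfl⟩ := hI
  by_cases hc : ∃ a ∈ s, ∃ n, a ∣ e ^ n
  · obtain ⟨a, ha, n, hn⟩ := hc
    obtain ⟨d, hd, ⟨m, hm⟩, hall⟩ := exists_generator h s ha hn
    let dI : Ideal.span (s : Set A) := ⟨d, Ideal.subset_span hd⟩
    have hall' : ∀ y : Ideal.span (s : Set A), ∃ c, y = c • dI := fun y => by
      obtain ⟨c, hc⟩ := Ideal.mem_span_singleton'.1
        ((Ideal.span_le.2 fun x hx => Ideal.mem_span_singleton.2 (hall x hx)) y.2 : y.1 ∈ Ideal.span {d})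
      exact ⟨c, Subtype.ext hc.symm⟩
    have key : ∀ x : N ⊗[A] Ideal.span (s : Set A), ∃ w, x = w ⊗ₜ dI := by
      intro x
      induction x using TensorProduct.induction_on with
      | zero => exact ⟨0, (TensorProduct.zero_tmul _ _).symm⟩
      | tmul w y =>
        obtain ⟨c, rfl⟩ := hall' y
        exact ⟨c • w, (TensorProduct.smul_tmul c w dI).symm⟩
      | add x y hx hy =>
        obtain ⟨w, rfl⟩ := hx
        obtain ⟨w', rfl⟩ := hy
        exact ⟨w + w', (TensorProduct.add_tmul _ _ _).symm⟩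
    rw [injective_iff_map_eq_zero]
    intro x hx
    obtain ⟨w, rfl⟩ := key x
    have h1 : d • w = 0 := by
      have := congrArg (TensorProduct.rid A N) hx
      rwa [LinearMap.lTensor_tmul, TensorProduct.rid_tmul, map_zero] at this
    obtain ⟨c, hc⟩ := hm
    rw [eq_zero_of_pow_smul he lam hinj (m := w) (k := m) (by rw [hc, mul_comm, mul_smul, h1, smul_zero]),
      TensorProduct.zero_tmul]
  · push Not at hc
    have hIq : Ideal.span (s : Set A) ≤ qe e := Ideal.span_le.2 fun a ha =>
      (dvd_pow_or_mem_qe h a).resolve_left fun ⟨n, hn⟩ => hc a ha n hn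
    by_cases hu : IsUnit e
    · have hbij : Injective lam ∧ Surjective lam := ⟨hinj, fun y => by
        obtain ⟨⟨m, ⟨_, k, rfl⟩⟩, hk⟩ := IsLocalizedModule.surj (Submonoid.powers e) lam y
        refine ⟨(↑(hu.pow k).unit⁻¹ : A) • m, ?_⟩
        rw [map_smul, ← hk, Submonoid.smul_def, smul_smul, (hu.pow k).val_inv_mul, one_smul]⟩
      haveI := Module.Flat.of_linearEquiv (LinearEquiv.ofBijective lam hbij)
      exact Module.Flat.lTensor_preserves_injective_linearMap _ Subtype.val_injective
    let I := Ideal.span (s : Set A)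
    let K : Ideal A :=
      { carrier := {a | ∃ n : ℕ, e ^ n * a ∈ I}
        zero_mem' := ⟨0, by simp⟩
        add_mem' := fun {a b} ⟨n, hn⟩ ⟨m, hm⟩ => ⟨n + m, by
          rw [show e ^ (n + m) * (a + b) = e ^ m * (e ^ n * a) + e ^ n * (e ^ m * b) by ring]
          exact add_mem (I.mul_mem_left _ hn) (I.mul_mem_left _ hm)⟩
        smul_mem' := fun c a ⟨n, hn⟩ => ⟨n, by
          rw [smul_eq_mul, mul_left_comm]; exact I.mul_mem_left _ hn⟩ }
    have hIK : I ≤ K := fun a ha => ⟨0, by simpa using ha⟩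
    have hKq : K ≤ qe e := fun a ⟨n, hn⟩ => mem_qe_of_pow_mul he (hIq hn)
    have hKdiv : ∀ a ∈ K, ∀ k : ℕ, ∃ a' ∈ K, a = e ^ k * a' := fun a ⟨n, hn⟩ k => by
      obtain ⟨a', -, ha'⟩ := exists_eq_pow_mul he (hKq ⟨n, hn⟩) k
      exact ⟨a', ⟨n + k, by rwa [pow_add, mul_assoc, ← ha']⟩, ha'⟩
    have hgood : Flatness.Good A N (K ⧸ LinearMap.range (Submodule.inclusion hIK)) := by
      refine Flatness.good_of_isTorsionBySet (qe e) (lTensor_qe_injective he lam) (flat_quotient he lam h hu hinj)
        _ fun z a => ?_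
      obtain ⟨⟨x, n, hn⟩, rfl⟩ := Submodule.mkQ_surjective _ z
      obtain ⟨a', -, ha'⟩ := exists_eq_pow_mul he a.2 n
      rw [← map_smul, Submodule.mkQ_apply, Submodule.Quotient.mk_eq_zero]
      refine ⟨⟨(a : A) * x, ?_⟩, rfl⟩
      rw [ha', mul_comm (e ^ n), mul_assoc]
      exact I.mul_mem_left _ hn
    have e1 : I.subtype = K.subtype ∘ₗ Submodule.inclusion hIK := rfl
    show Injective (I.subtype.lTensor N)
    rw [e1, LinearMap.lTensor_comp]
    exact (lTensor_injective_of_pow_mul he lam K hKdiv).comp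
      (Flatness.Good.lTensor_injective _ (Submodule.inclusion_injective hIK) hgood)

end Flat

set_option maxHeartbeats 800000 in
/-- `N / (T + qN)` is the reduction of `N / T`, hence flat over `A / q`. -/
theorem flat_mod_sup {B N : Type u} [CommRing B] [Algebra A B] [AddCommGroup N] [Module B N] [Module A N]
    [IsScalarTower A B N] (q : Ideal A) (T U : Submodule B N) (hU : U = T ⊔ q.map (algebraMap A B) • ⊤)
    [Module.Flat (A ⧸ q) ((A ⧸ q) ⊗[A] (N ⧸ T))] [Module (A ⧸ q) (N ⧸ U)] [IsScalarTower A (A ⧸ q) (N ⧸ U)] :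
    Module.Flat (A ⧸ q) (N ⧸ U) := by
  have hle : T ≤ U := hU ▸ le_sup_left
  let p : (N ⧸ T) →ₗ[A] N ⧸ U := (Submodule.factor hle).restrictScalars A
  have hp : Surjective p := Submodule.factor_surjective hle
  have hsmul : ∀ m ∈ q.map (algebraMap A B) • (⊤ : Submodule B N), T.mkQ m ∈ q • (⊤ : Submodule A (N ⧸ T)) := by
    intro m hm
    refine Submodule.smul_induction_on hm ?_ fun _ _ hx hy => by rw [map_add]; exact add_mem hx hy
    intro b hb x _
    induction hb using Submodule.span_induction generalizing x with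
    | mem b hb =>
      obtain ⟨a, ha, rfl⟩ := hb
      rw [algebraMap_smul, LinearMap.map_smul_of_tower]
      exact Submodule.smul_mem_smul ha Submodule.mem_top
    | zero => rw [zero_smul, map_zero]; exact zero_mem _
    | add b b' _ _ ih ih' =>
      rw [add_smul, map_add]
      exact add_mem (ih x Submodule.mem_top) (ih' x Submodule.mem_top)
    | smul c b _ ih =>
      rw [smul_eq_mul, mul_comm, mul_smul]
      exact ih (c • x) Submodule.mem_top
  let ψ : (A ⧸ q) ⊗[A] (N ⧸ T) →ₗ[A ⧸ q] N ⧸ U := p.liftBaseChange (A ⧸ q)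
  refine Module.Flat.of_linearEquiv (LinearEquiv.ofBijective ψ ⟨?_, fun z => ?_⟩).symm
  · rw [injective_iff_map_eq_zero]
    intro z hz
    obtain ⟨y, rfl⟩ : ∃ y, (1 : A ⧸ q) ⊗ₜ[A] y = z := by
      clear hz
      induction z using TensorProduct.induction_on with
      | zero => exact ⟨0, TensorProduct.tmul_zero _ _⟩
      | tmul v y =>
        obtain ⟨a, rfl⟩ := Ideal.Quotient.mk_surjective v
        refine ⟨a • y, ?_⟩
        rw [← TensorProduct.smul_tmul, Algebra.smul_def, mul_one]
        rfl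
      | add z z' ih ih' =>
        obtain ⟨y, rfl⟩ := ih
        obtain ⟨y', rfl⟩ := ih'
        exact ⟨y + y', TensorProduct.tmul_add _ _ _⟩
    obtain ⟨m, rfl⟩ := T.mkQ_surjective y
    rw [LinearMap.liftBaseChange_tmul, one_smul] at hz
    have hmU : m ∈ U := (Submodule.Quotient.mk_eq_zero U).1 hz
    rw [hU] at hmU
    obtain ⟨t, ht, w, hw, htw⟩ := Submodule.mem_sup.1 hmU
    have hmem : T.mkQ m ∈ q • (⊤ : Submodule A (N ⧸ T)) := by
      rw [← htw, map_add, show T.mkQ t = 0 from (Submodule.Quotient.mk_eq_zero T).2 ht, zero_add]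
      exact hsmul w hw
    refine Submodule.smul_induction_on hmem ?_ fun _ _ hx hy => by rw [TensorProduct.tmul_add, hx, hy, add_zero]
    intro a ha x _
    rw [← TensorProduct.smul_tmul, Algebra.smul_def, mul_one, Ideal.Quotient.algebraMap_eq,
      Ideal.Quotient.eq_zero_iff_mem.2 ha, TensorProduct.zero_tmul]
  · obtain ⟨y, rfl⟩ := hp z
    exact ⟨1 ⊗ₜ y, by rw [LinearMap.liftBaseChange_tmul, one_smul]⟩

set_option maxHeartbeats 1000000 in
/-- Over a prime `q` with flat reduction of `N / T`, finitely many elements of `T` generate it modulo `qN`. -/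
theorem exists_fg_le_sup {B N : Type u} [CommRing B] [Algebra A B] [Algebra.FiniteType A B] [AddCommGroup N]
    [Module B N] [Module A N] [IsScalarTower A B N] [Module.Finite B N] (q : Ideal A) [q.IsPrime]
    (T : Submodule B N) [Module.Flat (A ⧸ q) ((A ⧸ q) ⊗[A] (N ⧸ T))] :
    ∃ T' : Submodule B N, T'.FG ∧ T' ≤ T ∧ T ≤ T' ⊔ q.map (algebraMap A B) • ⊤ := by
  classical
  obtain ⟨U, hU⟩ : ∃ U : Submodule B N, U = T ⊔ q.map (algebraMap A B) • ⊤ := ⟨_, rfl⟩
  obtain ⟨Q, hQ⟩ : ∃ Q : Submodule B N, Q = q.map (algebraMap A B) • ⊤ := ⟨_, rfl⟩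
  have hQU : Q ≤ U := by rw [hU, hQ]; exact le_sup_right
  let V := B ⧸ q.map (algebraMap A B)
  letI : Algebra (A ⧸ q) V := Ideal.Quotient.algebraQuotientOfLEComap Ideal.le_comap_map
  haveI : IsScalarTower A (A ⧸ q) V := IsScalarTower.of_algebraMap_eq fun _ => rfl
  haveI : Algebra.FiniteType A V := Algebra.FiniteType.trans (S := B) inferInstance inferInstance
  haveI : Algebra.FiniteType (A ⧸ q) V := Algebra.FiniteType.of_restrictScalars_finiteType A _ _
  have htor : ∀ W : Submodule B N, Q ≤ W → Module.IsTorsionBySet B (N ⧸ W) (q.map (algebraMap A B)) :=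
    fun W hW z a => by
      obtain ⟨m, rfl⟩ := W.mkQ_surjective z
      rw [← map_smul, Submodule.mkQ_apply, Submodule.Quotient.mk_eq_zero]
      exact hW (hQ.symm ▸ Submodule.smul_mem_smul a.2 Submodule.mem_top)
  letI : Module V (N ⧸ U) := (htor U hQU).module
  haveI : IsScalarTower B V (N ⧸ U) := (htor U hQU).isScalarTower
  letI : Module V (N ⧸ Q) := (htor Q le_rfl).module
  haveI : IsScalarTower B V (N ⧸ Q) := (htor Q le_rfl).isScalarTower
  letI : Module (A ⧸ q) (N ⧸ U) := Module.compHom _ (algebraMap (A ⧸ q) V)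
  haveI : IsScalarTower (A ⧸ q) V (N ⧸ U) := IsScalarTower.of_algebraMap_smul fun _ _ => rfl
  haveI : IsScalarTower A (A ⧸ q) (N ⧸ U) := IsScalarTower.of_algebraMap_smul fun a z => by
    obtain ⟨m, rfl⟩ := U.mkQ_surjective z
    exact algebraMap_smul B a (U.mkQ m)
  haveI : Module.Finite V (N ⧸ U) := Module.Finite.of_restrictScalars_finite B V _
  haveI : Module.Finite V (N ⧸ Q) := Module.Finite.of_restrictScalars_finite B V _
  haveI := flat_mod_sup q T U hU
  haveI : Module.FinitePresentation V (N ⧸ U) := RG6.fp_of_flat (R := A ⧸ q) RG6.finite_weakAss_domain _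
  let gV : (N ⧸ Q) →ₗ[V] N ⧸ U :=
    { toFun := Submodule.factor hQU
      map_add' := map_add _
      map_smul' := fun v z => by
        obtain ⟨b, rfl⟩ := Ideal.Quotient.mk_surjective v
        exact map_smul (Submodule.factor hQU) b z }
  obtain ⟨F, hF⟩ := Module.FinitePresentation.fg_ker gV (Submodule.factor_surjective hQU)
  have hpre : ∀ z ∈ F, ∃ t ∈ T, Q.mkQ t = z := by
    intro z hz
    obtain ⟨m, rfl⟩ := Q.mkQ_surjective z
    have h1 : m ∈ U :=
      (Submodule.Quotient.mk_eq_zero U).1 (LinearMap.mem_ker.1 (hF ▸ Submodule.subset_span hz))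
    rw [hU] at h1
    obtain ⟨t, ht, w, hw, rfl⟩ := Submodule.mem_sup.1 h1
    exact ⟨t, ht, by rw [map_add, show Q.mkQ w = 0 from (Submodule.Quotient.mk_eq_zero Q).2 (hQ.symm ▸ hw), add_zero]⟩
  choose t htT htz using hpre
  refine ⟨Submodule.span B (Set.range fun z : F => t z.1 z.2), Submodule.fg_span (Set.finite_range _),
    Submodule.span_le.2 (by rintro _ ⟨z, rfl⟩; exact htT _ _), fun m hm => ?_⟩
  rw [← hQ]
  have h1 : Q.mkQ m ∈ LinearMap.ker gV := LinearMap.mem_ker.2
    ((Submodule.Quotient.mk_eq_zero U).2 (hU.symm ▸ Submodule.mem_sup_left hm))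
  rw [← hF] at h1
  have h2 : Q.mkQ m ∈ (Submodule.span B (Set.range fun z : F => t z.1 z.2)).map Q.mkQ := by
    clear hm
    generalize Q.mkQ m = z0 at h1 ⊢
    induction h1 using Submodule.span_induction with
    | mem z hz => exact ⟨t z hz, Submodule.subset_span ⟨⟨z, hz⟩, rfl⟩, htz z hz⟩
    | zero => exact zero_mem _
    | add a b _ _ ha hb => exact add_mem ha hb
    | smul v z _ hz =>
      obtain ⟨b, rfl⟩ := Ideal.Quotient.mk_surjective v
      exact Submodule.smul_mem _ b hz
  obtain ⟨t', ht', heq⟩ := h2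
  rw [Submodule.mkQ_apply, Submodule.mkQ_apply, Submodule.Quotient.eq] at heq
  rw [show m = t' - (t' - m) by abel]
  exact sub_mem (Submodule.mem_sup_left ht') (Submodule.mem_sup_right heq)

/-- A submodule with flat quotient meets `qN` in `qT`, for `q` an ideal of the base. -/
theorem mem_smul_of_flat {B N : Type u} [CommRing B] [Algebra A B] [AddCommGroup N]
    [Module B N] [Module A N] [IsScalarTower A B N] (q : Ideal A) (T : Submodule B N) [Module.Flat A (N ⧸ T)]
    {w : N} (hwT : w ∈ T) (hw : w ∈ q.map (algebraMap A B) • (⊤ : Submodule B N)) :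
    w ∈ q.map (algebraMap A B) • T := by
  have hmu : ∃ z : q ⊗[A] N, (TensorProduct.lid A N) (q.subtype.rTensor N z) = w := by
    refine Submodule.smul_induction_on hw ?_ fun _ _ ⟨z, hz⟩ ⟨z', hz'⟩ => ⟨z + z', by
      rw [map_add, map_add, hz, hz']⟩
    intro b hb x _
    induction hb using Submodule.span_induction generalizing x with
    | mem b hb =>
      obtain ⟨a, ha, rfl⟩ := hb
      exact ⟨⟨a, ha⟩ ⊗ₜ x, by simp [algebraMap_smul]⟩
    | zero => exact ⟨0, by simp⟩
    | add b b' _ _ ih ih' =>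
      obtain ⟨z, hz⟩ := ih x Submodule.mem_top
      obtain ⟨z', hz'⟩ := ih' x Submodule.mem_top
      exact ⟨z + z', by rw [map_add, map_add, hz, hz', add_smul]⟩
    | smul c b _ ih =>
      obtain ⟨z, hz⟩ := ih (c • x) Submodule.mem_top
      exact ⟨z, by rw [hz, smul_eq_mul, mul_comm, mul_smul]⟩
  obtain ⟨z, rfl⟩ := hmu
  let q0 : N →ₗ[A] N ⧸ T := T.mkQ.restrictScalars A
  let i0 : T →ₗ[A] N := T.subtype.restrictScalars A
  have hex : Exact (i0.lTensor q) (q0.lTensor q) :=
    lTensor_exact _ (fun m => by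
      constructor
      · exact fun hm => ⟨⟨m, (Submodule.Quotient.mk_eq_zero T).1 hm⟩, rfl⟩
      · rintro ⟨⟨m, hm⟩, rfl⟩
        exact (Submodule.Quotient.mk_eq_zero T).2 hm) T.mkQ_surjective
  have hcomm : ∀ z, TensorProduct.lid A (N ⧸ T) (q.subtype.rTensor (N ⧸ T) (q0.lTensor q z)) =
      q0 (TensorProduct.lid A N (q.subtype.rTensor N z)) := by
    intro z
    induction z using TensorProduct.induction_on with
    | zero => simp
    | tmul a x => simp [q0, LinearMap.map_smul_of_tower]
    | add a b ha hb => simp only [map_add, ha, hb]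
  have hz0 : q0.lTensor q z = 0 := by
    refine Module.Flat.rTensor_preserves_injective_linearMap (M := N ⧸ T) q.subtype Subtype.val_injective ?_
    apply (TensorProduct.lid A (N ⧸ T)).injective
    rw [map_zero, map_zero, hcomm]
    exact (Submodule.Quotient.mk_eq_zero T).2 hwT
  obtain ⟨z', rfl⟩ := (hex z).1 hz0
  clear hz0 hwT hw hex
  induction z' using TensorProduct.induction_on with
  | zero => simp
  | tmul a x =>
    simp only [LinearMap.lTensor_tmul, LinearMap.rTensor_tmul, Submodule.subtype_apply, TensorProduct.lid_tmul]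
    show a.1 • (x : N) ∈ _
    rw [← algebraMap_smul B a.1 (x : N)]
    exact Submodule.smul_mem_smul (Ideal.mem_map_of_mem _ a.2) x.2
  | add a b ha hb => simp only [map_add]; exact add_mem ha hb

/-- **The strict transform over a valuative ring** is flat and its kernel is finitely generated. -/
theorem flat_fg_powTorsion {B N : Type u} [CommRing B] [Algebra A B] [Algebra.FiniteType A B] [AddCommGroup N]
    [Module B N] [Module A N] [IsScalarTower A B N] [Module.FinitePresentation B N] (e : A) (h : Cmp e)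
    (he : e ∈ nonZeroDivisors A) [Module.Flat A (LocalizedModule (Submonoid.powers e) N)] :
    Module.Flat A (N ⧸ FlatCA.powTorsion B (algebraMap A B e) N) ∧
      (FlatCA.powTorsion B (algebraMap A B e) N).FG := by
  classical
  obtain ⟨T, hTdef⟩ : ∃ T, T = FlatCA.powTorsion B (algebraMap A B e) N := ⟨_, rfl⟩
  rw [← hTdef]
  let lam0 := LocalizedModule.mkLinearMap (Submonoid.powers e) N
  have hT : ∀ m : N, m ∈ T ↔ lam0 m = 0 := fun m => by
    rw [IsLocalizedModule.eq_zero_iff (Submonoid.powers e), hTdef, Fitting.mem_powTorsion_iff]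
    constructor
    · rintro ⟨k, hk⟩
      exact ⟨⟨e ^ k, k, rfl⟩, by rw [Submonoid.smul_def, ← algebraMap_smul B, map_pow]; exact hk⟩
    · rintro ⟨⟨_, k, rfl⟩, hk⟩
      exact ⟨k, by rw [← map_pow, algebraMap_smul]; exact hk⟩
  let lam : (N ⧸ T) →ₗ[A] LocalizedModule (Submonoid.powers e) N :=
    { toFun := Quotient.lift lam0 fun a b hab => by
        rw [← sub_eq_zero, ← map_sub]
        exact (hT _).1 ((Submodule.quotientRel_def _).1 hab)
      map_add' := by
        rintro ⟨a⟩ ⟨b⟩
        exact map_add lam0 a b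
      map_smul' := by
        rintro r ⟨a⟩
        exact map_smul lam0 r a }
  have hlam : ∀ m, lam (T.mkQ m) = lam0 m := fun _ => rfl
  have hinj : Injective lam := by
    rw [injective_iff_map_eq_zero]
    intro z hz
    obtain ⟨m, rfl⟩ := T.mkQ_surjective z
    rw [hlam] at hz
    rw [Submodule.mkQ_apply, Submodule.Quotient.mk_eq_zero]
    exact (hT m).2 hz
  haveI : IsLocalizedModule (Submonoid.powers e) lam := by
    refine ⟨fun s => IsLocalizedModule.map_units lam0 s, fun y => ?_, fun {a b} hab => ⟨1, ?_⟩⟩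
    · obtain ⟨⟨m, s⟩, hs⟩ := IsLocalizedModule.surj (Submonoid.powers e) lam0 y
      exact ⟨⟨T.mkQ m, s⟩, hs⟩
    · rw [one_smul, one_smul]
      exact hinj hab
  have hflat : Module.Flat A (N ⧸ T) := flat_of_valuative he lam h hinj
  refine ⟨hflat, ?_⟩
  by_cases hu : IsUnit e
  · convert Submodule.fg_bot (R := B) (M := N)
    rw [eq_bot_iff]
    intro m hm
    obtain ⟨k, hk⟩ := (Fitting.mem_powTorsion_iff _ _).1 (hTdef ▸ hm)
    exact ((hu.map _).pow k).smul_left_cancel.1 (hk.trans (smul_zero _).symm)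
  haveI := isPrime_qe h he hu
  haveI := flat_quotient he lam h hu hinj
  obtain ⟨T', hT'fg, hT'T, hTsub⟩ := exists_fg_le_sup (qe e) T
  convert hT'fg
  refine le_antisymm (fun x hx => ?_) hT'T
  obtain ⟨t', ht', w, hw, rfl⟩ := Submodule.mem_sup.1 (hTsub hx)
  refine add_mem ht' ?_
  have hwq : w ∈ (qe e).map (algebraMap A B) • T :=
    mem_smul_of_flat (qe e) T ((Submodule.add_mem_iff_right T (hT'T ht')).1 hx) hw
  have hw0 : w = 0 := by
    refine Submodule.smul_induction_on hwq ?_ fun _ _ hx hy => by rw [hx, hy, add_zero]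
    intro b hb y hy
    induction hb using Submodule.span_induction generalizing y with
    | mem b hb =>
      obtain ⟨a, ha, rfl⟩ := hb
      obtain ⟨k, hk⟩ := (Fitting.mem_powTorsion_iff _ _).1 (hTdef ▸ hy)
      obtain ⟨a', -, rfl⟩ := exists_eq_pow_mul he ha k
      rw [map_mul, map_pow, mul_comm, mul_smul, hk, smul_zero]
    | zero => rw [zero_smul]
    | add b b' _ _ ih ih' => rw [add_smul, ih y hy, ih' y hy, add_zero]
    | smul c b _ ih =>
      rw [smul_eq_mul, mul_comm, mul_smul]
      exact ih (c • y) (T.smul_mem c hy)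
  rw [hw0]
  exact zero_mem _

end GrothLib.FlatBlow1
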